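import Mathlib
import Cfsg.Agent.Lib.MaxClassLayers.Signs

/-!
Elementary algebra: commutators of powers, integer scalars on elements of order `p`, and the
torus element in a group generated by two transvections.
-/

set_option autoImplicit false
set_option linter.style.haveILetI false
set_option linter.unusedSectionVars false

namespace CfsgLib.OrderPFive

open scoped commutatorElement

variable {G : Type*} [Group G]

theorem comm_zpow_left {a b : G} (ha : Commute ⁅a, b⁆ a) (i : ℤ) : ⁅a ^ i, b⁆ = ⁅a, b⁆ ^ i := by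
  have h1 : b * a * b⁻¹ = ⁅a, b⁆⁻¹ * a := by
    rw [commutatorElement_def]; group
  have h2 : b * a ^ i * b⁻¹ = (⁅a, b⁆⁻¹) ^ i * a ^ i := by
    rw [← conj_zpow, h1, (ha.inv_left).mul_zpow]
  rw [show ⁅a ^ i, b⁆ = a ^ i * (b * a ^ i * b⁻¹)⁻¹ by rw [commutatorElement_def]; group, h2,
    mul_inv_rev, inv_zpow, inv_inv, ← mul_assoc, mul_inv_cancel, one_mul]

theorem comm_zpow_zpow {a b : G} (ha : Commute ⁅a, b⁆ a) (hb : Commute ⁅a, b⁆ b) (i j : ℤ) :
    ⁅a ^ i, b ^ j⁆ = ⁅a, b⁆ ^ (i * j) := by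
  have hr : ⁅a, b ^ j⁆ = ⁅a, b⁆ ^ j := by
    rw [← commutatorElement_inv (b ^ j) a, comm_zpow_left (a := b) (b := a)
      (by rw [← commutatorElement_inv]; exact hb.inv_left), ← inv_zpow, commutatorElement_inv]
  rw [comm_zpow_left (by rw [hr]; exact ha.zpow_left j), hr, ← zpow_mul, mul_comm j i]

/-- A commutator is unchanged by a factor on the left of the first entry commuting with the
second. -/
theorem comm_mul_cancel_right {a b c : G} (h : Commute c b) : ⁅a * c, b⁆ = ⁅a, b⁆ := by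
  rw [show ⁅a * c, b⁆ = a * ⁅c, b⁆ * a⁻¹ * ⁅a, b⁆ by simp only [commutatorElement_def]; group,
    commutatorElement_eq_one_iff_mul_comm.2 h.eq, mul_one, mul_inv_cancel, one_mul]

/-- A commutator is unchanged by a factor on the right of the second entry commuting with the
first. -/
theorem comm_mul_cancel_right' {a b c : G} (h : Commute a c) : ⁅a, b * c⁆ = ⁅a, b⁆ := by
  rw [show ⁅a, b * c⁆ = ⁅a, b⁆ * (b * ⁅a, c⁆ * b⁻¹) by simp only [commutatorElement_def]; group,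
    commutatorElement_eq_one_iff_mul_comm.2 h.eq, mul_one, mul_inv_cancel, mul_one]

theorem zpow_eq_zpow_zmod {p : ℕ} {x : G} (hx : orderOf x = p) {a b : ℤ} (h : x ^ a = x ^ b) :
    (a : ZMod p) = (b : ZMod p) := by
  rw [zpow_eq_zpow_iff_modEq, hx, ← ZMod.intCast_eq_intCast_iff] at h
  exact h

/-- Two transvections generate an element with eigenvalues `2` and `2⁻¹`. -/
theorem exists_torus {V : Type*} [Group V] {p : ℕ} (hpodd : Odd p) {a b : MulAut V} {v w : V}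
    (hc : Commute v w) (hv : v ^ p = 1) (hw : w ^ p = 1)
    (hav : a v = v) (haw : a w = w * v) (hbw : b w = w) (hbv : b v = v * w⁻¹)
    {K : Subgroup (MulAut V)} (ha : a ∈ K) (hb : b ∈ K) :
    ∃ d ∈ K, ∃ k : ℤ, ((2 * k : ℤ) : ZMod p) = 1 ∧ d v = v ^ (2 : ℤ) ∧ d w = w ^ k ∧
      ∀ x, a x = x → b x = x → d x = x := by
  obtain ⟨m, hm⟩ := hpodd
  obtain ⟨h, hh⟩ : ∃ h : ℕ, h = m + 1 := ⟨_, rfl⟩
  have hpow : ∀ (i : ℕ), (a ^ i) v = v ∧ (a ^ i) w = w * v ^ i := by
    intro i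
    induction i with
    | zero => simp
    | succ i ih =>
      rw [pow_succ', MulAut.mul_apply, MulAut.mul_apply, ih.1, ih.2, map_mul, map_pow, hav, haw,
        pow_succ', mul_assoc]
      exact ⟨rfl, rfl⟩
  have hainv : ∀ (i : ℕ), (a ^ i)⁻¹ v = v ∧ (a ^ i)⁻¹ w = w * (v ^ i)⁻¹ := by
    intro i
    obtain ⟨h1, h2⟩ := hpow i
    constructor
    · conv_lhs => rw [← h1, MulAut.inv_apply_self]
    · refine (a ^ i).injective ?_
      rw [MulAut.apply_inv_self, map_mul, map_inv, map_pow, h1, h2, mul_inv_cancel_right]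
  have hb2 : (b ^ 2) v = v * w⁻¹ * w⁻¹ ∧ (b ^ 2) w = w := by
    rw [pow_two, MulAut.mul_apply, MulAut.mul_apply, hbv, map_mul, map_inv, hbv, hbw]
    exact ⟨rfl, hbw⟩
  have hbi : b⁻¹ w = w ∧ b⁻¹ v = v * w := by
    constructor
    · conv_lhs => rw [← hbw, MulAut.inv_apply_self]
    · refine b.injective ?_
      rw [MulAut.apply_inv_self, map_mul, hbw, hbv, inv_mul_cancel_right]
  have hvp : v ^ h * v ^ h = v := by
    rw [← pow_add, show h + h = p + 1 by omega, pow_add, hv, one_mul, pow_one]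
  have hwp : w ^ h * w ^ h = w := by
    rw [← pow_add, show h + h = p + 1 by omega, pow_add, hw, one_mul, pow_one]
  refine ⟨a * b⁻¹ * (a ^ h)⁻¹ * b ^ 2, K.mul_mem (K.mul_mem (K.mul_mem ha (K.inv_mem hb))
    (K.inv_mem (K.pow_mem ha h))) (K.pow_mem hb 2), 1 - h, ?_, ?_, ?_, fun x hax hbx => ?_⟩
  · rw [show (2 * (1 - (h : ℤ))) = 1 - (p : ℤ) by omega, Int.cast_sub, Int.cast_one,
      Int.cast_natCast, ZMod.natCast_self, sub_zero]
  · have e1 : (a ^ h)⁻¹ ((b ^ 2) v) = v * v * w⁻¹ * w⁻¹ := by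
      rw [hb2.1, map_mul, map_mul, map_inv, (hainv h).1, (hainv h).2, mul_inv_rev, inv_inv]
      have hc1 : Commute (v ^ h) w⁻¹ := (hc.pow_left h).inv_right
      calc v * (v ^ h * w⁻¹) * (v ^ h * w⁻¹) = v * (v ^ h * w⁻¹ * v ^ h) * w⁻¹ := by group
        _ = v * (v ^ h * v ^ h * w⁻¹) * w⁻¹ := by
          rw [mul_assoc (v ^ h) w⁻¹ (v ^ h), ← hc1.eq, ← mul_assoc (v ^ h) (v ^ h) w⁻¹]
        _ = v * v * w⁻¹ * w⁻¹ := by rw [hvp]; group
    rw [MulAut.mul_apply, MulAut.mul_apply, MulAut.mul_apply, e1]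
    have : b⁻¹ (v * v * w⁻¹ * w⁻¹) = v * v := by
      simp only [map_mul, map_inv, hbi.1, hbi.2]
      rw [show v * w * (v * w) = v * (w * v) * w by group, ← hc.eq]; group
    rw [this, map_mul, hav, zpow_two]
  · rw [MulAut.mul_apply, MulAut.mul_apply, MulAut.mul_apply, hb2.2, (hainv h).2, map_mul, map_inv,
      map_pow, hbi.1, hbi.2, hc.mul_pow, mul_inv_rev, map_mul, map_mul, map_inv, map_inv, map_pow,
      map_pow, hav, haw, (hc.symm).mul_pow, mul_inv_rev]
    have hcw : Commute (v ^ h)⁻¹ (w ^ h)⁻¹ := (hc.pow_pow h h).inv_inv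
    rw [zpow_sub, zpow_one, zpow_natCast]
    calc w * v * ((v ^ h)⁻¹ * (w ^ h)⁻¹ * (v ^ h)⁻¹)
        = w * v * ((v ^ h)⁻¹ * ((v ^ h)⁻¹ * (w ^ h)⁻¹)) := by
          rw [mul_assoc (v ^ h)⁻¹, hcw.symm.eq]
      _ = w * v * (v ^ h * v ^ h)⁻¹ * (w ^ h)⁻¹ := by group
      _ = w * (w ^ h)⁻¹ := by rw [hvp, mul_inv_cancel_right]
  · have h1 : ∀ i : ℕ, (a ^ i) x = x := by
      intro i
      induction i with
      | zero => rfl
      | succ i ih => rw [pow_succ', MulAut.mul_apply, ih, hax]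
    have h2 : (a ^ h)⁻¹ x = x := by conv_lhs => rw [← h1 h, MulAut.inv_apply_self]
    have h3 : b⁻¹ x = x := by conv_lhs => rw [← hbx, MulAut.inv_apply_self]
    rw [MulAut.mul_apply, MulAut.mul_apply, MulAut.mul_apply, pow_two, MulAut.mul_apply, hbx, hbx,
      h2, h3, hax]

/-- The square of the product of two opposite transvections inverts both points. -/
theorem exists_inverting {V : Type*} [Group V] {a b : MulAut V} {v w : V} (hc : Commute v w)
    (hav : a v = v) (haw : a w = w * v) (hbw : b w = w) (hbv : b v = v * w⁻¹)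
    {K : Subgroup (MulAut V)} (ha : a ∈ K) (hb : b ∈ K) :
    ∃ r ∈ K, r v = w⁻¹ ∧ r w = v ∧ (r * r) v = v⁻¹ ∧ (r * r) w = w⁻¹ ∧
      ∀ x, a x = x → b x = x → r x = x := by
  have h1 : (a * b * a) v = w⁻¹ := by
    rw [MulAut.mul_apply, MulAut.mul_apply, hav, hbv, map_mul, map_inv, hav, haw, mul_inv_rev,
      mul_inv_cancel_left]
  have h2 : (a * b * a) w = v := by
    rw [MulAut.mul_apply, MulAut.mul_apply, haw, map_mul, hbw, hbv, ← mul_assoc, ← hc.eq,
      mul_inv_cancel_right, hav]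
  refine ⟨a * b * a, K.mul_mem (K.mul_mem ha hb) ha, h1, h2, ?_, ?_, fun x hax hbx => ?_⟩
  · rw [MulAut.mul_apply, h1, map_inv, h2]
  · rw [MulAut.mul_apply, h2, h1]
  · rw [MulAut.mul_apply, MulAut.mul_apply, hax, hbx, hax]

end CfsgLib.OrderPFive
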