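import Mathlib
import Cfsg.Agent.Lib.Fusion.Transvections
import Cfsg.Agent.Lib.Fusion.SmallMaps
import Cfsg.Agent.Lib.Fusion.EssentialFlag

/-!
Tools for saturated fusion systems on groups of order `p ^ 5`: extending automorphisms to the
normalizer, functionals invariant under `Aut_F(S)`, and the contradictions with a trivial core or
a full hyperfocal subgroup.
-/

set_option autoImplicit false
set_option linter.style.haveILetI false
set_option linter.unusedSectionVars false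

namespace CfsgLib.OrderPFive

open Cfsg Cfsg.FusionSystem CfsgLib.Fusion

variable {Ω : Type*} [Group Ω] {S : Subgroup Ω} [Finite S] {F : FusionSystem S} {p : ℕ}
  [hp : Fact p.Prime]

/-- An automorphism of a fully normalized subgroup normalizing `Aut_S(P)` extends to `N_S(P)`. -/
theorem exists_extend (hS : IsPGroup p S) (hF : F.IsSaturated p) {P : Subgroup Ω}
    (hfn : F.IsFullyNormalized P) {α : MulAut P} (hα : α ∈ F.autGroup P)
    (hnorm : ∀ γ ∈ autInducedBy S P, α * γ * α⁻¹ ∈ autInducedBy S P) :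
    ∃ f : Ω → Ω, IsIso F (normalizerIn S P) (normalizerIn S P) f ∧ ∀ x : P, f x = α x := by
  have hPS := hfn.1
  have hiso := (mem_autGroup_iff hPS α).1 hα
  obtain ⟨f, hf, hfv⟩ :=
    (isReceptive_iff.1 (isReceptive_of_isFullyNormalized hS hF hfn)).2 P _ hiso
  have hN : normalizerIn S P ≤ nPhi S P (autFun α) := by
    intro g hg
    obtain ⟨k, hk, hkv⟩ := (mem_autInducedBy_iff S P _).1
      (hnorm _ (conjAut_mem_autInducedBy hg.2 hg.1))
    refine ⟨hg.1, hg.2, k, hk, fun x hx => ?_⟩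
    have e := hkv (α ⟨x, hx⟩)
    rw [MulAut.mul_apply, MulAut.mul_apply, MulAut.inv_apply_self] at e
    rw [autFun_apply α (conj_mem_of_mem_normalizer hg.2 hx), autFun_apply α hx]
    exact e
  have hfN : IsMap F (normalizerIn S P) f := hf.mono hN
  have hfP : IsIso F P P f := hiso.congr fun x hx => (hfv x hx).symm
  haveI : Finite (normalizerIn S P) := finite_of_le (S := S) inf_le_left
  refine ⟨f, hfN.isIso_of_card_le (fun x hx => hfN.mem_normalizerIn (le_normalizerIn hPS) hfP hx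
    hx.2) le_rfl, fun x => ?_⟩
  rw [hfv _ x.2, autFun_coe]

/-- An automorphism of `S` in the system extending the given one. -/
theorem exists_extend_top (hS : IsPGroup p S) (hF : F.IsSaturated p) {P : Subgroup Ω}
    (hfn : F.IsFullyNormalized P) (hN : normalizerIn S P = S) {α : MulAut P}
    (hα : α ∈ F.autGroup P) (hnorm : ∀ γ ∈ autInducedBy S P, α * γ * α⁻¹ ∈ autInducedBy S P) :
    ∃ σ ∈ F.autGroup S, ∀ (x : S) (hx : (x : Ω) ∈ P), (σ x : Ω) = α ⟨x, hx⟩ := by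
  obtain ⟨f, hf, hfv⟩ := exists_extend hS hF hfn hα hnorm
  rw [hN] at hf
  obtain ⟨σ, hσ, hσv⟩ := exists_mem_autGroup hf
  exact ⟨σ, hσ, fun x hx => (hσv x).trans (hfv ⟨x, hx⟩)⟩

/-- A `p`-group of `Aut_F(P)` containing `Aut_S(P)` is `Aut_S(P)`. -/
theorem le_autInducedBy (hS : IsPGroup p S) (hF : F.IsSaturated p) {P : Subgroup Ω}
    (hfn : F.IsFullyNormalized P) {K : Subgroup (MulAut P)} (hKG : K ≤ F.autGroup P)
    (hKp : IsPGroup p K) (hle : autInducedBy S P ≤ K) : K ≤ autInducedBy S P := by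
  haveI := finite_of_le hfn.1
  haveI := finite_mulAut P
  obtain ⟨γ, -, hγ⟩ := ((isFullyAutomized_iff hS).1
    (isFullyAutomized_of_isFullyNormalized hS hF hfn)).2 K hKG hKp
  have h1 : K.map (MulAut.conj γ).toMonoidHom ≤ autInducedBy S P := by
    rintro _ ⟨k, hk, rfl⟩
    exact hγ k hk
  refine (Subgroup.eq_of_le_of_card_ge hle ?_).ge
  rw [← Subgroup.card_map_of_injective (f := (MulAut.conj γ).toMonoidHom)
    (MulAut.conj γ).injective (K := K)]
  exact Subgroup.card_le_of_le h1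

/-- An automorphism respecting a series stabilized by `Aut_S(P)` normalizes `Aut_S(P)`. -/
theorem normalises_of_series (hS : IsPGroup p S) (hF : F.IsSaturated p) {P : Subgroup Ω}
    (hfn : F.IsFullyNormalized P) (L : ℕ → Subgroup P) (n : ℕ) (h0 : L 0 = ⊥) (hn : L n = ⊤)
    (hmono : ∀ i < n, L i ≤ L (i + 1)) {α : MulAut P} (hα : α ∈ F.autGroup P)
    (hinv : ∀ i ≤ n, ∀ x ∈ L i, α x ∈ L i)
    (hstab : ∀ g ∈ normalizerIn S P, ∀ i < n, ∀ x ∈ L (i + 1), ∀ hx : g * (x : Ω) * g⁻¹ ∈ P,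
      x⁻¹ * ⟨g * (x : Ω) * g⁻¹, hx⟩ ∈ L i) :
    ∀ γ ∈ autInducedBy S P, α * γ * α⁻¹ ∈ autInducedBy S P := by
  haveI := finite_of_le hfn.1
  haveI := finite_mulAut P
  let M : Submonoid (MulAut P) :=
    { carrier := {β | β ∈ F.autGroup P ∧ ∀ i < n, ∀ x ∈ L (i + 1), x⁻¹ * β x ∈ L i}
      one_mem' := ⟨one_mem _, fun i _ x _ => by simp⟩
      mul_mem' := by
        rintro a b ⟨ha, ha'⟩ ⟨hb, hb'⟩
        refine ⟨mul_mem ha hb, fun i hi x hx => ?_⟩
        rw [MulAut.mul_apply, show x⁻¹ * a (b x) = (x⁻¹ * b x) * ((b x)⁻¹ * a (b x)) by group]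
        refine mul_mem (hb' i hi x hx) (ha' i hi _ ?_)
        have := mul_mem hx (hmono i hi (hb' i hi x hx))
        rwa [mul_inv_cancel_left] at this }
  let K : Subgroup (MulAut P) :=
    { M with
      inv_mem' := fun {a} ha => by
        have h : a⁻¹ = a ^ (orderOf a - 1) := by
          refine inv_eq_of_mul_eq_one_right ?_
          rw [← pow_succ', Nat.sub_add_cancel (orderOf_pos a), pow_orderOf_eq_one]
        rw [h]
        exact M.pow_mem ha _ }
  have hKmem : ∀ β, β ∈ K ↔ β ∈ F.autGroup P ∧ ∀ i < n, ∀ x ∈ L (i + 1), x⁻¹ * β x ∈ L i :=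
    fun β => Iff.rfl
  have hKp : IsPGroup p K :=
    isPGroup_of_stabilizes_series (hS.to_le hfn.1) L n h0 hn K fun β hβ => ((hKmem β).1 hβ).2
  have hle : autInducedBy S P ≤ K := by
    intro γ hγ
    obtain ⟨g, hg, hv⟩ := (mem_autInducedBy_iff S P γ).1 hγ
    have hgN : g ∈ normalizerIn S P := mem_normalizerIn_of_induces hfn.1 hg hv
    refine (hKmem γ).2 ⟨autInducedBy_le_autGroup hfn.1 hγ, fun i hi x hx => ?_⟩
    have h1 : g * (x : Ω) * g⁻¹ ∈ P := hv x ▸ (γ x).2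
    rw [show γ x = ⟨g * (x : Ω) * g⁻¹, h1⟩ from Subtype.ext (hv x)]
    exact hstab g hgN i hi x hx h1
  have hinv' : ∀ i ≤ n, ∀ x ∈ L i, α⁻¹ x ∈ L i := by
    intro i hi x hx
    have h1 : (L i).map α.toMonoidHom = L i := Subgroup.eq_of_le_of_card_ge
      (by rintro _ ⟨y, hy, rfl⟩; exact hinv i hi y hy)
      (Subgroup.card_map_of_injective (MulEquiv.injective α)).ge
    obtain ⟨y, hy, rfl⟩ := h1.ge hx
    show α⁻¹ (α y) ∈ L i
    rwa [MulAut.inv_apply_self]
  intro γ hγ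
  refine le_autInducedBy hS hF hfn (fun β hβ => ((hKmem β).1 hβ).1) hKp hle ?_
  obtain ⟨h1, h2⟩ := (hKmem γ).1 (hle hγ)
  refine (hKmem _).2 ⟨mul_mem (mul_mem hα h1) (inv_mem hα), fun i hi x hx => ?_⟩
  obtain ⟨y, rfl⟩ := α.surjective x
  rw [MulAut.mul_apply, MulAut.mul_apply, MulAut.inv_apply_self, ← map_inv, ← map_mul]
  refine hinv i hi.le _ (h2 i hi y ?_)
  simpa using hinv' (i + 1) hi _ hx

/-- The `p`-core of `Aut_F(P)` is induced by `S`. -/
theorem pCore_le_autInducedBy (hS : IsPGroup p S) (hF : F.IsSaturated p) {P : Subgroup Ω}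
    (hfn : F.IsFullyNormalized P) {β : F.autGroup P} (hβ : β ∈ Cfsg.pCore p (F.autGroup P)) :
    (β : MulAut P) ∈ autInducedBy S P := by
  haveI := finite_of_le hfn.1
  haveI := finite_mulAut P
  obtain ⟨-, R, hR⟩ := isFullyAutomized_of_isFullyNormalized hS hF hfn
  have := (CfsgLib.Fitting.mem_pCore_iff_forall_sylow.1 hβ) R
  rw [hR] at this
  exact this

/-- A homomorphism to `ZMod p` fixed at `l` by `Aut_F(S)` yields one invariant under `Aut_F(S)`. -/
theorem exists_invariant (hS : IsPGroup p S) (hF : F.IsSaturated p)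
    (χ₀ : S →* Multiplicative (ZMod p)) {l : S} (hl1 : χ₀ l ≠ 1)
    (hl : ∀ σ ∈ F.autGroup S, χ₀ (σ l) = χ₀ l) :
    ∃ χ : S →* Multiplicative (ZMod p),
      (∀ σ ∈ F.autGroup S, ∀ x, χ (σ x) = χ x) ∧ χ l ≠ 1 := by
  classical
  haveI := finite_mulAut S
  haveI := inn_subgroupOf_normal F S
  obtain ⟨I, hI⟩ : ∃ I, I = (Cfsg.Inn S).subgroupOf (F.autGroup S) := ⟨_, rfl⟩
  haveI : I.Normal := hI ▸ inferInstance
  letI := Fintype.ofFinite (F.autGroup S ⧸ I)
  have hinn : ∀ ι : F.autGroup S, ι ∈ I → ∀ x, χ₀ ((ι : MulAut S) x) = χ₀ x := by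
    intro ι hι x
    rw [hI] at hι
    obtain ⟨g, hg, hv⟩ := (mem_inn_iff _).1 hι
    rw [show (ι : MulAut S) x = ⟨g, hg⟩ * x * (⟨g, hg⟩ : S)⁻¹ from Subtype.ext (hv x), map_mul,
      map_mul, map_inv, mul_comm (χ₀ ⟨g, hg⟩), mul_inv_cancel_right]
  let χ : S →* Multiplicative (ZMod p) :=
    { toFun := fun x => ∏ q : F.autGroup S ⧸ I, χ₀ ((q.out : MulAut S) x)
      map_one' := by simp
      map_mul' := fun x y => by simp only [map_mul, Finset.prod_mul_distrib] }
  refine ⟨χ, fun σ hσ x => ?_, ?_⟩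
  · show ∏ q : F.autGroup S ⧸ I, χ₀ ((q.out : MulAut S) (σ x)) =
      ∏ q : F.autGroup S ⧸ I, χ₀ ((q.out : MulAut S) x)
    refine Fintype.prod_equiv (Equiv.mulRight (QuotientGroup.mk ⟨σ, hσ⟩ : F.autGroup S ⧸ I)) _ _
      fun q => ?_
    obtain ⟨r, hr⟩ : ∃ r, r = q * (QuotientGroup.mk ⟨σ, hσ⟩ : F.autGroup S ⧸ I) := ⟨_, rfl⟩
    rw [show (Equiv.mulRight (QuotientGroup.mk ⟨σ, hσ⟩ : F.autGroup S ⧸ I)) q = r from hr.symm]
    have hι : (q.out * ⟨σ, hσ⟩) * (r.out)⁻¹ ∈ I := by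
      rw [← QuotientGroup.eq_one_iff, QuotientGroup.mk_mul, QuotientGroup.mk_inv,
        QuotientGroup.mk_mul, QuotientGroup.out_eq', QuotientGroup.out_eq', hr, mul_inv_cancel]
    have h1 := hinn _ hι ((r.out : MulAut S) x)
    rw [← h1]
    simp [MulAut.mul_apply]
  · show ∏ q : F.autGroup S ⧸ I, χ₀ ((q.out : MulAut S) l) ≠ 1
    rw [Finset.prod_congr rfl fun q _ => hl _ q.out.2, Finset.prod_const, Finset.card_univ,
      ← Nat.card_eq_fintype_card, ← Subgroup.index_eq_card]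
    haveI : Finite (normalizerIn S S) := finite_of_le (S := S) inf_le_left
    have hfn : F.IsFullyNormalized S :=
      ⟨le_rfl, fun Q hQ => Subgroup.card_le_of_le (inf_le_left.trans (le_normalizerIn le_rfl))⟩
    obtain ⟨-, R, hR⟩ := isFullyAutomized_of_isFullyNormalized hS hF hfn
    have hndvd : ¬ p ∣ I.index := by
      have := R.not_dvd_index
      rwa [hR, ← inn_eq_autInducedBy S, ← hI] at this
    intro e
    have h1 : orderOf (χ₀ l) = p := by
      refine orderOf_eq_prime ?_ hl1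
      have := pow_card_eq_one' (x := χ₀ l)
      rwa [Nat.card_congr Multiplicative.toAdd, Nat.card_zmod] at this
    exact hndvd (h1 ▸ orderOf_dvd_of_pow_eq_one e)

/-- The maps preserving a functional on `S`. -/
def preservingSystem (F : FusionSystem S) (χ : S →* Multiplicative (ZMod p)) : FusionSystem S where
  Hom P := {φ | φ ∈ F.Hom P ∧
    ∀ (x : P) (hx : (x : Ω) ∈ S) (hy : φ x ∈ S), χ ⟨φ x, hy⟩ = χ ⟨x, hx⟩}
  le_of_mem h := F.le_of_mem h.1
  injective_of_mem h := F.injective_of_mem h.1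
  conj_mem {P g} hP hg := ⟨F.conj_mem hP hg, fun x hx hy => by
    rw [show (⟨conjHom P g x, hy⟩ : S) = ⟨g, hg⟩ * ⟨x, hx⟩ * (⟨g, hg⟩ : S)⁻¹ from Subtype.ext rfl,
      map_mul, map_mul, map_inv, mul_comm (χ ⟨g, hg⟩), mul_inv_cancel_right]⟩
  comp_mem {P Q φ ψ} hφ hψ h := ⟨F.comp_mem hφ.1 hψ.1 h, fun x hx hy => by
    have hφS : φ x ∈ S := (F.le_of_mem hφ.1).2 x
    exact (hψ.2 ⟨φ x, h x⟩ hφS hy).trans (hφ.2 x hx hφS)⟩
  inv_mem {P φ} hφ := by
    obtain ⟨ψ, hψ, hv⟩ := F.inv_mem hφ.1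
    refine ⟨ψ, ⟨hψ, ?_⟩, hv⟩
    rintro ⟨_, x, rfl⟩ hx hy
    have hxS : (x : Ω) ∈ S := (F.le_of_mem hφ.1).1 x.2
    rw [show (⟨ψ ⟨φ x, ⟨x, rfl⟩⟩, hy⟩ : S) = ⟨x, hxS⟩ from Subtype.ext (hv x)]
    exact (hφ.2 x hxS hx).symm

/-- A functional preserved by the generating automorphism groups contradicts a full hyperfocal
subgroup. -/
theorem false_of_functional (hS : IsPGroup p S) (hF : F.IsSaturated p)
    (hhyp : F.hyperfocalSubgroup p = S) (χ : S →* Multiplicative (ZMod p)) {l : S} (hl : χ l ≠ 1)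
    (h : ∀ P : Subgroup Ω, (P = S ∨ F.IsEssential p P) → ∀ α ∈ F.autGroup P, ∀ (x : P)
      (hx : (x : Ω) ∈ S) (hy : (α x : Ω) ∈ S), χ ⟨α x, hy⟩ = χ ⟨x, hx⟩) : False := by
  have hle := le_of_autGroup_le' hS hF (E := preservingSystem F χ) (by
    intro P hP α hα
    have hPS : P ≤ S := by
      rcases hP with e | e
      · exact e.le
      · exact e.1.1
    refine Subgroup.subset_closure ⟨?_, fun x hx hy => h P hP α hα x hx hy⟩
    exact mem_hom_of_isMap ((mem_autGroup_iff hPS α).1 hα).isMap fun x => (autFun_coe α x).symm)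
  have hfoc : F.focalSubgroup ≤ χ.ker.map S.subtype := by
    refine (Subgroup.closure_le _).2 ?_
    rintro _ ⟨P, φ, x, hφ, rfl⟩
    have hx : (x : Ω) ∈ S := (F.le_of_mem hφ).1 x.2
    have hy : φ x ∈ S := (F.le_of_mem hφ).2 x
    refine ⟨⟨x, hx⟩⁻¹ * ⟨φ x, hy⟩, ?_, rfl⟩
    rw [SetLike.mem_coe, MonoidHom.mem_ker, map_mul, map_inv, (hle P hφ).2 x hx hy,
      inv_mul_cancel]
  obtain ⟨u, hu, e⟩ := hfoc (hyperfocal_le_focal (p := p) (hhyp.ge l.2))
  exact hl (by rwa [show l = u from Subtype.ext e.symm])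

/-- Some subgroup is essential when the core is trivial. -/
theorem exists_essential (hS : IsPGroup p S) (hF : F.IsSaturated p) (hcore : F.core = ⊥)
    (hne : S ≠ ⊥) : ∃ E, F.IsEssential p E := by
  by_contra hcon
  push Not at hcon
  have hN : F.IsNormal S := by
    refine isNormal_of_generators hS hF le_rfl fun P hP => ?_
    rcases hP with rfl | hess
    · exact ⟨le_rfl, fun α hα x hx => autFun_mem α hx⟩
    · exact absurd hess (hcon P)
  refine hne (eq_bot_iff.2 ?_)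
  rw [← hcore]
  exact le_sSup (a := S) hN

end CfsgLib.OrderPFive
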