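import Mathlib
import Cfsg.Agent.Lib.Fusion.OrderPFive.Algebra
import Cfsg.Agent.Lib.Fusion.EssentialShapes
import Cfsg.Agent.Lib.Fusion.SmallMaps
import Cfsg.Agent.Lib.Conjugacy.TransferAverage

/-!
A group `X` of order `p ^ 5` with a normal subgroup `M` of order `p ^ 4` with centre `A` of order
`p ^ 2`, moved nontrivially modulo `A`, and without abelian subgroups of index `p`: how its
automorphisms scale the layers.
-/

set_option autoImplicit false
set_option linter.style.haveILetI false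
set_option linter.unusedSectionVars false

namespace CfsgLib.OrderPFive

open scoped commutatorElement

variable {X : Type*} [Group X] [Finite X] {p : ℕ} [hp : Fact p.Prime]

/-- The configuration: `s` outside `M` moves `y ∈ M` modulo `A`. -/
structure Quad (p : ℕ) (M A C : Subgroup X) (s y : X) : Prop where
  card : Nat.card X = p ^ 5
  cardM : Nat.card M = p ^ 4
  cardA : Nat.card A = p ^ 2
  cardC : Nat.card C = p
  normM : M.Normal
  normA : A.Normal
  normC : C.Normal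
  le : A ≤ M
  cle : C ≤ A
  cent : ∀ a ∈ A, ∀ m ∈ M, Commute a m
  comm : ∀ m ∈ M, ∀ m' ∈ M, ⁅m, m'⁆ ∈ C
  notMem : s ∉ M
  memy : y ∈ M
  moved : ⁅s, y⁆ ∉ A
  na : ¬ ∀ m ∈ M, ∀ m' ∈ M, m * m' = m' * m
  noAb : ∀ K : Subgroup X, (∀ a ∈ K, ∀ b ∈ K, a * b = b * a) → K.index ≠ p

namespace Quad

variable {M A C : Subgroup X} {s y : X}

theorem isPGroup (h : Quad p M A C s y) : IsPGroup p X := IsPGroup.of_card h.card

theorem indexM (h : Quad p M A C s y) : M.index = p := by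
  have h1 := M.card_mul_index
  rw [h.cardM, h.card, pow_succ p 4] at h1
  exact Nat.eq_of_mul_eq_mul_left (pow_pos hp.out.pos 4) h1

theorem relIndexCA (h : Quad p M A C s y) : C.relIndex A = p := by
  have h1 := Subgroup.relIndex_mul_relIndex ⊥ C A bot_le h.cle
  rw [Subgroup.relIndex_bot_left, Subgroup.relIndex_bot_left, h.cardC, h.cardA, pow_two] at h1
  exact Nat.eq_of_mul_eq_mul_left hp.out.pos h1

theorem central (h : Quad p M A C s y) {c : X} (hc : c ∈ C) (x : X) : Commute x c := by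
  have h1 := h.normC.conj_mem c hc x
  rcases eq_or_ne c 1 with rfl | hc1
  · exact Commute.one_right x
  have hgen : Subgroup.zpowers c = C := by
    refine Subgroup.eq_of_le_of_card_ge (Subgroup.zpowers_le.2 hc) ?_
    rw [h.cardC, Nat.card_zpowers, orderOf_eq_prime (p := p) ?_ hc1]
    have := pow_card_eq_one' (x := (⟨c, hc⟩ : C))
    rw [h.cardC] at this
    exact congrArg Subtype.val this
  rw [← hgen] at h1
  have hcp : c ^ p = 1 := by
    have := pow_card_eq_one' (x := (⟨c, hc⟩ : C))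
    rw [h.cardC] at this
    exact congrArg Subtype.val this
  have h2 := Fusion.commute_of_conj_mem_zpowers (p := p) (S := (⊤ : Subgroup X))
    (h.isPGroup.to_subgroup ⊤) hcp (Subgroup.mem_top x) h1
  exact mul_inv_eq_iff_eq_mul.1 h2

theorem pow_mem_C (h : Quad p M A C s y) {a : X} (ha : a ∈ A) : a ^ p ∈ C := by
  haveI := h.normC
  have := Subgroup.pow_index_mem (C.subgroupOf A) ⟨a, ha⟩
  rwa [show (C.subgroupOf A).index = p from h.relIndexCA] at this

theorem pow_eq_one (h : Quad p M A C s y) {c : X} (hc : c ∈ C) : c ^ p = 1 := by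
  have := pow_card_eq_one' (x := (⟨c, hc⟩ : C))
  rw [h.cardC] at this
  exact congrArg Subtype.val this

theorem orderOf_eq (h : Quad p M A C s y) {c : X} (hc : c ∈ C) (hc1 : c ≠ 1) : orderOf c = p :=
  orderOf_eq_prime (h.pow_eq_one hc) hc1

theorem comm_mem_C (h : Quad p M A C s y) {a : X} (ha : a ∈ A) (x : X) :
    ⁅x, a⁆ ∈ C ∧ ⁅a, x⁆ ∈ C := by
  haveI := h.normC
  haveI := h.normA
  have h1 : ∀ g : X, ∀ b ∈ A, b⁻¹ * (g * b * g⁻¹) ∈ C := by
    intro g b hb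
    obtain ⟨k, hk⟩ := h.isPGroup g
    have := Fusion.EssentialFlag.step_stabilised (α := MulAut.conj g)
      (Fusion.EssentialFlag.smallStep_of_relIndex hp.out h.cle h.relIndexCA)
      (fun v hv => h.normC.conj_mem v hv g) (fun v hv => h.normA.conj_mem v hv g) (k := k)
      (by rw [← map_pow, hk, map_one]) b hb
    exact this
  constructor
  · have := h1 x a ha
    rw [show ⁅x, a⁆ = a * (a⁻¹ * (x * a * x⁻¹)) * a⁻¹ by rw [commutatorElement_def]; group]
    exact h.normC.conj_mem _ this a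
  · have := C.inv_mem (h1 x a ha)
    rw [show ⁅a, x⁆ = a * (a⁻¹ * (x * a * x⁻¹))⁻¹ * a⁻¹ * 1 by rw [commutatorElement_def]; group,
      mul_one]
    exact h.normC.conj_mem _ this a

theorem u_mem (h : Quad p M A C s y) : ⁅s, y⁆ ∈ M := by
  rw [commutatorElement_def]
  exact M.mul_mem (h.normM.conj_mem y h.memy s) (M.inv_mem h.memy)

theorem decompX (h : Quad p M A C s y) (g : X) : ∃ k : ℤ, ∃ m ∈ M, g = s ^ k * m := by
  haveI := h.normM
  haveI : Fact (Nat.card (X ⧸ M)).Prime :=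
    ⟨by rw [← Subgroup.index_eq_card, h.indexM]; exact hp.out⟩
  have hs : (QuotientGroup.mk' M s) ≠ 1 := fun e => h.notMem ((QuotientGroup.eq_one_iff s).1 e)
  obtain ⟨k, hk⟩ := Subgroup.mem_zpowers_iff.1
    (mem_zpowers_of_prime_card (rfl : Nat.card (X ⧸ M) = _) hs (g' := QuotientGroup.mk' M g))
  refine ⟨k, (s ^ k)⁻¹ * g, QuotientGroup.eq.1 ?_, by rw [mul_inv_cancel_left]⟩
  exact (map_zpow (QuotientGroup.mk' M) s k).trans hk

theorem qu_central (h : Quad p M A C s y) [A.Normal] (x : X) :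
    Commute (QuotientGroup.mk' A ⁅s, y⁆) (QuotientGroup.mk' A x) := by
  have hQ : Nat.card (X ⧸ A) = p ^ 3 := by
    have h1 := Subgroup.card_eq_card_quotient_mul_card_subgroup A
    rw [h.card, h.cardA, pow_add p 3 2] at h1
    exact (Nat.eq_of_mul_eq_mul_right (pow_pos hp.out.pos 2) h1).symm
  rw [map_commutatorElement]
  by_cases hc : ∀ a b : X ⧸ A, a * b = b * a
  · exact hc _ _
  obtain ⟨i, hi1, hi3, hi, hidx⟩ := Fusion.EssentialShapes.center_bound (p := p) hc hQ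
  obtain rfl : i = 1 := by omega
  have hq : Nat.card ((X ⧸ A) ⧸ Subgroup.center (X ⧸ A)) = p ^ 2 := by
    rw [← Subgroup.index_eq_card, hidx]
  letI := IsPGroup.commGroupOfCardEqPrimeSq hq
  have h2 : ⁅QuotientGroup.mk' A s, QuotientGroup.mk' A y⁆ ∈ Subgroup.center (X ⧸ A) := by
    rw [← QuotientGroup.eq_one_iff]
    show QuotientGroup.mk' (Subgroup.center (X ⧸ A)) ⁅_, _⁆ = 1
    rw [map_commutatorElement, commutatorElement_eq_one_iff_mul_comm, mul_comm]
  exact ((Subgroup.mem_center_iff.1 h2) _).symm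

theorem u_comm_mem (h : Quad p M A C s y) (x : X) :
    ⁅x, ⁅s, y⁆⁆ ∈ A ∧ ⁅⁅s, y⁆, x⁆ ∈ A := by
  haveI := h.normA
  constructor
  · rw [← QuotientGroup.eq_one_iff]
    show QuotientGroup.mk' A _ = 1
    rw [map_commutatorElement, commutatorElement_eq_one_iff_mul_comm]
    exact (h.qu_central x).symm.eq
  · rw [← QuotientGroup.eq_one_iff]
    show QuotientGroup.mk' A _ = 1
    rw [map_commutatorElement, commutatorElement_eq_one_iff_mul_comm]
    exact (h.qu_central x).eq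

theorem sq_pow_mem_A (h : Quad p M A C s y) {m : X} (hm : m ∈ M) : m ^ p ∈ A := by
  haveI := h.normA
  have hq : Nat.card (M ⧸ A.subgroupOf M) = p ^ 2 := by
    have h1 := Subgroup.card_eq_card_quotient_mul_card_subgroup (A.subgroupOf M)
    rw [h.cardM, Nat.card_congr (Subgroup.subgroupOfEquivOfLe h.le).toEquiv, h.cardA,
      pow_add p 2 2] at h1
    exact (Nat.eq_of_mul_eq_mul_right (pow_pos hp.out.pos 2) h1).symm
  by_contra hne
  have hcyc : IsCyclic (M ⧸ A.subgroupOf M) := by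
    refine isCyclic_of_orderOf_eq_card (QuotientGroup.mk' (A.subgroupOf M) ⟨m, hm⟩) ?_
    rw [hq]
    refine orderOf_eq_prime_pow (n := 1) (fun e => hne ?_) ?_
    · rw [pow_one, ← map_pow] at e
      exact (QuotientGroup.eq_one_iff ((⟨m, hm⟩ : M) ^ p)).1 e
    · rw [← hq]; exact pow_card_eq_one'
  have hle : A.subgroupOf M ≤ Subgroup.center M := fun a ha =>
    Subgroup.mem_center_iff.2 fun g => Subtype.ext (h.cent a ha g g.2).symm.eq
  refine h.na fun a ha b hb => congrArg Subtype.val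
    (commutative_of_cyclic_center_quotient (QuotientGroup.mk' (A.subgroupOf M))
      (by rw [QuotientGroup.ker_mk']; exact hle) (⟨a, ha⟩ : M) ⟨b, hb⟩)

theorem qy_commute (h : Quad p M A C s y) [A.Normal] {m : X} (hm : m ∈ M) :
    Commute (QuotientGroup.mk' A m) (QuotientGroup.mk' A y) := by
  show _ * _ = _ * _
  rw [← commutatorElement_eq_one_iff_mul_comm, ← map_commutatorElement]
  exact (QuotientGroup.eq_one_iff _).2 (h.cle (h.comm m hm y h.memy))

theorem y_notMem_sup (h : Quad p M A C s y) : y ∉ Subgroup.zpowers ⁅s, y⁆ ⊔ A := by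
  haveI := h.normA
  intro hy
  have := Subgroup.mem_map_of_mem (QuotientGroup.mk' A) hy
  rw [Subgroup.map_sup, MonoidHom.map_zpowers, QuotientGroup.map_mk'_self, sup_bot_eq] at this
  obtain ⟨i, hi⟩ := Subgroup.mem_zpowers_iff.1 this
  refine h.moved ((QuotientGroup.eq_one_iff _).1 ?_)
  show QuotientGroup.mk' A ⁅s, y⁆ = 1
  rw [map_commutatorElement, commutatorElement_eq_one_iff_mul_comm, ← hi]
  exact ((h.qu_central s).zpow_left i).symm.eq

theorem decompM (h : Quad p M A C s y) {m : X} (hm : m ∈ M) :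
    ∃ i j : ℤ, ∃ a ∈ A, m = y ^ i * ⁅s, y⁆ ^ j * a := by
  haveI := h.normA
  have hB : Subgroup.zpowers ⁅s, y⁆ ⊔ A ≤ M := sup_le (Subgroup.zpowers_le.2 h.u_mem) h.le
  have hT : Subgroup.zpowers y ⊔ (Subgroup.zpowers ⁅s, y⁆ ⊔ A) = M := by
    refine Subgroup.eq_of_le_of_card_ge (sup_le (Subgroup.zpowers_le.2 h.memy) hB) ?_
    obtain ⟨b, hb⟩ := IsPGroup.iff_card.1 (h.isPGroup.to_subgroup (Subgroup.zpowers ⁅s, y⁆ ⊔ A))
    obtain ⟨c, hc⟩ := IsPGroup.iff_card.1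
      (h.isPGroup.to_subgroup (Subgroup.zpowers y ⊔ (Subgroup.zpowers ⁅s, y⁆ ⊔ A)))
    have h1 : Nat.card A < Nat.card (Subgroup.zpowers ⁅s, y⁆ ⊔ A : Subgroup X) :=
      lt_of_le_of_ne (Subgroup.card_le_of_le le_sup_right) fun e => h.moved
        ((Subgroup.eq_of_le_of_card_ge le_sup_right e.ge).ge
          (Subgroup.mem_sup_left (Subgroup.mem_zpowers _)))
    have h2 : Nat.card (Subgroup.zpowers ⁅s, y⁆ ⊔ A : Subgroup X) <
        Nat.card (Subgroup.zpowers y ⊔ (Subgroup.zpowers ⁅s, y⁆ ⊔ A) : Subgroup X) :=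
      lt_of_le_of_ne (Subgroup.card_le_of_le le_sup_right) fun e => h.y_notMem_sup
        ((Subgroup.eq_of_le_of_card_ge le_sup_right e.ge).ge
          (Subgroup.mem_sup_left (Subgroup.mem_zpowers _)))
    rw [h.cardA, hb] at h1
    rw [hb, hc] at h2
    rw [h.cardM, hc]
    have e1 := (Nat.pow_lt_pow_iff_right hp.out.one_lt).1 h1
    have e2 := (Nat.pow_lt_pow_iff_right hp.out.one_lt).1 h2
    exact Nat.pow_le_pow_right hp.out.pos (by omega)
  have hm' := Subgroup.mem_map_of_mem (QuotientGroup.mk' A) (hT.ge hm)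
  rw [Subgroup.map_sup, Subgroup.map_sup, MonoidHom.map_zpowers, MonoidHom.map_zpowers,
    QuotientGroup.map_mk'_self, sup_bot_eq] at hm'
  have hn : Subgroup.zpowers (QuotientGroup.mk' A y) ≤
      Subgroup.normalizer (Subgroup.zpowers (QuotientGroup.mk' A ⁅s, y⁆) : Set (X ⧸ A)) := by
    intro g hg
    obtain ⟨i, rfl⟩ := Subgroup.mem_zpowers_iff.1 hg
    refine Subgroup.mem_normalizer_iff.2 fun v => ?_
    have hc : ∀ j : ℤ, Commute (QuotientGroup.mk' A y ^ i) (QuotientGroup.mk' A ⁅s, y⁆ ^ j) :=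
      fun j => ((h.qu_central y).symm.zpow_zpow i j)
    constructor
    · intro hv
      obtain ⟨j, rfl⟩ := Subgroup.mem_zpowers_iff.1 hv
      rw [(hc j).eq, mul_inv_cancel_right]
      exact Subgroup.zpow_mem_zpowers _ j
    · intro hv
      obtain ⟨j, hj⟩ := Subgroup.mem_zpowers_iff.1 hv
      refine ⟨j, ?_⟩
      calc QuotientGroup.mk' A ⁅s, y⁆ ^ j
          = (QuotientGroup.mk' A y ^ i)⁻¹ * QuotientGroup.mk' A ⁅s, y⁆ ^ j *
              QuotientGroup.mk' A y ^ i := by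
            rw [mul_assoc, ← (hc j).eq, inv_mul_cancel_left]
        _ = v := by rw [hj]; group
  rw [← SetLike.mem_coe, Subgroup.coe_mul_of_left_le_normalizer_right _ _ hn] at hm'
  obtain ⟨g, hg, v, hv, hgv⟩ := hm'
  obtain ⟨i, rfl⟩ := Subgroup.mem_zpowers_iff.1 hg
  obtain ⟨j, rfl⟩ := Subgroup.mem_zpowers_iff.1 hv
  refine ⟨i, j, (y ^ i * ⁅s, y⁆ ^ j)⁻¹ * m, QuotientGroup.eq.1 ?_, by rw [mul_inv_cancel_left]⟩
  show QuotientGroup.mk' A _ = QuotientGroup.mk' A m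
  rw [map_mul, map_zpow, map_zpow]
  exact hgv

theorem z_ne (h : Quad p M A C s y) : ⁅y, ⁅s, y⁆⁆ ≠ 1 := by
  intro e
  have hyu : Commute y ⁅s, y⁆ := commutatorElement_eq_one_iff_mul_comm.1 e
  refine h.na fun m hm m' hm' => ?_
  obtain ⟨i, j, a, ha, rfl⟩ := h.decompM hm
  obtain ⟨i', j', a', ha', rfl⟩ := h.decompM hm'
  have c1 : Commute (y ^ i * ⁅s, y⁆ ^ j) (y ^ i' * ⁅s, y⁆ ^ j') :=
    (((Commute.refl y).zpow_zpow i i').mul_left (hyu.symm.zpow_zpow j i')).mul_right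
      ((hyu.zpow_zpow i j').mul_left ((Commute.refl _).zpow_zpow j j'))
  have hmem : ∀ i j : ℤ, y ^ i * ⁅s, y⁆ ^ j ∈ M := fun i j =>
    M.mul_mem (M.zpow_mem h.memy i) (M.zpow_mem h.u_mem j)
  exact ((c1.mul_right (h.cent a' ha' _ (hmem i j)).symm).mul_left
    (h.cent a ha _ hm')).eq

theorem z_mem (h : Quad p M A C s y) : ⁅y, ⁅s, y⁆⁆ ∈ C := h.comm y h.memy _ h.u_mem

theorem z_order (h : Quad p M A C s y) : orderOf ⁅y, ⁅s, y⁆⁆ = p := h.orderOf_eq h.z_mem h.z_ne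

theorem z_pow (h : Quad p M A C s y) (i j : ℤ) :
    ⁅y ^ i, ⁅s, y⁆ ^ j⁆ = ⁅y, ⁅s, y⁆⁆ ^ (i * j) :=
  comm_zpow_zpow (h.central h.z_mem y).symm (h.central h.z_mem _).symm i j

theorem dvd_of_u_zpow_mem (h : Quad p M A C s y) {j : ℤ} (hj : ⁅s, y⁆ ^ j ∈ A) :
    (j : ZMod p) = 0 := by
  have h1 := h.z_pow 1 j
  rw [zpow_one, one_mul,
    commutatorElement_eq_one_iff_mul_comm.2 (h.cent _ hj y h.memy).symm.eq] at h1
  rw [← zpow_zero ⁅y, ⁅s, y⁆⁆] at h1
  simpa using (zpow_eq_zpow_zmod h.z_order h1).symm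

theorem zpow_mem_A (h : Quad p M A C s y) {m : X} (hm : m ∈ M) {i : ℤ} (hi : (i : ZMod p) = 0) :
    m ^ i ∈ A := by
  obtain ⟨d, rfl⟩ := (ZMod.intCast_zmod_eq_zero_iff_dvd i p).1 hi
  rw [zpow_mul, zpow_natCast]
  exact A.zpow_mem (h.sq_pow_mem_A hm) d

/-- The scalar on `⁅s, y⁆` and on the commutator of `M`. -/
theorem weights (h : Quad p M A C s y) (σ : MulAut X) (hσA : ∀ a ∈ A, σ a ∈ A) {α : ℤ}
    (hy : (y ^ α)⁻¹ * σ y ∈ A) :
    ∃ η : ℤ, ∃ m ∈ M, σ s = s ^ η * m ∧ (⁅s, y⁆ ^ (η * α))⁻¹ * σ ⁅s, y⁆ ∈ A ∧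
      σ ⁅y, ⁅s, y⁆⁆ = ⁅y, ⁅s, y⁆⁆ ^ (α * (η * α)) := by
  haveI := h.normA
  obtain ⟨η, m, hm, hs⟩ := h.decompX (σ s)
  refine ⟨η, m, hm, hs, ?_, ?_⟩
  · refine QuotientGroup.eq.1 ?_
    show QuotientGroup.mk' A _ = QuotientGroup.mk' A _
    have hy' : QuotientGroup.mk' A (σ y) = QuotientGroup.mk' A y ^ α := by
      rw [← map_zpow]; exact (QuotientGroup.eq.2 hy).symm
    rw [map_commutatorElement σ, map_commutatorElement (QuotientGroup.mk' A), hs, map_mul,
      map_zpow, map_zpow, hy', comm_mul_cancel_right ((h.qy_commute hm).zpow_right α),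
      comm_zpow_zpow ?_ ?_]
    · rw [map_commutatorElement]
    · rw [← map_commutatorElement]; exact h.qu_central s
    · rw [← map_commutatorElement]; exact h.qu_central y
  · have hu : (⁅s, y⁆ ^ (η * α))⁻¹ * σ ⁅s, y⁆ ∈ A := by
      refine QuotientGroup.eq.1 ?_
      show QuotientGroup.mk' A _ = QuotientGroup.mk' A _
      have hy' : QuotientGroup.mk' A (σ y) = QuotientGroup.mk' A y ^ α := by
        rw [← map_zpow]; exact (QuotientGroup.eq.2 hy).symm
      rw [map_commutatorElement σ, map_commutatorElement (QuotientGroup.mk' A), hs, map_mul,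
        map_zpow, map_zpow, hy', comm_mul_cancel_right ((h.qy_commute hm).zpow_right α),
        comm_zpow_zpow ?_ ?_]
      · rw [map_commutatorElement]
      · rw [← map_commutatorElement]; exact h.qu_central s
      · rw [← map_commutatorElement]; exact h.qu_central y
    have hyM : y ^ α ∈ M := M.zpow_mem h.memy α
    have huM : ⁅s, y⁆ ^ (η * α) ∈ M := M.zpow_mem h.u_mem _
    have hσy : σ y = y ^ α * ((y ^ α)⁻¹ * σ y) := by rw [mul_inv_cancel_left]
    have hσu : σ ⁅s, y⁆ = ⁅s, y⁆ ^ (η * α) * ((⁅s, y⁆ ^ (η * α))⁻¹ * σ ⁅s, y⁆) := by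
      rw [mul_inv_cancel_left]
    rw [map_commutatorElement σ y, hσy, hσu,
      comm_mul_cancel_right (h.cent _ hy _ (M.mul_mem huM (h.le hu))),
      comm_mul_cancel_right' (h.cent _ hu _ hyM).symm, h.z_pow]

/-- The scalar on `A / C` when `⁅s, ⁅s, y⁆⁆` lies outside `C`. -/
theorem mu_of_notMem (h : Quad p M A C s y) (σ : MulAut X) {α η : ℤ} {m : X} (hm : m ∈ M)
    (hs : σ s = s ^ η * m) (hu : (⁅s, y⁆ ^ (η * α))⁻¹ * σ ⁅s, y⁆ ∈ A) {μ : ℤ}
    (hμ : ∀ a ∈ A, (a ^ μ)⁻¹ * σ a ∈ C) (hd : ⁅s, ⁅s, y⁆⁆ ∉ C) :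
    (μ : ZMod p) = η * (η * α) := by
  haveI := h.normC
  obtain ⟨d, hddef⟩ : ∃ d, d = ⁅s, ⁅s, y⁆⁆ := ⟨_, rfl⟩
  rw [← hddef] at hd
  have hdA : d ∈ A := hddef ▸ (h.u_comm_mem s).1
  obtain ⟨u, hudef⟩ : ∃ u, u = ⁅s, y⁆ := ⟨_, rfl⟩
  rw [← hudef] at hu hddef
  have huM : u ∈ M := hudef ▸ h.u_mem
  have hcA : ∀ a ∈ A, ∀ x : X, Commute (QuotientGroup.mk' C a) (QuotientGroup.mk' C x) := by
    intro a ha x
    show _ * _ = _ * _
    rw [← commutatorElement_eq_one_iff_mul_comm, ← map_commutatorElement]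
    exact (QuotientGroup.eq_one_iff _).2 (h.comm_mem_C ha x).2
  have hmu : Commute (QuotientGroup.mk' C m) (QuotientGroup.mk' C u ^ (η * α)) := by
    refine Commute.zpow_right ?_ _
    show _ * _ = _ * _
    rw [← commutatorElement_eq_one_iff_mul_comm, ← map_commutatorElement]
    exact (QuotientGroup.eq_one_iff _).2 (h.comm m hm u huM)
  have hord : orderOf (QuotientGroup.mk' C d) = p := by
    refine orderOf_eq_prime ?_ fun e => hd ((QuotientGroup.eq_one_iff d).1 e)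
    rw [← map_pow]
    exact (QuotientGroup.eq_one_iff _).2 (h.pow_mem_C hdA)
  have e1 : QuotientGroup.mk' C (σ d) = QuotientGroup.mk' C d ^ μ := by
    rw [← map_zpow]; exact (QuotientGroup.eq.2 (hμ d hdA)).symm
  have e2 : QuotientGroup.mk' C (σ d) = QuotientGroup.mk' C d ^ (η * (η * α)) := by
    conv_lhs => rw [hddef, map_commutatorElement σ, hs,
      show σ u = u ^ (η * α) * ((u ^ (η * α))⁻¹ * σ u) by rw [mul_inv_cancel_left]]
    rw [map_commutatorElement (QuotientGroup.mk' C), map_mul (QuotientGroup.mk' C) (u ^ (η * α)),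
      comm_mul_cancel_right' (hcA _ hu _).symm, map_mul, map_zpow, map_zpow,
      comm_mul_cancel_right hmu, comm_zpow_zpow ?_ ?_, hddef, map_commutatorElement]
    · rw [← map_commutatorElement, ← hddef]; exact hcA d hdA s
    · rw [← map_commutatorElement, ← hddef]; exact hcA d hdA u
  have := zpow_eq_zpow_zmod hord (e1.symm.trans e2)
  push_cast at this
  exact this

/-- An automorphism inverting `y` modulo `A`, trivial on `A / C` and of order two on `C`. -/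
theorem comm_mem_C_of_inverting (h : Quad p M A C s y) (hp2 : p ≠ 2) (σ : MulAut X)
    (hσA : ∀ a ∈ A, σ a ∈ A) (hy : y * σ y ∈ A) (hμ : ∀ a ∈ A, a⁻¹ * σ a ∈ C)
    (hC : ∀ c ∈ C, σ (σ c) = c) : ⁅s, ⁅s, y⁆⁆ ∈ C := by
  by_contra hd
  obtain ⟨η, m, hm, hs, hu, hz⟩ := h.weights σ hσA (α := -1) (by simpa using hy)
  have e := h.mu_of_notMem σ hm hs hu (μ := 1) (by simpa using hμ) hd
  have h2 := hC _ h.z_mem
  rw [hz, map_zpow, hz, ← zpow_mul] at h2
  have h3 := zpow_eq_zpow_zmod h.z_order (h2.trans (zpow_one _).symm)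
  push_cast at h3 e
  refine CfsgLib.MaxClassLayers.one_ne_neg_one (p := p) hp2 ?_
  linear_combination e - h3

/-- Replace `s` to centralize `⁅s, y⁆`. -/
theorem adjust (h : Quad p M A C s y) (hd : ⁅s, ⁅s, y⁆⁆ ∈ C) :
    ∃ s', Quad p M A C s' y ∧ ⁅s', y⁆ = ⁅s, y⁆ ∧ Commute s' ⁅s, y⁆ := by
  haveI : Fact (Nat.card C).Prime := ⟨h.cardC.symm ▸ hp.out⟩
  obtain ⟨i, hi⟩ := Subgroup.mem_zpowers_iff.1 (mem_zpowers_of_prime_card (rfl : Nat.card C = _)
    (g := (⟨_, h.z_mem⟩ : C)) (fun e => h.z_ne (congrArg Subtype.val e))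
    (g' := (⟨⁅s, ⁅s, y⁆⁆⁻¹, C.inv_mem hd⟩ : C)))
  have hi' : ⁅y, ⁅s, y⁆⁆ ^ i = ⁅s, ⁅s, y⁆⁆⁻¹ := congrArg Subtype.val hi
  have e1 : ⁅s * y ^ i, y⁆ = ⁅s, y⁆ := comm_mul_cancel_right ((Commute.refl y).zpow_left i)
  refine ⟨s * y ^ i, { h with notMem := ?_, moved := by rw [e1]; exact h.moved }, e1, ?_⟩
  · intro hmem
    exact h.notMem (by simpa using M.mul_mem hmem (M.inv_mem (M.zpow_mem h.memy i)))
  · refine commutatorElement_eq_one_iff_mul_comm.1 ?_
    have e2 : ⁅y ^ i, ⁅s, y⁆⁆ = ⁅y, ⁅s, y⁆⁆ ^ i := by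
      simpa using h.z_pow i 1
    rw [show ⁅s * y ^ i, ⁅s, y⁆⁆ = s * ⁅y ^ i, ⁅s, y⁆⁆ * s⁻¹ * ⁅s, ⁅s, y⁆⁆ by
      simp only [commutatorElement_def]; group, e2,
      (h.central (C.zpow_mem h.z_mem i) s).eq, mul_inv_cancel_right, hi', inv_mul_cancel]

/-- Without abelian subgroups of index `p`, the centre of `M` is not central. -/
theorem exists_moved (h : Quad p M A C s y) (hsu : Commute s ⁅s, y⁆) :
    ∃ l ∈ A, ⁅s, l⁆ ≠ 1 := by
  by_contra hcon
  push Not at hcon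
  obtain ⟨K, hK⟩ : ∃ K, K = Subgroup.closure ({s, ⁅s, y⁆} ∪ (A : Set X)) := ⟨_, rfl⟩
  have hsA : ∀ a ∈ A, Commute s a := fun a ha => commutatorElement_eq_one_iff_mul_comm.1 (hcon a ha)
  have hgen : ∀ g ∈ ({s, ⁅s, y⁆} ∪ (A : Set X)), ∀ g' ∈ ({s, ⁅s, y⁆} ∪ (A : Set X)),
      g * g' = g' * g := by
    rintro g ((rfl | rfl) | hg) g' ((rfl | rfl) | hg')
    · rfl
    · exact hsu.eq
    · exact (hsA g' hg').eq
    · exact hsu.symm.eq
    · rfl
    · exact (h.cent g' hg' _ h.u_mem).symm.eq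
    · exact (hsA g hg).symm.eq
    · exact (h.cent g hg _ h.u_mem).eq
    · exact (h.cent g hg g' (h.le hg')).eq
  have hab : ∀ a ∈ K, ∀ b ∈ K, a * b = b * a := fun a ha b hb => by
    haveI := Subgroup.isMulCommutative_closure hgen
    exact congrArg Subtype.val
      (mul_comm' (⟨a, hK ▸ ha⟩ : Subgroup.closure ({s, ⁅s, y⁆} ∪ (A : Set X))) ⟨b, hK ▸ hb⟩)
  refine h.noAb K hab ?_
  have hsK : s ∈ K := hK ▸ Subgroup.subset_closure (Or.inl (Or.inl rfl))
  have huK : ⁅s, y⁆ ∈ K := hK ▸ Subgroup.subset_closure (Or.inl (Or.inr rfl))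
  have hAK : A ≤ K := hK ▸ fun a ha => Subgroup.subset_closure (Or.inr ha)
  obtain ⟨a, ha⟩ := IsPGroup.iff_card.1 (h.isPGroup.to_subgroup (K ⊓ M))
  obtain ⟨b, hb⟩ := IsPGroup.iff_card.1 (h.isPGroup.to_subgroup K)
  have h1 : Nat.card A < Nat.card (K ⊓ M : Subgroup X) :=
    lt_of_le_of_ne (Subgroup.card_le_of_le (le_inf hAK h.le)) fun e => h.moved
      ((Subgroup.eq_of_le_of_card_ge (le_inf hAK h.le) e.ge).ge ⟨huK, h.u_mem⟩)
  have h2 : Nat.card (K ⊓ M : Subgroup X) < Nat.card K :=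
    lt_of_le_of_ne (Subgroup.card_le_of_le inf_le_left) fun e => h.notMem
      ((Subgroup.eq_of_le_of_card_ge inf_le_left e.ge).ge hsK).2
  have hb5 : b < 5 := by
    have h3 : Nat.card K < Nat.card X := lt_of_le_of_ne (Subgroup.card_le_card_group K) fun e =>
      h.na fun m _ m' _ => hab m ((Subgroup.eq_top_of_card_eq K e).ge (Subgroup.mem_top m)) m'
        ((Subgroup.eq_top_of_card_eq K e).ge (Subgroup.mem_top m'))
    rw [hb, h.card] at h3
    exact (Nat.pow_lt_pow_iff_right hp.out.one_lt).1 h3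
  rw [h.cardA, ha] at h1
  rw [ha, hb] at h2
  have e1 := (Nat.pow_lt_pow_iff_right hp.out.one_lt).1 h1
  have e2 := (Nat.pow_lt_pow_iff_right hp.out.one_lt).1 h2
  have h4 := K.card_mul_index
  rw [hb, show b = 4 by omega, h.card, pow_succ p 4] at h4
  exact Nat.eq_of_mul_eq_mul_left (pow_pos hp.out.pos 4) h4

end Quad

end CfsgLib.OrderPFive
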