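import Mathlib
import Cfsg.Agent.Lib.Fusion.OrderPFive.Quad

/-!
The groups of order `p ^ 5` of type `T`: generators `s`, `y`, `l`, with `u = ⁅s, y⁆`,
`z = ⁅y, u⁆` and `⁅s, l⁆` spanning the centre. Every automorphism raises `l` to the square of the
exponent of `y`, modulo the subgroup spanned by `u` and `z`.
-/

set_option autoImplicit false
set_option linter.style.haveILetI false
set_option linter.unusedSectionVars false

namespace CfsgLib.OrderPFive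

open scoped commutatorElement

variable {X : Type*} [Group X] [Finite X] {p : ℕ} [hp : Fact p.Prime]

/-- A group of type `T`. -/
structure TypeT (p : ℕ) (M A C : Subgroup X) (s y l : X) : Prop extends Quad p M A C s y where
  commu : Commute s ⁅s, y⁆
  meml : l ∈ A
  movel : ⁅s, l⁆ ≠ 1
  powy : y ^ p ∈ C

namespace TypeT

variable {M A C : Subgroup X} {s y l : X}

theorem hu_mem_B (h : TypeT p M A C s y l) {b : X} (hb : b ∈ Subgroup.zpowers ⁅s, y⁆ ⊔ A) :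
    ∃ j : ℤ, ∃ a ∈ A, b = ⁅s, y⁆ ^ j * a := by
  haveI := h.normA
  obtain ⟨w, hw, a, ha, rfl⟩ := Subgroup.mem_sup_of_normal_right.1 hb
  obtain ⟨j, rfl⟩ := Subgroup.mem_zpowers_iff.1 hw
  exact ⟨j, a, ha, rfl⟩

theorem decompA (h : TypeT p M A C s y l) {a : X} (ha : a ∈ A) :
    ∃ k : ℤ, ∃ c ∈ C, a = l ^ k * c := by
  haveI := h.normC
  haveI hF : Fact (Nat.card (A ⧸ C.subgroupOf A)).Prime :=
    ⟨by rw [← Subgroup.index_eq_card, show (C.subgroupOf A).index = p from h.relIndexCA]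
        exact hp.out⟩
  have hl : QuotientGroup.mk' (C.subgroupOf A) ⟨l, h.meml⟩ ≠ 1 := fun e => by
    have h1 : l ∈ C := (QuotientGroup.eq_one_iff (⟨l, h.meml⟩ : A)).1 e
    exact h.movel (commutatorElement_eq_one_iff_mul_comm.2 (h.central h1 s).eq)
  obtain ⟨k, hk⟩ := Subgroup.mem_zpowers_iff.1 (mem_zpowers_of_prime_card
    (rfl : Nat.card (A ⧸ C.subgroupOf A) = _) hl
    (g' := QuotientGroup.mk' (C.subgroupOf A) ⟨a, ha⟩))
  have h1 := QuotientGroup.eq.1 ((map_zpow (QuotientGroup.mk' (C.subgroupOf A))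
    (⟨l, h.meml⟩ : A) k).trans hk)
  exact ⟨k, (l ^ k)⁻¹ * a, h1, by rw [mul_inv_cancel_left]⟩

theorem w_mem (h : TypeT p M A C s y l) : ⁅s, l⁆ ∈ C := (h.comm_mem_C h.meml s).1

theorem comm_l (h : TypeT p M A C s y l) (i k : ℤ) : ⁅s ^ i, l ^ k⁆ = ⁅s, l⁆ ^ (i * k) :=
  comm_zpow_zpow (h.central h.w_mem s).symm (h.central h.w_mem l).symm i k

theorem dvd_of_l_zpow_mem (h : TypeT p M A C s y l) {k : ℤ} (hk : l ^ k ∈ C) :
    (k : ZMod p) = 0 := by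
  have h1 := h.comm_l 1 k
  rw [zpow_one, one_mul, commutatorElement_eq_one_iff_mul_comm.2 (h.central hk s).eq,
    ← zpow_zero ⁅s, l⁆] at h1
  simpa using (zpow_eq_zpow_zmod (h.orderOf_eq h.w_mem h.movel) h1).symm

theorem zpow_mem_C (h : TypeT p M A C s y l) {a : X} (ha : a ∈ A) {i : ℤ}
    (hi : (i : ZMod p) = 0) : a ^ i ∈ C := by
  obtain ⟨d, rfl⟩ := (ZMod.intCast_zmod_eq_zero_iff_dvd i p).1 hi
  rw [zpow_mul, zpow_natCast]
  exact C.zpow_mem (h.pow_mem_C ha) d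

theorem decomp (h : TypeT p M A C s y l) (g : X) :
    ∃ k i j n : ℤ, ∃ c ∈ C, g = s ^ k * y ^ i * (⁅s, y⁆ ^ j * (l ^ n * c)) := by
  obtain ⟨k, m, hm, rfl⟩ := h.decompX g
  obtain ⟨i, j, a, ha, rfl⟩ := h.decompM hm
  obtain ⟨n, c, hc, rfl⟩ := h.decompA ha
  exact ⟨k, i, j, n, c, hc, by simp only [mul_assoc]⟩

theorem b_commute_u (h : TypeT p M A C s y l) {b : X}
    (hb : b ∈ Subgroup.zpowers ⁅s, y⁆ ⊔ A) (j : ℤ) : Commute b (⁅s, y⁆ ^ j) := by
  obtain ⟨i, a, ha, rfl⟩ := h.hu_mem_B hb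
  exact ((Commute.refl _).zpow_zpow i j).mul_left
    ((h.cent a ha _ h.u_mem).zpow_right j)

theorem u_comm_C (h : TypeT p M A C s y l) (x : X) : ⁅⁅s, y⁆, x⁆ ∈ C := by
  haveI := h.normC
  obtain ⟨k, m, hm, rfl⟩ := h.decompX x
  rw [show ⁅⁅s, y⁆, s ^ k * m⁆ = ⁅⁅s, y⁆, s ^ k⁆ * (s ^ k * ⁅⁅s, y⁆, m⁆ * (s ^ k)⁻¹) by
    simp only [commutatorElement_def]; group,
    commutatorElement_eq_one_iff_mul_comm.2 ((h.commu.zpow_left k).symm).eq, one_mul]
  exact h.normC.conj_mem _ (h.comm _ h.u_mem m hm) _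

theorem qB_central (h : TypeT p M A C s y l) [C.Normal] {b : X}
    (hb : b ∈ Subgroup.zpowers ⁅s, y⁆ ⊔ A) (x : X) :
    Commute (QuotientGroup.mk' C b) (QuotientGroup.mk' C x) := by
  obtain ⟨i, a, ha, rfl⟩ := h.hu_mem_B hb
  rw [map_mul, map_zpow]
  refine (Commute.zpow_left ?_ i).mul_left ?_
  · show _ * _ = _ * _
    rw [← commutatorElement_eq_one_iff_mul_comm, ← map_commutatorElement]
    exact (QuotientGroup.eq_one_iff _).2 (h.u_comm_C x)
  · show _ * _ = _ * _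
    rw [← commutatorElement_eq_one_iff_mul_comm, ← map_commutatorElement]
    exact (QuotientGroup.eq_one_iff _).2 (h.comm_mem_C ha x).2

theorem u_notMem_C (h : TypeT p M A C s y l) : ⁅s, y⁆ ∉ C := fun e => h.moved (h.cle e)

theorem dvd_of_u_zpow (h : TypeT p M A C s y l) [C.Normal] {j : ℤ}
    (hj : (QuotientGroup.mk' C ⁅s, y⁆) ^ j = 1) : (j : ZMod p) = 0 := by
  rw [← map_zpow] at hj
  exact h.dvd_of_u_zpow_mem (h.cle ((QuotientGroup.eq_one_iff _).1 hj))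

theorem mem_B_of_comm (h : TypeT p M A C s y l) {g : X} (hg : ∀ x, ⁅g, x⁆ ∈ C) :
    g ∈ Subgroup.zpowers ⁅s, y⁆ ⊔ A := by
  haveI := h.normC
  obtain ⟨k, i, j, n, c, hc, rfl⟩ := h.decomp g
  obtain ⟨b, hb'⟩ : ∃ b, b = ⁅s, y⁆ ^ j * (l ^ n * c) := ⟨_, rfl⟩
  have hb : b ∈ Subgroup.zpowers ⁅s, y⁆ ⊔ A :=
    hb' ▸ Subgroup.mul_mem_sup (Subgroup.zpow_mem_zpowers _ j)
      (A.mul_mem (A.zpow_mem h.meml n) (h.cle hc))
  rw [← hb'] at hg ⊢
  have hqu : ∀ x, Commute (QuotientGroup.mk' C ⁅s, y⁆) (QuotientGroup.mk' C x) :=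
    h.qB_central (Subgroup.mem_sup_left (Subgroup.mem_zpowers _))
  have hpair : ∀ a₁ a₂ : ℤ, ⁅QuotientGroup.mk' C s ^ a₁, QuotientGroup.mk' C y ^ a₂⁆ =
      QuotientGroup.mk' C ⁅s, y⁆ ^ (a₁ * a₂) := fun a₁ a₂ => by
    rw [comm_zpow_zpow ?_ ?_, map_commutatorElement]
    · rw [← map_commutatorElement]; exact hqu s
    · rw [← map_commutatorElement]; exact hqu y
  have hy0 := hg y
  rw [← QuotientGroup.eq_one_iff] at hy0
  change QuotientGroup.mk' C _ = 1 at hy0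
  rw [map_commutatorElement, map_mul, map_mul, map_zpow, map_zpow,
    comm_mul_cancel_right (h.qB_central hb y),
    comm_mul_cancel_right ((Commute.refl _).zpow_left i),
    ← zpow_one (QuotientGroup.mk' C y), hpair] at hy0
  have hk := h.dvd_of_u_zpow hy0
  rw [mul_one] at hk
  have hs0 := hg s
  rw [← QuotientGroup.eq_one_iff] at hs0
  change QuotientGroup.mk' C _ = 1 at hs0
  rw [map_commutatorElement, map_mul, map_mul, map_zpow, map_zpow,
    comm_mul_cancel_right (h.qB_central hb s)] at hs0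
  have hi : (i : ZMod p) = 0 := by
    refine h.dvd_of_u_zpow (j := i) ?_
    have e1 : ⁅QuotientGroup.mk' C y ^ i, QuotientGroup.mk' C s⁆ = 1 := by
      have e2 : QuotientGroup.mk' C s ^ k * ⁅QuotientGroup.mk' C y ^ i, QuotientGroup.mk' C s⁆ *
          (QuotientGroup.mk' C s ^ k)⁻¹ = 1 := by
        rw [← hs0]
        simp only [commutatorElement_def]
        group
      rw [mul_inv_eq_one, mul_eq_left] at e2
      exact e2
    rw [← commutatorElement_inv, inv_eq_one, ← zpow_one (QuotientGroup.mk' C s), hpair,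
      one_mul] at e1
    exact e1
  have hs' : s ^ k ∈ Subgroup.zpowers ⁅s, y⁆ ⊔ A := by
    obtain ⟨d, rfl⟩ := (ZMod.intCast_zmod_eq_zero_iff_dvd k p).1 hk
    rw [zpow_mul, zpow_natCast]
    refine Subgroup.zpow_mem _ ?_ d
    haveI := h.normM
    have hsM : s ^ p ∈ M := h.indexM ▸ M.pow_index_mem s
    obtain ⟨i', j', a, ha, e⟩ := h.decompM hsM
    haveI := h.normA
    have h1 : ⁅QuotientGroup.mk' A (s ^ p), QuotientGroup.mk' A s⁆ = 1 :=
      commutatorElement_eq_one_iff_mul_comm.2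
        (by rw [← map_mul, ← map_mul, ((Commute.refl s).pow_left p).eq])
    have hi' : (i' : ZMod p) = 0 := by
      haveI := h.normA
      rw [e, map_mul, map_mul, map_zpow, map_zpow, show QuotientGroup.mk' A a = 1 from (QuotientGroup.eq_one_iff a).2 ha, mul_one,
        comm_mul_cancel_right ((h.qu_central s).zpow_left j'), ← commutatorElement_inv, inv_eq_one,
        ← zpow_one (QuotientGroup.mk' A s), comm_zpow_zpow ?_ ?_, one_mul,
        ← map_commutatorElement, ← map_zpow] at h1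
      · exact h.dvd_of_u_zpow_mem ((QuotientGroup.eq_one_iff _).1 h1)
      · rw [← map_commutatorElement]; exact h.qu_central s
      · rw [← map_commutatorElement]; exact h.qu_central y
    rw [e]
    exact mul_mem (mul_mem (Subgroup.mem_sup_right (h.zpow_mem_A h.memy hi'))
      (Subgroup.mem_sup_left (Subgroup.zpow_mem_zpowers _ j'))) (Subgroup.mem_sup_right ha)
  exact mul_mem (mul_mem hs' (Subgroup.mem_sup_right (h.zpow_mem_A h.memy hi))) hb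

theorem center_le (h : TypeT p M A C s y l) {g : X} (hg : ∀ x, Commute g x) : g ∈ C := by
  haveI := h.normC
  have hB := h.mem_B_of_comm (g := g) fun x => by
    rw [commutatorElement_eq_one_iff_mul_comm.2 (hg x).eq]; exact one_mem _
  obtain ⟨j, a, ha, rfl⟩ := h.hu_mem_B hB
  obtain ⟨n, c, hc, rfl⟩ := h.decompA ha
  have e1 := commutatorElement_eq_one_iff_mul_comm.2 (hg y).symm.eq
  have hc1 : Commute y (l ^ n * c) := (h.cent _ ha y h.memy).symm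
  rw [comm_mul_cancel_right' hc1] at e1
  have e2 : ⁅y, ⁅s, y⁆⁆ ^ j = 1 := by
    have := h.z_pow 1 j
    rw [zpow_one, one_mul] at this
    rw [← this, e1]
  have hj : (j : ZMod p) = 0 := by
    simpa using zpow_eq_zpow_zmod h.z_order (e2.trans (zpow_zero _).symm)
  have huj : ⁅s, y⁆ ^ j ∈ A := h.zpow_mem_A h.u_mem hj
  obtain ⟨n', c', hc', he⟩ := h.decompA (A.mul_mem huj ha)
  have e3 := commutatorElement_eq_one_iff_mul_comm.2 (hg s).symm.eq
  have e4 := h.comm_l 1 n'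
  rw [zpow_one, one_mul] at e4
  rw [he, comm_mul_cancel_right' (h.central hc' s), e4] at e3
  have hn : (n' : ZMod p) = 0 := by
    simpa using zpow_eq_zpow_zmod (h.orderOf_eq h.w_mem h.movel) (e3.trans (zpow_zero _).symm)
  rw [he]
  exact C.mul_mem (h.zpow_mem_C h.meml hn) hc'

/-- Commutators lie in the span of `⁅s, y⁆` and the centre. -/
theorem derived_le (h : TypeT p M A C s y l) [C.Normal] (g g' : X) :
    ∃ j : ℤ, QuotientGroup.mk' C ⁅g, g'⁆ = QuotientGroup.mk' C ⁅s, y⁆ ^ j := by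
  obtain ⟨k, i, j, n, c, hc, rfl⟩ := h.decomp g
  obtain ⟨k', i', j', n', c', hc', rfl⟩ := h.decomp g'
  obtain ⟨b, hb'⟩ : ∃ b, b = ⁅s, y⁆ ^ j * (l ^ n * c) := ⟨_, rfl⟩
  obtain ⟨b', hb''⟩ : ∃ b', b' = ⁅s, y⁆ ^ j' * (l ^ n' * c') := ⟨_, rfl⟩
  have hb : b ∈ Subgroup.zpowers ⁅s, y⁆ ⊔ A :=
    hb' ▸ Subgroup.mul_mem_sup (Subgroup.zpow_mem_zpowers _ j)
      (A.mul_mem (A.zpow_mem h.meml n) (h.cle hc))
  have hbb : b' ∈ Subgroup.zpowers ⁅s, y⁆ ⊔ A :=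
    hb'' ▸ Subgroup.mul_mem_sup (Subgroup.zpow_mem_zpowers _ j')
      (A.mul_mem (A.zpow_mem h.meml n') (h.cle hc'))
  have hqu : ∀ x, Commute (QuotientGroup.mk' C ⁅s, y⁆) (QuotientGroup.mk' C x) :=
    h.qB_central (Subgroup.mem_sup_left (Subgroup.mem_zpowers _))
  have hpair : ∀ a₁ a₂ : ℤ, ⁅QuotientGroup.mk' C s ^ a₁, QuotientGroup.mk' C y ^ a₂⁆ =
      QuotientGroup.mk' C ⁅s, y⁆ ^ (a₁ * a₂) := fun a₁ a₂ => by
    rw [comm_zpow_zpow ?_ ?_, map_commutatorElement]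
    · rw [← map_commutatorElement]; exact hqu s
    · rw [← map_commutatorElement]; exact hqu y
  refine ⟨k * i' - k' * i, ?_⟩
  rw [← hb', ← hb'', map_commutatorElement, map_mul (QuotientGroup.mk' C) (s ^ k * y ^ i),
    comm_mul_cancel_right (h.qB_central hb _), map_mul (QuotientGroup.mk' C) (s ^ k' * y ^ i'),
    comm_mul_cancel_right' (h.qB_central hbb _).symm, map_mul, map_mul, map_zpow, map_zpow,
    map_zpow, map_zpow]
  obtain ⟨S', hS'⟩ : ∃ S', S' = QuotientGroup.mk' C s := ⟨_, rfl⟩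
  obtain ⟨Y', hY'⟩ : ∃ Y', Y' = QuotientGroup.mk' C y := ⟨_, rfl⟩
  obtain ⟨U', hU'⟩ : ∃ U', U' = QuotientGroup.mk' C ⁅s, y⁆ := ⟨_, rfl⟩
  rw [← hS', ← hY', ← hU'] at hpair
  rw [← hS', ← hY', ← hU']
  have hcU : ∀ (a : ℤ) (x : X), Commute (U' ^ a) (QuotientGroup.mk' C x) := fun a x =>
    hU' ▸ (hqu x).zpow_left a
  have hcS : ∀ a b : ℤ, Commute (U' ^ a) (S' ^ b) := fun a b => by
    rw [hS', ← map_zpow]; exact hcU a _
  have hsw : ∀ a₁ a₂ : ℤ, ⁅Y' ^ a₂, S' ^ a₁⁆ = U' ^ (-(a₁ * a₂)) := fun a₁ a₂ => by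
    rw [← commutatorElement_inv, hpair, zpow_neg]
  calc ⁅S' ^ k * Y' ^ i, S' ^ k' * Y' ^ i'⁆
      = S' ^ k * ⁅Y' ^ i, S' ^ k'⁆ * (S' ^ k)⁻¹ *
          (S' ^ k * S' ^ k' * ⁅Y' ^ i, Y' ^ i'⁆ * (S' ^ k * S' ^ k')⁻¹) *
          ⁅S' ^ k, S' ^ k'⁆ * (S' ^ k' * ⁅S' ^ k, Y' ^ i'⁆ * (S' ^ k')⁻¹) := by
        simp only [commutatorElement_def]; group
    _ = U' ^ (k * i' - k' * i) := by
      rw [hsw, hpair, commutatorElement_eq_one_iff_mul_comm.2
          ((Commute.refl Y').zpow_zpow i i').eq,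
        commutatorElement_eq_one_iff_mul_comm.2 ((Commute.refl S').zpow_zpow k k').eq]
      simp only [mul_one, mul_inv_cancel, ← (hcS _ k).eq, ← (hcS _ k').eq, mul_inv_cancel_right]
      rw [← zpow_add]
      congr 1
      ring

/-- Every automorphism raises `l` to the square of its exponent on `y`. -/
theorem scalar (h : TypeT p M A C s y l) (σ : MulAut X) {k α : ℤ} {b : X}
    (hb : b ∈ Subgroup.zpowers ⁅s, y⁆ ⊔ A) (hy : σ y = s ^ k * y ^ α * b) :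
    (α : ZMod p) ≠ 0 ∧ ∃ n j : ℤ, ∃ c ∈ C, (n : ZMod p) = α * α ∧
      σ l = ⁅s, y⁆ ^ j * (l ^ n * c) := by
  haveI := h.normC
  have hcen : ∀ g, (∀ x, Commute g x) → ∀ x, Commute (σ g) x := fun g hg x => by
    obtain ⟨x, rfl⟩ := σ.surjective x
    exact (hg x).map σ
  have hCσ : ∀ c ∈ C, σ c ∈ C := fun c hc => h.center_le (hcen c fun x => (h.central hc x).symm)
  -- the image of `u`
  obtain ⟨β, hβ⟩ : ∃ β : ℤ, QuotientGroup.mk' C (σ ⁅s, y⁆) = QuotientGroup.mk' C ⁅s, y⁆ ^ β := by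
    rw [map_commutatorElement σ]; exact h.derived_le _ _
  have hσu : σ ⁅s, y⁆ = ⁅s, y⁆ ^ β * ((⁅s, y⁆ ^ β)⁻¹ * σ ⁅s, y⁆) := by rw [mul_inv_cancel_left]
  have hcu : (⁅s, y⁆ ^ β)⁻¹ * σ ⁅s, y⁆ ∈ C :=
    QuotientGroup.eq.1 ((map_zpow (QuotientGroup.mk' C) _ β).trans hβ.symm)
  have hbu : Commute b (⁅s, y⁆ ^ β) := h.b_commute_u hb β
  -- the image of `z`
  have hσz : σ ⁅y, ⁅s, y⁆⁆ = ⁅y, ⁅s, y⁆⁆ ^ (α * β) := by
    rw [map_commutatorElement σ, hy, hσu, comm_mul_cancel_right' (h.central hcu _),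
      comm_mul_cancel_right hbu,
      show ⁅s ^ k * y ^ α, ⁅s, y⁆ ^ β⁆ =
        s ^ k * ⁅y ^ α, ⁅s, y⁆ ^ β⁆ * (s ^ k)⁻¹ * ⁅s ^ k, ⁅s, y⁆ ^ β⁆ by
          simp only [commutatorElement_def]; group,
      h.z_pow, commutatorElement_eq_one_iff_mul_comm.2 (h.commu.zpow_zpow k β).eq, mul_one,
      (h.central (C.zpow_mem h.z_mem _) (s ^ k)).eq, mul_inv_cancel_right]
  have hz0 : ((α * β : ℤ) : ZMod p) ≠ 0 := fun e => by
    obtain ⟨d, hd⟩ := (ZMod.intCast_zmod_eq_zero_iff_dvd _ p).1 e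
    rw [hd, zpow_mul, zpow_natCast, h.pow_eq_one h.z_mem, one_zpow] at hσz
    exact h.z_ne (σ.injective (hσz.trans (map_one σ).symm))
  push_cast at hz0
  have hα : (α : ZMod p) ≠ 0 := left_ne_zero_of_mul hz0
  have hβ0 : (β : ZMod p) ≠ 0 := right_ne_zero_of_mul hz0
  refine ⟨hα, ?_⟩
  -- the image of `s` centralizes `u`
  obtain ⟨η, i, j₁, n₁, c₁, hc₁, hs⟩ := h.decomp (σ s)
  obtain ⟨b₁, hb₁'⟩ : ∃ b₁, b₁ = ⁅s, y⁆ ^ j₁ * (l ^ n₁ * c₁) := ⟨_, rfl⟩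
  have hb₁ : b₁ ∈ Subgroup.zpowers ⁅s, y⁆ ⊔ A :=
    hb₁' ▸ Subgroup.mul_mem_sup (Subgroup.zpow_mem_zpowers _ j₁)
      (A.mul_mem (A.zpow_mem h.meml n₁) (h.cle hc₁))
  rw [← hb₁'] at hs
  have hi : (i : ZMod p) = 0 := by
    have e := commutatorElement_eq_one_iff_mul_comm.2 (h.commu.map σ).eq
    rw [hs, hσu, comm_mul_cancel_right' (h.central hcu _),
      comm_mul_cancel_right (h.b_commute_u hb₁ β),
      show ⁅s ^ η * y ^ i, ⁅s, y⁆ ^ β⁆ =
        s ^ η * ⁅y ^ i, ⁅s, y⁆ ^ β⁆ * (s ^ η)⁻¹ * ⁅s ^ η, ⁅s, y⁆ ^ β⁆ by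
          simp only [commutatorElement_def]; group,
      h.z_pow, commutatorElement_eq_one_iff_mul_comm.2 (h.commu.zpow_zpow η β).eq, mul_one,
      (h.central (C.zpow_mem h.z_mem _) (s ^ η)).eq, mul_inv_cancel_right] at e
    have e' := zpow_eq_zpow_zmod h.z_order (e.trans (zpow_zero _).symm)
    push_cast at e'
    exact (mul_eq_zero.1 e').resolve_right hβ0
  obtain ⟨b₂, hb₂'⟩ : ∃ b₂, b₂ = y ^ i * b₁ := ⟨_, rfl⟩
  have hb₂ : b₂ ∈ Subgroup.zpowers ⁅s, y⁆ ⊔ A :=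
    hb₂' ▸ mul_mem (Subgroup.mem_sup_right (h.zpow_mem_A h.memy hi)) hb₁
  rw [mul_assoc, ← hb₂'] at hs
  -- `β` is the product
  have hβv : (β : ZMod p) = η * α := by
    have hqu : ∀ x, Commute (QuotientGroup.mk' C ⁅s, y⁆) (QuotientGroup.mk' C x) :=
      h.qB_central (Subgroup.mem_sup_left (Subgroup.mem_zpowers _))
    have e : QuotientGroup.mk' C (σ ⁅s, y⁆) = QuotientGroup.mk' C ⁅s, y⁆ ^ (η * α) := by
      rw [map_commutatorElement σ, map_commutatorElement (QuotientGroup.mk' C), hs, hy,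
        map_mul (QuotientGroup.mk' C) (s ^ η), comm_mul_cancel_right (h.qB_central hb₂ _),
        map_mul (QuotientGroup.mk' C) (s ^ k * y ^ α),
        comm_mul_cancel_right' (h.qB_central hb _).symm, map_mul, map_zpow, map_zpow, map_zpow,
        show ⁅QuotientGroup.mk' C s ^ η,
          QuotientGroup.mk' C s ^ k * QuotientGroup.mk' C y ^ α⁆ =
          ⁅QuotientGroup.mk' C s ^ η, QuotientGroup.mk' C s ^ k⁆ *
            (QuotientGroup.mk' C s ^ k * ⁅QuotientGroup.mk' C s ^ η, QuotientGroup.mk' C y ^ α⁆ *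
              (QuotientGroup.mk' C s ^ k)⁻¹) by simp only [commutatorElement_def]; group,
        commutatorElement_eq_one_iff_mul_comm.2 ((Commute.refl _).zpow_zpow η k).eq, one_mul,
        comm_zpow_zpow ?_ ?_, ← map_commutatorElement, ((hqu s).zpow_zpow _ k).symm.eq,
        mul_inv_cancel_right]
      · rw [← map_commutatorElement]; exact hqu s
      · rw [← map_commutatorElement]; exact hqu y
    have e1 := h.dvd_of_u_zpow (j := β - η * α) (by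
      rw [zpow_sub, ← hβ, ← e, mul_inv_cancel])
    push_cast at e1
    exact sub_eq_zero.1 e1
  -- the image of `l`
  have hσlB : σ l ∈ Subgroup.zpowers ⁅s, y⁆ ⊔ A := h.mem_B_of_comm fun x => by
    obtain ⟨x, rfl⟩ := σ.surjective x
    rw [← map_commutatorElement σ]
    exact hCσ _ (h.comm_mem_C h.meml x).2
  obtain ⟨j, a, ha, hl⟩ := h.hu_mem_B hσlB
  obtain ⟨n, c, hc, rfl⟩ := h.decompA ha
  refine ⟨n, j, c, hc, ?_, hl⟩
  obtain ⟨r, hr⟩ : ∃ r : ℤ, ⁅y, ⁅s, y⁆⁆ ^ r = ⁅s, l⁆ := by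
    haveI : Fact (Nat.card C).Prime := ⟨h.cardC.symm ▸ hp.out⟩
    obtain ⟨r, hr⟩ := Subgroup.mem_zpowers_iff.1 (mem_zpowers_of_prime_card
      (rfl : Nat.card C = _) (g := (⟨_, h.z_mem⟩ : C))
      (fun e => h.z_ne (congrArg Subtype.val e)) (g' := (⟨_, h.w_mem⟩ : C)))
    exact ⟨r, congrArg Subtype.val hr⟩
  have hw1 : σ ⁅s, l⁆ = ⁅s, l⁆ ^ (α * β) := by
    rw [← hr, map_zpow, hσz, ← zpow_mul, ← zpow_mul, mul_comm]
  have hw2 : σ ⁅s, l⁆ = ⁅s, l⁆ ^ (η * n) := by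
    rw [map_commutatorElement σ, hs, hl]
    obtain ⟨i₂, a₂, ha₂, e₂⟩ := h.hu_mem_B hb₂
    have huA : ∀ v : ℤ, Commute (⁅s, y⁆ ^ v) (⁅s, y⁆ ^ j * (l ^ n * c)) := fun v =>
      ((Commute.refl _).zpow_zpow v j).mul_right ((h.cent _ ha _ h.u_mem).symm.zpow_left v)
    have hcb : Commute b₂ (⁅s, y⁆ ^ j * (l ^ n * c)) := by
      rw [e₂]
      exact (huA i₂).mul_left (h.cent a₂ ha₂ _ (M.mul_mem (M.zpow_mem h.u_mem j) (h.le ha)))
    rw [comm_mul_cancel_right hcb,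
      show ⁅s ^ η, ⁅s, y⁆ ^ j * (l ^ n * c)⁆ =
        ⁅s ^ η, ⁅s, y⁆ ^ j⁆ * (⁅s, y⁆ ^ j * ⁅s ^ η, l ^ n * c⁆ * (⁅s, y⁆ ^ j)⁻¹) by
          simp only [commutatorElement_def]; group,
      commutatorElement_eq_one_iff_mul_comm.2 (h.commu.zpow_zpow η j).eq, one_mul,
      comm_mul_cancel_right' (h.central hc (s ^ η)), h.comm_l,
      (h.central (C.zpow_mem h.w_mem _) _).eq, mul_inv_cancel_right]
  have e := zpow_eq_zpow_zmod (h.orderOf_eq h.w_mem h.movel) (hw1.symm.trans hw2)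
  push_cast at e
  rw [hβv] at e
  have hη : (η : ZMod p) ≠ 0 := fun e0 => hβ0 (by rw [hβv, e0, zero_mul])
  refine mul_left_cancel₀ hη ?_
  linear_combination -e

/-- A functional killing everything but `l`. -/
theorem exists_functional (h : TypeT p M A C s y l) :
    ∃ χ : X →* Multiplicative (ZMod p), χ l ≠ 1 ∧ χ ⁅s, y⁆ = 1 ∧ ∀ c ∈ C, χ c = 1 := by
  classical
  haveI := h.normC
  haveI := h.normM
  obtain ⟨Φ, hΦ⟩ : ∃ Φ, Φ = Subgroup.zpowers ⁅s, y⁆ ⊔ C := ⟨_, rfl⟩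
  have hder : ∀ g g' : X, ⁅g, g'⁆ ∈ Φ := fun g g' => by
    obtain ⟨j, hj⟩ := h.derived_le g g'
    rw [← map_zpow] at hj
    obtain ⟨c, hc, e⟩ := (QuotientGroup.mk'_eq_mk' C).1 hj.symm
    rw [hΦ, ← e]
    exact Subgroup.mul_mem_sup (Subgroup.zpow_mem_zpowers _ j) hc
  haveI hΦn : Φ.Normal := ⟨fun x hx g => by
    rw [show g * x * g⁻¹ = ⁅g, x⁆ * x by rw [commutatorElement_def]; group]
    exact mul_mem (hder g x) hx⟩
  letI : CommGroup (X ⧸ Φ) :=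
    { (inferInstance : Group (X ⧸ Φ)) with
      mul_comm := fun a b => by
        obtain ⟨a, rfl⟩ := QuotientGroup.mk'_surjective Φ a
        obtain ⟨b, rfl⟩ := QuotientGroup.mk'_surjective Φ b
        rw [← commutatorElement_eq_one_iff_mul_comm, ← map_commutatorElement]
        exact (QuotientGroup.eq_one_iff _).2 (hder a b) }
  -- powers
  have hyΦ : y ^ p ∈ Φ := hΦ ▸ Subgroup.mem_sup_right h.powy
  have hsΦ : s ^ p ∈ Φ := by
    have hsp : ∀ x, ⁅s ^ p, x⁆ ∈ C := fun x => by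
      obtain ⟨k, m, hm, rfl⟩ := h.decompX x
      rw [show ⁅s ^ p, s ^ k * m⁆ = ⁅s ^ p, s ^ k⁆ * (s ^ k * ⁅s ^ p, m⁆ * (s ^ k)⁻¹) by
        simp only [commutatorElement_def]; group,
        commutatorElement_eq_one_iff_mul_comm.2
          (((Commute.refl s).pow_left p).zpow_right k).eq, one_mul]
      exact h.normC.conj_mem _ (h.comm _ (h.indexM ▸ M.pow_index_mem s) m hm) _
    obtain ⟨j, a, ha, e⟩ := h.hu_mem_B (h.mem_B_of_comm hsp)
    obtain ⟨n, c, hc, rfl⟩ := h.decompA ha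
    have e0 := commutatorElement_eq_one_iff_mul_comm.2 ((Commute.refl s).pow_right p).eq
    rw [e, show ⁅s, ⁅s, y⁆ ^ j * (l ^ n * c)⁆ =
      ⁅s, ⁅s, y⁆ ^ j⁆ * (⁅s, y⁆ ^ j * ⁅s, l ^ n * c⁆ * (⁅s, y⁆ ^ j)⁻¹) by
        simp only [commutatorElement_def]; group,
      commutatorElement_eq_one_iff_mul_comm.2 (h.commu.zpow_right j).eq, one_mul,
      mul_inv_eq_one, mul_eq_left, comm_mul_cancel_right' (h.central hc s)] at e0
    have e1 := h.comm_l 1 n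
    rw [zpow_one, one_mul, e0, ← zpow_zero ⁅s, l⁆] at e1
    have hn : (n : ZMod p) = 0 := by
      simpa using (zpow_eq_zpow_zmod (h.orderOf_eq h.w_mem h.movel) e1).symm
    rw [e, hΦ]
    exact Subgroup.mul_mem_sup (Subgroup.zpow_mem_zpowers _ j)
      (C.mul_mem (h.zpow_mem_C h.meml hn) hc)
  -- the subgroup generated by `s` and `y`
  obtain ⟨q, hq⟩ : ∃ q : X →* X ⧸ Φ, q = QuotientGroup.mk' Φ := ⟨_, rfl⟩
  have hq1 : ∀ g, q g = 1 ↔ g ∈ Φ := fun g => by rw [hq]; exact QuotientGroup.eq_one_iff g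
  obtain ⟨W, hW⟩ : ∃ W, W = Subgroup.zpowers (q s) ⊔ Subgroup.zpowers (q y) := ⟨_, rfl⟩
  have hWc : Nat.card W ≤ p * p := by
    have hc : ∀ g : X, g ^ p ∈ Φ → Nat.card (Subgroup.zpowers (q g)) ≤ p := fun g hg => by
      rw [Nat.card_zpowers]
      exact Nat.le_of_dvd hp.out.pos (orderOf_dvd_of_pow_eq_one (by rw [← map_pow, hq1]; exact hg))
    rw [hW]
    refine le_trans ?_ (Nat.mul_le_mul (hc s hsΦ) (hc y hyΦ))
    rw [← Nat.card_prod]
    refine Nat.card_le_card_of_surjective (fun x => (⟨(x.1 : X ⧸ Φ) * x.2,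
      Subgroup.mul_mem_sup x.1.2 x.2.2⟩ :
        (Subgroup.zpowers (q s) ⊔ Subgroup.zpowers (q y) : Subgroup (X ⧸ Φ)))) fun w => ?_
    obtain ⟨a, ha, b, hb, e⟩ := Subgroup.mem_sup.1 w.2
    exact ⟨(⟨a, ha⟩, ⟨b, hb⟩), Subtype.ext e⟩
  have hΦc : Nat.card Φ ≤ p * p := by
    have hu : ⁅s, y⁆ ^ p ∈ C := h.center_le fun x => by
      have e : ∀ m ∈ M, Commute (⁅s, y⁆ ^ p) m := fun m hm => by
        refine (h.cent _ ?_ m hm)
        exact h.sq_pow_mem_A h.u_mem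
      obtain ⟨k, m, hm, rfl⟩ := h.decompX x
      exact ((h.commu.zpow_left k).symm.pow_left p).mul_right (e m hm)
    rw [hΦ]
    let f : Fin p × C → ↥(Subgroup.zpowers ⁅s, y⁆ ⊔ C) := fun x =>
      ⟨⁅s, y⁆ ^ (x.1 : ℕ) * x.2, Subgroup.mul_mem_sup (pow_mem (Subgroup.mem_zpowers _) _) x.2.2⟩
    refine le_trans (Nat.card_le_card_of_surjective f fun w => ?_)
      (by rw [Nat.card_prod, Nat.card_fin, h.cardC])
    obtain ⟨a, ha, c, hc, e⟩ := Subgroup.mem_sup_of_normal_right.1 w.2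
    obtain ⟨i, rfl⟩ := Subgroup.mem_zpowers_iff.1 ha
    have hp0 : (p : ℤ) ≠ 0 := by exact_mod_cast hp.out.ne_zero
    refine ⟨(⟨(i % p).toNat, ?_⟩, ⟨(⁅s, y⁆ ^ p) ^ (i / p) * c, C.mul_mem (C.zpow_mem hu _) hc⟩),
      Subtype.ext ?_⟩
    · have := Int.emod_lt_of_pos i (by exact_mod_cast hp.out.pos : (0 : ℤ) < p)
      have := Int.emod_nonneg i hp0
      omega
    · show ⁅s, y⁆ ^ (i % p).toNat * ((⁅s, y⁆ ^ p) ^ (i / p) * c) = w
      rw [← e, ← mul_assoc, ← zpow_natCast, Int.toNat_of_nonneg (Int.emod_nonneg i hp0),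
        ← zpow_natCast ⁅s, y⁆ p, ← zpow_mul, ← zpow_add, Int.emod_add_mul_ediv i p]
  have hlW : q l ∉ W := by
    intro hl
    have hall : W = ⊤ := by
      refine eq_top_iff.2 fun x _ => ?_
      obtain ⟨g, rfl⟩ := QuotientGroup.mk'_surjective Φ x
      rw [← hq]
      obtain ⟨k, i, j, n, c, hc, rfl⟩ := h.decomp g
      have hu1 : q ⁅s, y⁆ = 1 :=
        (hq1 _).2 (hΦ ▸ Subgroup.mem_sup_left (Subgroup.mem_zpowers _))
      have hc1 : q c = 1 := (hq1 c).2 (hΦ ▸ Subgroup.mem_sup_right hc)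
      simp only [map_mul, map_zpow, hu1, hc1, one_zpow, one_mul, mul_one]
      exact W.mul_mem (W.mul_mem (W.zpow_mem (hW ▸ Subgroup.mem_sup_left (Subgroup.mem_zpowers _)) k)
        (W.zpow_mem (hW ▸ Subgroup.mem_sup_right (Subgroup.mem_zpowers _)) i)) (W.zpow_mem hl n)
    have h1 := Subgroup.card_eq_card_quotient_mul_card_subgroup Φ
    rw [h.card] at h1
    have h2 : Nat.card (X ⧸ Φ) = Nat.card W := by rw [hall, Subgroup.card_top]
    have h3 : p ^ 5 ≤ p * p * (p * p) := by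
      rw [h1, h2]; exact Nat.mul_le_mul hWc hΦc
    have h4 : p * p * (p * p) < p ^ 5 := by
      rw [show p * p * (p * p) = p ^ 4 by ring]
      exact Nat.pow_lt_pow_right hp.out.one_lt (by norm_num)
    omega
  have hWX : W.comap q ≠ ⊤ := fun e => hlW (e.ge (Subgroup.mem_top l))
  obtain ⟨K, hK, hle⟩ := (IsCoatomic.eq_top_or_exists_le_coatom (W.comap q)).resolve_left hWX
  obtain ⟨hKn, hKi⟩ := Conjugacy.coatom_normal_index h.isPGroup hK
  haveI := hKn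
  have hKc : Nat.card (X ⧸ K) = p := by rw [← Subgroup.index_eq_card, hKi]
  haveI : Fact (Nat.card (X ⧸ K)).Prime := ⟨hKc.symm ▸ hp.out⟩
  haveI : IsCyclic (X ⧸ K) := isCyclic_of_prime_card rfl
  let e : X ⧸ K ≃* Multiplicative (ZMod p) :=
    (mulEquivOfCyclicCardEq (by rw [hKc, Nat.card_congr Multiplicative.toAdd, Nat.card_zmod]))
  have hΦK : ∀ g ∈ Φ, g ∈ K := fun g hg => hle (by
    show q g ∈ W
    rw [(hq1 g).2 hg]; exact one_mem _)
  refine ⟨e.toMonoidHom.comp (QuotientGroup.mk' K), fun el => hlW ?_, ?_, fun c hc => ?_⟩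
  · have hlK : l ∈ K := (QuotientGroup.eq_one_iff l).1
      (e.injective (el.trans (map_one e).symm))
    by_contra hnot
    have hsy : s ∈ K ∧ y ∈ K := ⟨hle (show q s ∈ W from hW ▸ Subgroup.mem_sup_left
      (Subgroup.mem_zpowers _)), hle (show q y ∈ W from hW ▸ Subgroup.mem_sup_right
      (Subgroup.mem_zpowers _))⟩
    refine hK.1 (eq_top_iff.2 fun g _ => ?_)
    obtain ⟨k, i, j, n, c, hc, rfl⟩ := h.decomp g
    exact K.mul_mem (K.mul_mem (K.zpow_mem hsy.1 k) (K.zpow_mem hsy.2 i))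
      (K.mul_mem (K.zpow_mem (hΦK _ (hΦ ▸ Subgroup.mem_sup_left (Subgroup.mem_zpowers _))) j)
        (K.mul_mem (K.zpow_mem hlK n) (hΦK _ (hΦ ▸ Subgroup.mem_sup_right hc))))
  · show e (QuotientGroup.mk' K ⁅s, y⁆) = 1
    rw [show QuotientGroup.mk' K ⁅s, y⁆ = 1 from (QuotientGroup.eq_one_iff _).2
      (hΦK _ (hΦ ▸ Subgroup.mem_sup_left (Subgroup.mem_zpowers _))), map_one]
  · show e (QuotientGroup.mk' K c) = 1
    rw [show QuotientGroup.mk' K c = 1 from (QuotientGroup.eq_one_iff _).2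
      (hΦK _ (hΦ ▸ Subgroup.mem_sup_right hc)), map_one]

end TypeT

end CfsgLib.OrderPFive
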