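import Mathlib
import Cfsg.Agent.Lib.Fusion.OrderPFive.Extend
import Cfsg.Agent.Lib.Fusion.OrderPFive.TypeT
import Cfsg.Agent.Lib.Fusion.RankTwoInversion

/-!
A normal subgroup `M` of order `p ^ 4` in a saturated fusion system on a group of order `p ^ 5`:
either every automorphism of `M` extends to `S`, or some automorphism inverts `M` modulo its
centre, and then the group has type `T` and `p = 3`.
-/

set_option autoImplicit false
set_option linter.style.haveILetI false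
set_option linter.unusedSectionVars false

namespace CfsgLib.OrderPFive

open Cfsg Cfsg.FusionSystem CfsgLib.Fusion
open scoped commutatorElement

variable {Ω : Type*} [Group Ω] {S : Subgroup Ω} [Finite S] {F : FusionSystem S} {p : ℕ}
  [hp : Fact p.Prime]

/-- The setting: a `Quad` inside a saturated fusion system. -/
structure Four (F : FusionSystem S) (p : ℕ) (M : Subgroup Ω) (A C : Subgroup S) (s y : S) :
    Prop where
  pgroup : IsPGroup p S
  sat : F.IsSaturated p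
  odd : p ≠ 2
  le : M ≤ S
  quad : Quad p (M.subgroupOf S) A C s y

namespace Four

variable {M : Subgroup Ω} {A C : Subgroup S} {s y : S}

/-- `M` as a map into `S`. -/
abbrev ι (h : Four F p M A C s y) : M →* S := Subgroup.inclusion h.le

theorem ι_mem (h : Four F p M A C s y) (m : M) : h.ι m ∈ M.subgroupOf S := m.2

theorem exists_ι (h : Four F p M A C s y) {x : S} (hx : x ∈ M.subgroupOf S) :
    ∃ m : M, h.ι m = x :=
  ⟨⟨x, hx⟩, Subtype.ext rfl⟩

theorem finiteM (h : Four F p M A C s y) : Finite M := finite_of_le h.le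

theorem normalizer_eq (h : Four F p M A C s y) : normalizerIn S M = S :=
  le_antisymm inf_le_left fun g hg => ⟨hg, mem_normalizer_of_conj_mem h.le fun x hx =>
    h.quad.normM.conj_mem ⟨x, h.le hx⟩ hx ⟨g, hg⟩⟩

theorem fn (h : Four F p M A C s y) : F.IsFullyNormalized M :=
  ⟨h.le, fun Q _ => by rw [h.normalizer_eq]; exact Subgroup.card_le_of_le inf_le_left⟩

theorem mem_A_iff (h : Four F p M A C s y) (m : M) :
    h.ι m ∈ A ↔ m ∈ Subgroup.center M := by
  constructor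
  · exact fun hm => Subgroup.mem_center_iff.2 fun g =>
      Subgroup.inclusion_injective h.le (by
        rw [map_mul, map_mul]
        exact (h.quad.cent _ hm _ (h.ι_mem g)).symm.eq)
  · intro hm
    have hc : ∀ x ∈ M.subgroupOf S, Commute (h.ι m) x := fun x hx => by
      obtain ⟨g, rfl⟩ := h.exists_ι hx
      have hcm : Commute m g := (Subgroup.mem_center_iff.1 hm g).symm
      exact hcm.map h.ι
    obtain ⟨i, j, a, ha, e⟩ := h.quad.decompM (h.ι_mem m)
    have h1 := commutatorElement_eq_one_iff_mul_comm.2 (hc y h.quad.memy).symm.eq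
    have ha' : ∀ x ∈ M.subgroupOf S, Commute x a := fun x hx => (h.quad.cent a ha x hx).symm
    rw [e, comm_mul_cancel_right' (ha' y h.quad.memy),
      show ⁅y, y ^ i * ⁅s, y⁆ ^ j⁆ = y ^ i * ⁅y, ⁅s, y⁆ ^ j⁆ * (y ^ i)⁻¹ by
        simp only [commutatorElement_def]; group, mul_inv_eq_one, mul_eq_left] at h1
    have h2 := h.quad.z_pow 1 j
    rw [zpow_one, one_mul, h1, ← zpow_zero ⁅y, ⁅s, y⁆⁆] at h2
    have hj : (j : ZMod p) = 0 := by simpa using (zpow_eq_zpow_zmod h.quad.z_order h2).symm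
    have h3 := commutatorElement_eq_one_iff_mul_comm.2 (hc _ h.quad.u_mem).eq
    rw [e, comm_mul_cancel_right (h.quad.cent a ha _ h.quad.u_mem),
      comm_mul_cancel_right ((Commute.refl ⁅s, y⁆).zpow_left j)] at h3
    have h4 := h.quad.z_pow i 1
    rw [zpow_one, mul_one, h3, ← zpow_zero ⁅y, ⁅s, y⁆⁆] at h4
    have hi : (i : ZMod p) = 0 := by simpa using (zpow_eq_zpow_zmod h.quad.z_order h4).symm
    rw [e]
    exact A.mul_mem (A.mul_mem (h.quad.zpow_mem_A h.quad.memy hi)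
      (h.quad.zpow_mem_A h.quad.u_mem hj)) ha

theorem aut_mem_A (h : Four F p M A C s y) (α : MulAut M) {m : M} (hm : h.ι m ∈ A) :
    h.ι (α m) ∈ A := by
  rw [mem_A_iff] at hm ⊢
  refine Subgroup.mem_center_iff.2 fun g => ?_
  obtain ⟨g, rfl⟩ := α.surjective g
  rw [← map_mul, ← map_mul, Subgroup.mem_center_iff.1 hm g]

theorem exists_pair (h : Four F p M A C s y) :
    ∃ m m' : M, h.ι m = y ∧ h.ι m' = ⁅s, y⁆ ∧ h.ι ⁅m, m'⁆ = ⁅y, ⁅s, y⁆⁆ := by
  obtain ⟨m, hm⟩ := h.exists_ι h.quad.memy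
  obtain ⟨m', hm'⟩ := h.exists_ι h.quad.u_mem
  exact ⟨m, m', hm, hm', by rw [map_commutatorElement, hm, hm']⟩

theorem mem_C_iff (h : Four F p M A C s y) (x : S) :
    x ∈ C ↔ ∃ i : ℤ, x = ⁅y, ⁅s, y⁆⁆ ^ i := by
  haveI : Fact (Nat.card C).Prime := ⟨h.quad.cardC.symm ▸ hp.out⟩
  refine ⟨fun hx => ?_, fun ⟨i, e⟩ => e ▸ C.zpow_mem h.quad.z_mem i⟩
  obtain ⟨i, hi⟩ := Subgroup.mem_zpowers_iff.1 (mem_zpowers_of_prime_card (rfl : Nat.card C = _)
    (g := (⟨_, h.quad.z_mem⟩ : C)) (fun e => h.quad.z_ne (congrArg Subtype.val e))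
    (g' := (⟨x, hx⟩ : C)))
  exact ⟨i, (congrArg Subtype.val hi).symm⟩

theorem aut_mem_C (h : Four F p M A C s y) (α : MulAut M) {m : M} (hm : h.ι m ∈ C) :
    h.ι (α m) ∈ C := by
  obtain ⟨m₁, m₂, -, -, e⟩ := h.exists_pair
  obtain ⟨i, hi⟩ := (h.mem_C_iff _).1 hm
  rw [← e, ← map_zpow] at hi
  rw [Subgroup.inclusion_injective h.le hi, map_zpow, map_zpow, map_commutatorElement α,
    map_commutatorElement h.ι]
  exact C.zpow_mem (h.quad.comm _ (h.ι_mem _) _ (h.ι_mem _)) i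

/-- The automorphism of `M` induced by `g ∈ S`. -/
theorem exists_conj (h : Four F p M A C s y) (g : S) :
    ∃ γ ∈ F.autGroup M, γ ∈ autInducedBy S M ∧ ∀ m, h.ι (γ m) = g * h.ι m * g⁻¹ := by
  have hg : (g : Ω) ∈ normalizerIn S M := h.normalizer_eq.symm ▸ g.2
  refine ⟨conjAut M hg.2, autInducedBy_le_autGroup h.le (conjAut_mem_autInducedBy hg.2 g.2),
    conjAut_mem_autInducedBy hg.2 g.2, fun m => Subtype.ext ?_⟩
  show (conjAut M hg.2 m : Ω) = _
  rw [conjAut_apply]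
  rfl

theorem induced_apply (h : Four F p M A C s y) {γ : MulAut M} (hγ : γ ∈ autInducedBy S M) :
    ∃ g : S, ∀ m, h.ι (γ m) = g * h.ι m * g⁻¹ := by
  obtain ⟨g, hg, hv⟩ := (mem_autInducedBy_iff S M γ).1 hγ
  exact ⟨⟨g, hg⟩, fun m => Subtype.ext (hv m)⟩

/-- An automorphism normalizing `Aut_S(M)` extends to `S`. -/
theorem extend (h : Four F p M A C s y) {α : MulAut M} (hα : α ∈ F.autGroup M)
    (hn : ∀ γ ∈ autInducedBy S M, α * γ * α⁻¹ ∈ autInducedBy S M) :
    ∃ σ ∈ F.autGroup S, ∀ m, σ (h.ι m) = h.ι (α m) := by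
  obtain ⟨σ, hσ, hv⟩ := exists_extend_top h.pgroup h.sat h.fn h.normalizer_eq hα hn
  exact ⟨σ, hσ, fun m => Subtype.ext (hv (h.ι m) m.2)⟩

theorem conj_mod_A (h : Four F p M A C s y) [A.Normal] (g : S) {x : S}
    (hx : x ∈ M.subgroupOf S) :
    ∃ j : ℤ, QuotientGroup.mk' A (g * x * g⁻¹) =
      QuotientGroup.mk' A ⁅s, y⁆ ^ j * QuotientGroup.mk' A x := by
  obtain ⟨k, m, hm, rfl⟩ := h.quad.decompX g
  obtain ⟨i, j, a, ha, rfl⟩ := h.quad.decompM hx
  refine ⟨k * i, ?_⟩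
  obtain ⟨T, hT⟩ : ∃ T, T = QuotientGroup.mk' A s := ⟨_, rfl⟩
  obtain ⟨Y, hY⟩ : ∃ Y, Y = QuotientGroup.mk' A y := ⟨_, rfl⟩
  obtain ⟨U, hU⟩ : ∃ U, U = QuotientGroup.mk' A ⁅s, y⁆ := ⟨_, rfl⟩
  obtain ⟨N, hN⟩ : ∃ N, N = QuotientGroup.mk' A m := ⟨_, rfl⟩
  have hUc : ∀ x : S, Commute U (QuotientGroup.mk' A x) := fun x => hU ▸ h.quad.qu_central x
  have hTY : ⁅T ^ k, Y ^ i⁆ = U ^ (k * i) := by
    rw [hT, hY, comm_zpow_zpow ?_ ?_, hU, map_commutatorElement]
    · rw [← map_commutatorElement]; exact h.quad.qu_central s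
    · rw [← map_commutatorElement]; exact h.quad.qu_central y
  have hNY : Commute N Y := hN ▸ hY ▸ h.quad.qy_commute hm
  have hNU : Commute N U := hN ▸ (hUc m).symm
  have hTU : Commute T U := hT ▸ (hUc s).symm
  have ha1 : QuotientGroup.mk' A a = 1 := (QuotientGroup.eq_one_iff a).2 ha
  simp only [map_mul, map_inv, map_zpow, ha1, mul_one, ← hT, ← hY, ← hU, ← hN]
  calc T ^ k * N * (Y ^ i * U ^ j) * (T ^ k * N)⁻¹
      = T ^ k * (N * (Y ^ i * U ^ j) * N⁻¹) * (T ^ k)⁻¹ := by group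
    _ = T ^ k * (Y ^ i * U ^ j) * (T ^ k)⁻¹ := by
      rw [((hNY.zpow_right i).mul_right (hNU.zpow_right j)).eq, mul_inv_cancel_right]
    _ = ⁅T ^ k, Y ^ i⁆ * Y ^ i * (T ^ k * U ^ j * (T ^ k)⁻¹) := by
      rw [commutatorElement_def]; group
    _ = U ^ (k * i) * (Y ^ i * U ^ j) := by
      rw [hTY, (hTU.zpow_zpow k j).eq, mul_inv_cancel_right, mul_assoc]

/-- An automorphism preserving the line of `⁅s, y⁆` modulo `A` normalizes `Aut_S(M)`. -/
theorem normalises (h : Four F p M A C s y) {α : MulAut M} (hα : α ∈ F.autGroup M)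
    (hu : ∀ m : M, h.ι m ∈ Subgroup.zpowers ⁅s, y⁆ ⊔ A →
      h.ι (α m) ∈ Subgroup.zpowers ⁅s, y⁆ ⊔ A) :
    ∀ γ ∈ autInducedBy S M, α * γ * α⁻¹ ∈ autInducedBy S M := by
  haveI := h.quad.normA
  haveI := h.quad.normC
  let B : Subgroup S := Subgroup.zpowers ⁅s, y⁆ ⊔ A
  let L : ℕ → Subgroup M := fun i =>
    match i with
    | 0 => ⊥
    | 1 => C.comap h.ι
    | 2 => A.comap h.ι
    | 3 => B.comap h.ι
    | _ => ⊤
  refine normalises_of_series h.pgroup h.sat h.fn L 4 rfl rfl (fun i hi => ?_) hα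
    (fun i hi => ?_) fun g hg i hi x hx hgx => ?_
  · interval_cases i
    · exact bot_le
    · exact Subgroup.comap_mono h.quad.cle
    · exact Subgroup.comap_mono le_sup_right
    · exact le_top
  · interval_cases i
    · intro x hx
      rw [show L 0 = ⊥ from rfl, Subgroup.mem_bot] at hx ⊢
      rw [hx, map_one]
    · exact fun x hx => h.aut_mem_C α hx
    · exact fun x hx => h.aut_mem_A α hx
    · exact fun x hx => hu x hx
    · exact fun x _ => Subgroup.mem_top _
  obtain ⟨v, hv⟩ : ∃ v : M, v = x⁻¹ * ⟨g * (x : Ω) * g⁻¹, hgx⟩ := ⟨_, rfl⟩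
  rw [← hv]
  have hval : h.ι v = (h.ι x)⁻¹ * ((⟨g, hg.1⟩ : S) * h.ι x * (⟨g, hg.1⟩ : S)⁻¹) := by
    rw [hv, map_mul, map_inv]
    rfl
  interval_cases i
  · rw [show L 0 = ⊥ from rfl, Subgroup.mem_bot]
    refine Subgroup.inclusion_injective h.le ?_
    rw [map_one]
    refine hval.trans ?_
    rw [((h.quad.central hx ⟨g, hg.1⟩)).eq, mul_inv_cancel_right, inv_mul_cancel]
  · show h.ι v ∈ C
    rw [hval, show (h.ι x)⁻¹ * ((⟨g, hg.1⟩ : S) * h.ι x * (⟨g, hg.1⟩ : S)⁻¹) =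
      (h.ι x)⁻¹ * ⁅(⟨g, hg.1⟩ : S), h.ι x⁆ * h.ι x by rw [commutatorElement_def]; group]
    exact h.quad.normC.conj_mem' _ (h.quad.comm_mem_C hx _).1 _
  · show h.ι v ∈ A
    obtain ⟨w, hw, a, ha, e⟩ := Subgroup.mem_sup_of_normal_right.1 hx
    obtain ⟨j, rfl⟩ := Subgroup.mem_zpowers_iff.1 hw
    rw [hval, ← QuotientGroup.eq_one_iff]
    show QuotientGroup.mk' A _ = 1
    have hc : Commute (QuotientGroup.mk' A (h.ι x)) (QuotientGroup.mk' A ⟨g, hg.1⟩) := by
      rw [← e, map_mul, map_zpow, show QuotientGroup.mk' A a = 1 from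
        (QuotientGroup.eq_one_iff a).2 ha, mul_one]
      exact (h.quad.qu_central _).zpow_left j
    rw [map_mul, map_mul, map_mul, map_inv, map_inv, ← hc.eq, mul_inv_cancel_right, inv_mul_cancel]
  · show h.ι v ∈ B
    obtain ⟨j, hj⟩ := h.conj_mod_A ⟨g, hg.1⟩ (h.ι_mem x)
    have hq : QuotientGroup.mk' A (h.ι v) = QuotientGroup.mk' A (⁅s, y⁆ ^ j) := by
      rw [hval, map_mul, map_inv, hj, map_zpow, ← mul_assoc,
        ← ((h.quad.qu_central (h.ι x)).zpow_left j).inv_right.eq, mul_assoc, inv_mul_cancel,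
        mul_one]
    obtain ⟨a, ha, e⟩ := (QuotientGroup.mk'_eq_mk' A).1 hq.symm
    rw [← e]
    exact Subgroup.mul_mem_sup (Subgroup.zpow_mem_zpowers _ j) ha

/-- The automorphisms acting trivially on `A / C`. -/
def scalarKer (h : Four F p M A C s y) : Subgroup (F.autGroup M) :=
  haveI := h.finiteM
  haveI : Finite (MulAut M) := finite_mulAut M
  let N : Submonoid (F.autGroup M) :=
    { carrier := {α | ∀ m, h.ι m ∈ A → (h.ι m)⁻¹ * h.ι ((α : MulAut M) m) ∈ C}
      one_mem' := fun m _ => by simp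
      mul_mem' := fun {a b} ha hb m hm => by
        rw [Subgroup.coe_mul, MulAut.mul_apply,
          show (h.ι m)⁻¹ * h.ι ((a : MulAut M) ((b : MulAut M) m)) =
            ((h.ι m)⁻¹ * h.ι ((b : MulAut M) m)) *
              ((h.ι ((b : MulAut M) m))⁻¹ * h.ι ((a : MulAut M) ((b : MulAut M) m))) by group]
        exact C.mul_mem (hb m hm) (ha _ (h.aut_mem_A _ hm)) }
  { N with
    inv_mem' := fun {a} ha => by
      have e : a⁻¹ = a ^ (orderOf a - 1) := by
        refine inv_eq_of_mul_eq_one_right ?_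
        rw [← pow_succ', Nat.sub_add_cancel (orderOf_pos a), pow_orderOf_eq_one]
      rw [e]
      exact N.pow_mem ha _ }

theorem mem_scalarKer (h : Four F p M A C s y) {α : F.autGroup M} :
    α ∈ h.scalarKer ↔ ∀ m, h.ι m ∈ A → (h.ι m)⁻¹ * h.ι ((α : MulAut M) m) ∈ C := Iff.rfl

theorem scalarKer_normal (h : Four F p M A C s y) : h.scalarKer.Normal := by
  refine ⟨fun x hx γ m hm => ?_⟩
  obtain ⟨m, rfl⟩ := (γ : MulAut M).surjective m
  have hm' : h.ι m ∈ A := by
    have := h.aut_mem_A (γ : MulAut M)⁻¹ hm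
    rwa [MulAut.inv_apply_self] at this
  show (h.ι ((γ : MulAut M) m))⁻¹ *
    h.ι (((γ : MulAut M) * x * (γ : MulAut M)⁻¹) ((γ : MulAut M) m)) ∈ C
  rw [MulAut.mul_apply, MulAut.mul_apply, MulAut.inv_apply_self, ← map_inv, ← map_inv, ← map_mul,
    ← map_mul]
  refine h.aut_mem_C _ ?_
  rw [map_mul, map_inv]
  exact hx m hm'

theorem induced_mem_scalarKer (h : Four F p M A C s y) {γ : F.autGroup M}
    (hγ : (γ : MulAut M) ∈ autInducedBy S M) : γ ∈ h.scalarKer := by
  obtain ⟨g, hg⟩ := h.induced_apply hγ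
  intro m hm
  rw [hg, show (h.ι m)⁻¹ * (g * h.ι m * g⁻¹) = (h.ι m)⁻¹ * ⁅g, h.ι m⁆ * h.ι m by
    rw [commutatorElement_def]; group]
  exact h.quad.normC.conj_mem' _ (h.quad.comm_mem_C hm _).1 _

/-- A normal subgroup of `Aut_F(M)` of automorphisms stabilizing the series lies in the `p`-core. -/
theorem mem_pCore (h : Four F p M A C s y) (K : Subgroup (F.autGroup M)) (hK : K.Normal)
    (hker : ∀ α ∈ K, α ∈ h.scalarKer ∧ ∀ m, (h.ι m)⁻¹ * h.ι ((α : MulAut M) m) ∈ A) :
    K ≤ Cfsg.pCore p (F.autGroup M) := by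
  haveI := h.finiteM
  haveI : Finite (MulAut M) := finite_mulAut M
  haveI := h.quad.normA
  haveI := h.quad.normC
  refine CfsgLib.Fitting.le_pCore hK ?_
  have hK' : IsPGroup p (K.map (F.autGroup M).subtype) := by
    let L : ℕ → Subgroup M := fun i =>
      match i with
      | 0 => ⊥
      | 1 => C.comap h.ι
      | 2 => A.comap h.ι
      | _ => ⊤
    refine isPGroup_of_stabilizes_series (h.pgroup.to_le h.le) L 3 rfl rfl _ ?_
    rintro _ ⟨α, hα, rfl⟩ i hi x hx
    obtain ⟨h1, h2⟩ := hker α hα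
    interval_cases i
    · -- commutators are fixed
      rw [show L 0 = ⊥ from rfl, Subgroup.mem_bot]
      obtain ⟨m₁, m₂, e₁, e₂, e⟩ := h.exists_pair
      obtain ⟨j, hj⟩ := (h.mem_C_iff _).1 hx
      rw [← e, ← map_zpow] at hj
      have hfix : (α : MulAut M) ⁅m₁, m₂⁆ = ⁅m₁, m₂⁆ := by
        refine Subgroup.inclusion_injective h.le ?_
        show h.ι _ = h.ι _
        rw [map_commutatorElement (α : MulAut M), map_commutatorElement h.ι,
          map_commutatorElement h.ι,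
          show h.ι ((α : MulAut M) m₁) = h.ι m₁ * ((h.ι m₁)⁻¹ * h.ι ((α : MulAut M) m₁)) by
            rw [mul_inv_cancel_left],
          show h.ι ((α : MulAut M) m₂) = h.ι m₂ * ((h.ι m₂)⁻¹ * h.ι ((α : MulAut M) m₂)) by
            rw [mul_inv_cancel_left],
          comm_mul_cancel_right (h.quad.cent _ (h2 m₁) _
            ((M.subgroupOf S).mul_mem (h.ι_mem _) (h.quad.le (h2 m₂)))),
          comm_mul_cancel_right' (h.quad.cent _ (h2 m₂) _ (h.ι_mem m₁)).symm]
      rw [show x = ⁅m₁, m₂⁆ ^ j from Subgroup.inclusion_injective h.le hj, Subgroup.coe_subtype,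
        map_zpow, hfix, inv_mul_cancel]
    · show h.ι _ ∈ C
      rw [map_mul, map_inv]
      exact h1 x hx
    · show h.ι _ ∈ A
      rw [map_mul, map_inv]
      exact h2 x
  exact hK'.of_equiv
    (K.equivMapOfInjective (F.autGroup M).subtype (F.autGroup M).subtype_injective).symm

/-- The action on `M / A`. -/
theorem exists_action (h : Four F p M A C s y) :
    ∃ π : F.autGroup M →* MulAut (M ⧸ Subgroup.center M), ∀ α m,
      π α (QuotientGroup.mk m) = QuotientGroup.mk ((α : MulAut M) m) := by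
  have hc : ∀ α : MulAut M,
      (Subgroup.center M).map α.toMonoidHom = Subgroup.center M := fun α =>
    Subgroup.characteristic_iff_map_eq.1 inferInstance α
  refine ⟨MonoidHom.mk' (fun α => QuotientGroup.congr _ _ (α : MulAut M) (hc _)) fun a b => ?_,
    fun α m => rfl⟩
  refine MulEquiv.ext fun q => ?_
  obtain ⟨m, rfl⟩ := QuotientGroup.mk_surjective q
  rfl

theorem mk_eq_iff (h : Four F p M A C s y) (a b : M) :
    (QuotientGroup.mk a : M ⧸ Subgroup.center M) = QuotientGroup.mk b ↔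
      (h.ι a)⁻¹ * h.ι b ∈ A := by
  rw [QuotientGroup.eq, ← mem_A_iff h, map_mul, map_inv]

/-- If conjugation by `s` lies in the `p`-core of `Aut_F(M)` every automorphism extends; otherwise
there is an inversion and a torus element. -/
theorem extend_or_inversion (h : Four F p M A C s y) :
    (∀ α ∈ F.autGroup M, ∃ σ ∈ F.autGroup S, ∀ m, σ (h.ι m) = h.ι (α m)) ∨
    ∃ y' : S, Four F p M A C s y' ∧ ∃ ξ ∈ h.scalarKer,
      (∀ m, h.ι m * h.ι ((ξ : MulAut M) m) ∈ A) ∧
      (∀ γ : F.autGroup M, γ ∈ Cfsg.pCore p (F.autGroup M) →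
        (γ : MulAut M) ∈ autInducedBy S M) ∧
      ∃ d ∈ h.scalarKer, ∃ k : ℤ, ((2 * k : ℤ) : ZMod p) = 1 ∧
        ∀ m m', h.ι m = ⁅s, y'⁆ → h.ι m' = y' →
          (h.ι m ^ (2 : ℤ))⁻¹ * h.ι ((d : MulAut M) m) ∈ A ∧
          (h.ι m' ^ k)⁻¹ * h.ι ((d : MulAut M) m') ∈ A := by
  classical
  haveI := h.finiteM
  haveI : Finite (MulAut M) := finite_mulAut M
  haveI := h.quad.normA
  obtain ⟨cs, hcsG, hcsI, hcs⟩ := h.exists_conj s
  by_cases hcore : (⟨cs, hcsG⟩ : F.autGroup M) ∈ Cfsg.pCore p (F.autGroup M)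
  · -- all automorphisms normalize
    left
    intro α hα
    refine h.extend hα fun γ hγ => ?_
    have hinn : ∀ δ : F.autGroup M, (δ : MulAut M) ∈ Cfsg.Inn M →
        δ ∈ Cfsg.pCore p (F.autGroup M) := fun δ hδ =>
      CfsgLib.Fitting.le_pCore (inn_subgroupOf_normal F M)
        ((inn_eq_autInducedBy M ▸ isPGroup_autInducedBy (h.pgroup.to_le h.le) M :
          IsPGroup p (Cfsg.Inn M)).of_equiv
          (Subgroup.subgroupOfEquivOfLe (inn_le_autGroup h.le)).symm) hδ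
    have hall : ∀ δ : F.autGroup M, (δ : MulAut M) ∈ autInducedBy S M →
        δ ∈ Cfsg.pCore p (F.autGroup M) := by
      intro δ hδ
      obtain ⟨g, hg⟩ := h.induced_apply hδ
      obtain ⟨k, m, hm, rfl⟩ := h.quad.decompX g
      have hmem : (⟨cs, hcsG⟩ : F.autGroup M) ^ (-k) * δ ∈ Cfsg.pCore p (F.autGroup M) := by
        refine hinn _ ((mem_inn_iff _).2 ⟨(m : Ω), hm, fun x => ?_⟩)
        have hpow : ∀ (i : ℤ) (x : M), h.ι ((cs ^ i) x) = s ^ i * h.ι x * (s ^ i)⁻¹ := by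
          intro i
          induction i using Int.induction_on with
          | zero => intro x; simp
          | succ i ih =>
            intro x
            rw [zpow_add_one, MulAut.mul_apply, ih, hcs, zpow_add_one]
            group
          | pred i ih =>
            intro x
            have h1 : h.ι (cs⁻¹ x) = s⁻¹ * h.ι x * s := by
              obtain ⟨x, rfl⟩ := cs.surjective x
              rw [MulAut.inv_apply_self, hcs]; group
            rw [zpow_sub_one, MulAut.mul_apply, ih, h1, zpow_sub_one]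
            group
        have e : h.ι ((cs ^ (-k)) ((δ : MulAut M) x)) = m * h.ι x * m⁻¹ := by
          rw [hpow, hg]; group
        exact congrArg Subtype.val e
      have := Subgroup.mul_mem _ (Subgroup.zpow_mem _ hcore k) hmem
      rwa [← mul_assoc, ← zpow_add, add_neg_cancel, zpow_zero, one_mul] at this
    have hγG := autInducedBy_le_autGroup (F := F) h.le hγ
    haveI := CfsgLib.Fitting.pCore_normal (G := F.autGroup M) p
    exact pCore_le_autInducedBy h.pgroup h.sat h.fn (β := ⟨α, hα⟩ * ⟨γ, hγG⟩ * ⟨α, hα⟩⁻¹)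
      ((inferInstance : (Cfsg.pCore p (F.autGroup M)).Normal).conj_mem _ (hall ⟨γ, hγG⟩ hγ) _)
  right
  obtain ⟨π, hπ⟩ := h.exists_action
  haveI := h.scalarKer_normal
  obtain ⟨πX, hπX⟩ : ∃ πX : h.scalarKer →* MulAut (M ⧸ Subgroup.center M),
      ∀ ξ : h.scalarKer, πX ξ = π (ξ : F.autGroup M) := ⟨π.comp h.scalarKer.subtype, fun _ => rfl⟩
  have hAc : (Subgroup.center M).index = p ^ 2 := by
    have e : Subgroup.center M = A.comap h.ι := Subgroup.ext fun m => (h.mem_A_iff m).symm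
    have hM : Nat.card M = p ^ 4 := by
      rw [← h.quad.cardM, Nat.card_congr (Subgroup.subgroupOfEquivOfLe h.le).toEquiv]
    have hA : Nat.card (A.comap h.ι) = p ^ 2 := by
      rw [← h.quad.cardA, ← Subgroup.card_map_of_injective (f := h.ι)
        (Subgroup.inclusion_injective h.le)]
      congr 1
      rw [Subgroup.map_comap_eq_self]
      intro a ha
      exact h.exists_ι (h.quad.le ha)
    have h1 := (Subgroup.center M).card_mul_index
    rw [e, hA, hM, show p ^ 4 = p ^ 2 * p ^ 2 by ring] at h1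
    rw [e]
    exact Nat.eq_of_mul_eq_mul_left (pow_pos hp.out.pos 2) h1
  have hV : Nat.card (M ⧸ Subgroup.center M) = p ^ 2 := by rw [← Subgroup.index_eq_card, hAc]
  have hker : IsPGroup p πX.ker := by
    have hle : h.scalarKer ⊓ π.ker ≤ Cfsg.pCore p (F.autGroup M) :=
      h.mem_pCore _ inferInstance fun α hα => ⟨hα.1, fun m => (h.mk_eq_iff m _).1 (by
        rw [← hπ α m, MonoidHom.mem_ker.1 hα.2]; rfl)⟩
    have h2 : πX.ker = (h.scalarKer ⊓ π.ker).subgroupOf h.scalarKer := by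
      ext ξ
      rw [MonoidHom.mem_ker, hπX, Subgroup.mem_subgroupOf, Subgroup.mem_inf, MonoidHom.mem_ker]
      exact ⟨fun e => ⟨ξ.2, e⟩, fun e => e.2⟩
    rw [h2]
    exact ((CfsgLib.Fitting.pCore_isPGroup p).to_le hle).of_equiv
      (Subgroup.subgroupOfEquivOfLe inf_le_left).symm
  obtain ⟨a, ha⟩ : ∃ a : h.scalarKer, a = ⟨⟨cs, hcsG⟩, h.induced_mem_scalarKer hcsI⟩ := ⟨_, rfl⟩
  obtain ⟨n, hn⟩ := (isPGroup_autInducedBy h.pgroup M) ⟨cs, hcsI⟩
  have hn' : cs ^ p ^ n = 1 := congrArg Subtype.val hn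
  have han : πX a ^ p ^ n = 1 := by
    rw [← map_pow, show a ^ p ^ n = 1 from Subtype.ext (Subtype.ext (by rw [ha]; exact hn')),
      map_one]
  have hna : a ∉ Cfsg.pCore p h.scalarKer := fun hmem => hcore (by
    haveI := CfsgLib.Fitting.pCore_normal (G := h.scalarKer) p
    have hchar : (Cfsg.pCore p h.scalarKer).Characteristic :=
      Subgroup.characteristic_iff_map_le.2 fun φ => CfsgLib.Fitting.le_pCore
        (Subgroup.Normal.map inferInstance φ.toMonoidHom φ.surjective)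
        ((CfsgLib.Fitting.pCore_isPGroup p).map _)
    haveI := hchar
    have hle : (Cfsg.pCore p h.scalarKer).map h.scalarKer.subtype ≤
        Cfsg.pCore p (F.autGroup M) :=
      CfsgLib.Fitting.le_pCore ConjAct.normal_of_characteristic_of_normal
        ((CfsgLib.Fitting.pCore_isPGroup p).map _)
    have := hle ⟨a, hmem, rfl⟩
    rwa [ha] at this)
  obtain ⟨v, w, b, hgen, hav, haw, hbw, hbv⟩ :=
    exists_transvection_pair πX hker ⟨2, le_rfl, hV⟩ han hna
  obtain ⟨w₀, hw₀⟩ := QuotientGroup.mk_surjective w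
  have hVc : ∀ q r : M ⧸ Subgroup.center M, q * r = r * q :=
    fun q r => (IsPGroup.isMulCommutative_of_card_eq_prime_sq hV).is_comm.comm q r
  obtain ⟨v₀, hv₀⟩ : ∃ v₀ : M, h.ι v₀ = ⁅s, h.ι w₀⁆ :=
    h.exists_ι (by
      rw [commutatorElement_def]
      exact (M.subgroupOf S).mul_mem (h.quad.normM.conj_mem _ (h.ι_mem w₀) s)
        ((M.subgroupOf S).inv_mem (h.ι_mem w₀)))
  have hv : (QuotientGroup.mk v₀ : M ⧸ Subgroup.center M) = v := by
    have e1 : v₀ = cs w₀ * w₀⁻¹ := Subgroup.inclusion_injective h.le (by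
      show h.ι v₀ = h.ι _
      rw [hv₀, map_mul, map_inv, hcs, commutatorElement_def])
    rw [e1, QuotientGroup.mk_mul, QuotientGroup.mk_inv]
    have e2 : (QuotientGroup.mk (cs w₀) : M ⧸ Subgroup.center M) = w * v := by
      rw [← haw, hπX, ← hw₀, hπ, ha]
    rw [e2, hw₀, hVc w v, mul_inv_cancel_right]
  have hv1 : v ≠ 1 := by
    intro e
    rw [e, mul_one] at haw
    have h1 := hgen (πX a).toMonoidHom (MonoidHom.id _) (by rw [e]; simp) haw
    exact hna (CfsgLib.Fitting.le_pCore inferInstance hker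
      (MonoidHom.mem_ker.2 (MulEquiv.ext fun q => DFunLike.congr_fun h1 q)))
  have h' : Four F p M A C s (h.ι w₀) :=
    { h with
      quad := { h.quad with
        memy := h.ι_mem w₀
        moved := fun hA => hv1 (by
          rw [← hv, QuotientGroup.eq_one_iff]
          exact (h.mem_A_iff v₀).1 (by rw [hv₀]; exact hA)) } }
  have hexp : ∀ q : M ⧸ Subgroup.center M, q ^ p = 1 := fun q => by
    obtain ⟨m, rfl⟩ := QuotientGroup.mk_surjective q
    rw [← QuotientGroup.mk_pow, QuotientGroup.eq_one_iff, ← h.mem_A_iff, map_pow]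
    exact h.quad.sq_pow_mem_A (h.ι_mem m)
  have hra : πX a ∈ πX.range := ⟨a, rfl⟩
  have hrb : πX b ∈ πX.range := ⟨b, rfl⟩
  obtain ⟨r, hr, -, -, hrv, hrw, -⟩ := exists_inverting (hVc v w) hav haw hbw hbv hra hrb
  obtain ⟨D, hD, k, hk, hdv, hdw, -⟩ := exists_torus (hp.out.odd_of_ne_two h.odd) (hVc v w)
    (hexp v) (hexp w) hav haw hbw hbv hra hrb
  obtain ⟨r, rfl⟩ := hr
  obtain ⟨d, rfl⟩ := hD
  refine ⟨h.ι w₀, h', (r * r : h.scalarKer), (r * r).2, fun m => ?_, fun γ hγ =>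
    pCore_le_autInducedBy h.pgroup h.sat h.fn hγ, d, d.2, k, hk, fun m m' hm hm' => ?_⟩
  · have h3 : ∀ q, π ((r * r : h.scalarKer) : F.autGroup M) q = q⁻¹ := by
      have h4 := hgen (πX (r * r)).toMonoidHom
        (MonoidHom.mk' (fun q => q⁻¹) fun q q' => by rw [mul_inv_rev, hVc]) (by
          show πX (r * r) v = v⁻¹
          rw [map_mul]; exact hrv) (by
          show πX (r * r) w = w⁻¹
          rw [map_mul]; exact hrw)
      intro q
      rw [← hπX]
      exact DFunLike.congr_fun h4 q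
    have e := h3 (QuotientGroup.mk m)
    rw [hπ, ← QuotientGroup.mk_inv, eq_comm, h.mk_eq_iff, map_inv, inv_inv] at e
    exact e
  · have em : m = v₀ := Subgroup.inclusion_injective h.le (hm.trans hv₀.symm)
    have em' : m' = w₀ := Subgroup.inclusion_injective h.le hm'
    subst em em'
    constructor
    · rw [← map_zpow, ← h.mk_eq_iff, QuotientGroup.mk_zpow, hv, ← hdv, ← hv, hπX, hπ]
    · rw [← map_zpow, ← h.mk_eq_iff, QuotientGroup.mk_zpow, hw₀, ← hdw, ← hw₀, hπX, hπ]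

/-- An automorphism inverting `y`, trivial on `A / C` and of order two on `C` forces type `T`. -/
theorem exists_typeT (h : Four F p M A C s y) (σ : MulAut S) (hσA : ∀ a ∈ A, σ a ∈ A)
    (hy : y * σ y ∈ A) (hμ : ∀ a ∈ A, a⁻¹ * σ a ∈ C) (hC : ∀ c ∈ C, σ (σ c) = c) :
    ∃ s' l : S, TypeT p (M.subgroupOf S) A C s' y l ∧ Four F p M A C s' y ∧
      ⁅s', y⁆ = ⁅s, y⁆ := by
  obtain ⟨s', hq, hu, hsu⟩ :=
    h.quad.adjust (h.quad.comm_mem_C_of_inverting h.odd σ hσA hy hμ hC)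
  rw [← hu] at hsu
  obtain ⟨l, hlA, hl⟩ := hq.exists_moved hsu
  refine ⟨s', l, ⟨hq, hsu, hlA, hl, ?_⟩, { h with quad := hq }, hu⟩
  -- the power of `y`
  haveI := h.quad.normC
  have ha : y ^ p ∈ A := hq.sq_pow_mem_A hq.memy
  have e1 : σ y = y⁻¹ * (y * σ y) := by rw [inv_mul_cancel_left]
  have e2 : σ (y ^ p) = (y ^ p)⁻¹ * (y * σ y) ^ p := by
    rw [map_pow, e1, Commute.mul_pow ((hq.cent _ hy y hq.memy).symm.inv_left), inv_pow,
      inv_mul_cancel_left]
  have e3 := hμ _ ha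
  rw [e2, ← mul_assoc] at e3
  have e4 : (y ^ p)⁻¹ * (y ^ p)⁻¹ ∈ C := by
    simpa using C.mul_mem e3 (C.inv_mem (hq.pow_mem_C hy))
  have e5 : y ^ p * y ^ p ∈ C := by simpa using C.inv_mem e4
  obtain ⟨j, hj⟩ := hp.out.odd_of_ne_two h.odd
  have e6 := hq.pow_mem_C ha
  generalize y ^ p = v at e5 e6 ⊢
  rw [hj, pow_succ, pow_mul, pow_two] at e6
  have := C.mul_mem (C.inv_mem (C.pow_mem e5 j)) e6
  rwa [inv_mul_cancel_left] at this

end Four

end CfsgLib.OrderPFive
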