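import Mathlib
import Cfsg.Agent.Lib.Fusion.OrderPFive.Four

/-!
Consequences for `p = 3` and for `p ≥ 5` of a normal subgroup of order `p ^ 4`.
-/

set_option autoImplicit false
set_option linter.style.haveILetI false
set_option linter.unusedSectionVars false

namespace CfsgLib.OrderPFive

open Cfsg Cfsg.FusionSystem CfsgLib.Fusion
open scoped commutatorElement

variable {Ω : Type*} [Group Ω] {S : Subgroup Ω} [Finite S] {F : FusionSystem S} {p : ℕ}
  [hp : Fact p.Prime]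

omit hp in
theorem sq_zmod_three : ∀ b : ZMod 3, b ≠ 0 → b * b = 1 := by decide

theorem eq_three_of_scalar {k : ℤ} (hk : ((2 * k : ℤ) : ZMod p) = 1)
    (hk2 : (k : ZMod p) * k = 1) : p = 3 := by
  push_cast at hk
  have h1 : ((3 : ℕ) : ZMod p) = 0 := by
    have : (4 : ZMod p) = 1 := by linear_combination (2 * k + 1) * hk - 4 * hk2
    push_cast
    linear_combination this
  exact (Nat.prime_dvd_prime_iff_eq hp.out Nat.prime_three).1 ((ZMod.natCast_eq_zero_iff 3 p).1 h1)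

namespace TypeT

variable {X : Type*} [Group X] [Finite X] {M A C : Subgroup X} {s y l : X}

theorem scalar_one (h : TypeT p M A C s y l) {n j : ℤ} {c v : X} (hc : c ∈ C)
    (hv : v = ⁅s, y⁆ ^ j * (l ^ n * c)) (hl : l⁻¹ * v ∈ C) : (n : ZMod p) = 1 := by
  have e1 : ⁅s, v⁆ = ⁅s, l⁆ := by
    conv_lhs => rw [← mul_inv_cancel_left l v]
    exact comm_mul_cancel_right' (h.central hl s)
  have e2 : ⁅s, v⁆ = ⁅s, l⁆ ^ n := by
    rw [hv, show ⁅s, ⁅s, y⁆ ^ j * (l ^ n * c)⁆ =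
      ⁅s, ⁅s, y⁆ ^ j⁆ * (⁅s, y⁆ ^ j * ⁅s, l ^ n * c⁆ * (⁅s, y⁆ ^ j)⁻¹) by
        simp only [commutatorElement_def]; group,
      commutatorElement_eq_one_iff_mul_comm.2 (h.commu.zpow_right j).eq, one_mul,
      comm_mul_cancel_right' (h.central hc s)]
    have := h.comm_l 1 n
    rw [zpow_one, one_mul] at this
    rw [this, (h.central (C.zpow_mem h.w_mem n) _).eq, mul_inv_cancel_right]
  have := zpow_eq_zpow_zmod (h.orderOf_eq h.w_mem h.movel) (e2.symm.trans (e1.trans (zpow_one _).symm))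
  simpa using this

theorem sq_eq_one_of_three (hp3 : p = 3) {a : ZMod p} (ha : a ≠ 0) : a * a = 1 := by
  subst hp3
  exact sq_zmod_three a ha

/-- For `p = 3` every automorphism fixes `l` for a functional killing `⁅s, y⁆` and the centre. -/
theorem fix_l (h : TypeT p M A C s y l) (hp3 : p = 3) {H : Type*} [CommGroup H] (χ : X →* H)
    (hu : χ ⁅s, y⁆ = 1) (hC : ∀ c ∈ C, χ c = 1) (σ : MulAut X) : χ (σ l) = χ l := by
  obtain ⟨k, i, j, n, c, hc, e⟩ := h.decomp (σ y)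
  obtain ⟨hi, n', j', c', hc', hn, hl⟩ := h.scalar σ (b := ⁅s, y⁆ ^ j * (l ^ n * c))
    (Subgroup.mul_mem_sup (Subgroup.zpow_mem_zpowers _ j)
      (A.mul_mem (A.zpow_mem h.meml n) (h.cle hc))) e
  rw [sq_eq_one_of_three hp3 hi] at hn
  have hd : l ^ (n' - 1) ∈ C := h.zpow_mem_C h.meml (by push_cast; rw [hn, sub_self])
  rw [hl, map_mul, map_mul, map_zpow, hu, one_zpow, one_mul, hC c' hc', mul_one,
    show l ^ n' = l ^ (n' - 1) * l by rw [← zpow_add_one, sub_add_cancel], map_mul, hC _ hd,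
    one_mul]

end TypeT

theorem exists_chi {X A C : Subgroup S} {s y l : S} (h : TypeT p X A C s y l) (hp3 : p = 3)
    (hS : IsPGroup p S) (hF : F.IsSaturated p) :
    ∃ χ : S →* Multiplicative (ZMod p),
      (∀ σ ∈ F.autGroup S, ∀ x, χ (σ x) = χ x) ∧ χ l ≠ 1 := by
  obtain ⟨χ₀, hl, hu, hC⟩ := h.exists_functional
  exact exists_invariant hS hF χ₀ hl fun σ _ => h.fix_l hp3 χ₀ hu hC σ

theorem map_commutator_eq_one {G H : Type*} [Group G] [CommGroup H] (f : G →* H) (a b : G) :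
    f ⁅a, b⁆ = 1 := by
  rw [map_commutatorElement, commutatorElement_eq_one_iff_mul_comm, mul_comm]

namespace Four

variable {M : Subgroup Ω} {A C : Subgroup S} {s y : S}

theorem mem_B (h : Four F p M A C s y) (ξ : MulAut M) (hξ : ∀ m, h.ι m * h.ι (ξ m) ∈ A) (m : M)
    (hm : h.ι m ∈ Subgroup.zpowers ⁅s, y⁆ ⊔ A) : h.ι (ξ m) ∈ Subgroup.zpowers ⁅s, y⁆ ⊔ A := by
  rw [← inv_mul_cancel_left (h.ι m) (h.ι (ξ m))]
  exact mul_mem (inv_mem hm) (Subgroup.mem_sup_right (hξ m))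

/-- The inversion gives type `T`. -/
theorem typeT_of_inversion (h : Four F p M A C s y) {ξ : F.autGroup M} (hξX : ξ ∈ h.scalarKer)
    (hξ : ∀ m, h.ι m * h.ι ((ξ : MulAut M) m) ∈ A) :
    (∃ s' l : S, TypeT p (M.subgroupOf S) A C s' y l ∧ Four F p M A C s' y ∧
      ⁅s', y⁆ = ⁅s, y⁆) ∧
    ∃ σ ∈ F.autGroup S, ∀ m, σ (h.ι m) = h.ι ((ξ : MulAut M) m) := by
  obtain ⟨σ, hσG, hσ⟩ := h.extend ξ.2 (h.normalises ξ.2 fun m hm => h.mem_B _ hξ m hm)
  refine ⟨?_, σ, hσG, hσ⟩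
  obtain ⟨m₁, m₂, e₁, e₂, e⟩ := h.exists_pair
  refine h.exists_typeT σ (fun a ha => ?_) ?_ (fun a ha => ?_) fun c hc => ?_
  · obtain ⟨m, rfl⟩ := h.exists_ι (h.quad.le ha)
    rw [hσ]
    exact h.aut_mem_A _ ha
  · rw [← e₁, hσ]
    exact hξ m₁
  · obtain ⟨m, rfl⟩ := h.exists_ι (h.quad.le ha)
    rw [hσ]
    exact hξX m ha
  · have hz : σ ⁅y, ⁅s, y⁆⁆ = ⁅y, ⁅s, y⁆⁆ := by
      rw [← e, hσ, map_commutatorElement (ξ : MulAut M), map_commutatorElement h.ι,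
        show h.ι ((ξ : MulAut M) m₁) = y ^ (-1 : ℤ) * (h.ι m₁ * h.ι ((ξ : MulAut M) m₁)) by
          rw [e₁, zpow_neg_one, inv_mul_cancel_left],
        show h.ι ((ξ : MulAut M) m₂) =
          ⁅s, y⁆ ^ (-1 : ℤ) * (h.ι m₂ * h.ι ((ξ : MulAut M) m₂)) by
          rw [e₂, zpow_neg_one, inv_mul_cancel_left],
        comm_mul_cancel_right (h.quad.cent _ (hξ m₁) _ ((M.subgroupOf S).mul_mem
          ((M.subgroupOf S).zpow_mem h.quad.u_mem _) (h.quad.le (hξ m₂)))),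
        comm_mul_cancel_right' (h.quad.cent _ (hξ m₂) _
          ((M.subgroupOf S).zpow_mem h.quad.memy _)).symm,
        h.quad.z_pow, map_commutatorElement h.ι, e₁, e₂]
      simp
    obtain ⟨i, rfl⟩ := (h.mem_C_iff c).1 hc
    rw [map_zpow, hz, map_zpow, hz]

/-- In the inversion branch `p = 3`. -/
theorem eq_three_or_extend (h : Four F p M A C s y) :
    p = 3 ∨ ∀ α ∈ F.autGroup M, ∃ σ ∈ F.autGroup S, ∀ m, σ (h.ι m) = h.ι (α m) := by
  rcases h.extend_or_inversion with hall | ⟨y', h', ξ, hξX, hξ, -, d, hdX, k, hk, hd⟩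
  · exact Or.inr hall
  left
  haveI := h.quad.normA
  obtain ⟨⟨s', l, hT, -, hu⟩, -⟩ := h'.typeT_of_inversion (ξ := ξ) hξX hξ
  obtain ⟨m₀, hm₀⟩ := h'.exists_ι h'.quad.u_mem
  obtain ⟨m₁, hm₁⟩ := h'.exists_ι h'.quad.memy
  obtain ⟨hdu, hdy⟩ := hd m₀ m₁ hm₀ hm₁
  obtain ⟨σ, -, hσ⟩ := h'.extend d.2 (h'.normalises d.2 fun m hm => by
    obtain ⟨w, hw, a, ha, e⟩ := Subgroup.mem_sup_of_normal_right.1 hm
    obtain ⟨j, rfl⟩ := Subgroup.mem_zpowers_iff.1 hw
    obtain ⟨ma, rfl⟩ := h'.exists_ι (h'.quad.le ha)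
    have em : m = m₀ ^ j * ma :=
      Subgroup.inclusion_injective h.le (by rw [map_mul, map_zpow]; exact (hm₀ ▸ e).symm)
    rw [em, map_mul, map_mul, map_zpow, map_zpow]
    refine mul_mem (Subgroup.zpow_mem _ ?_ j) (Subgroup.mem_sup_right (h'.aut_mem_A _ ha))
    rw [← mul_inv_cancel_left (h'.ι m₀ ^ (2 : ℤ)) (h'.ι ((d : MulAut M) m₀))]
    refine mul_mem ?_ (Subgroup.mem_sup_right hdu)
    rw [hm₀]
    exact Subgroup.mem_sup_left (Subgroup.zpow_mem_zpowers _ _))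
  have hy : σ y' = s' ^ (0 : ℤ) * y' ^ k * ((y' ^ k)⁻¹ * σ y') := by
    rw [zpow_zero, one_mul, mul_inv_cancel_left]
  have hb : (y' ^ k)⁻¹ * σ y' ∈ Subgroup.zpowers ⁅s', y'⁆ ⊔ A := Subgroup.mem_sup_right (by
    have e := hσ m₁
    rw [hm₁] at e
    rw [hm₁] at hdy
    rw [e]
    exact hdy)
  obtain ⟨-, n, j, c, hc, hn, hl⟩ := hT.scalar σ hb hy
  obtain ⟨ml, hml⟩ := h'.exists_ι (h'.quad.le hT.meml)
  have hl1 : l⁻¹ * σ l ∈ C := by
    rw [← hml, hσ]
    exact hdX ml (by rw [show h.ι ml = l from hml]; exact hT.meml)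
  rw [hT.scalar_one hc hl hl1] at hn
  exact eq_three_of_scalar hk hn.symm

/-- For `p = 3` all of `Aut_F(M)` preserves a functional invariant under `Aut_F(S)`. -/
theorem chi_invariant (h : Four F p M A C s y) (hp3 : p = 3)
    (χ : S →* Multiplicative (ZMod p)) (hχ : ∀ σ ∈ F.autGroup S, ∀ x, χ (σ x) = χ x) :
    ∀ α ∈ F.autGroup M, ∀ m, χ (h.ι (α m)) = χ (h.ι m) := by
  rcases h.extend_or_inversion with hall | ⟨y', h', ξ, hξX, hξ, hcore, -⟩
  · intro α hα m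
    obtain ⟨σ, hσ, hv⟩ := hall α hα
    rw [← hv, hχ σ hσ]
  obtain ⟨⟨s', l, hT, -, hu⟩, σξ, hσξ, hξv⟩ := h'.typeT_of_inversion (ξ := ξ) hξX hξ
  haveI := h.finiteM
  haveI : Finite (MulAut M) := finite_mulAut M
  haveI := h.scalarKer_normal
  have hCχ : ∀ c ∈ C, χ c = 1 := fun c hc => by
    obtain ⟨i, rfl⟩ := (h.mem_C_iff c).1 hc
    rw [map_zpow, map_commutator_eq_one, one_zpow]
  -- everything is trivial on `A / C`
  have htop : ∀ α : F.autGroup M, α ∈ h.scalarKer := by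
    obtain ⟨-, R, hR⟩ := isFullyAutomized_of_isFullyNormalized h.pgroup h.sat h.fn
    have hRX : (R : Subgroup (F.autGroup M)) ≤ h.scalarKer := fun γ hγ =>
      h.induced_mem_scalarKer (by rw [hR] at hγ; exact hγ)
    intro α
    have hα := (Sylow.normalizer_sup_eq_top' R hRX).ge (Subgroup.mem_top α)
    obtain ⟨ν, hν, x, hx, rfl⟩ := Subgroup.mem_sup_of_normal_right.1 hα
    refine mul_mem ?_ hx
    obtain ⟨σ, hσ, hv⟩ := h'.extend ν.2 fun γ hγ => by
      have hγG := autInducedBy_le_autGroup (F := F) h.le hγ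
      have := (Subgroup.mem_normalizer_iff.1 hν ⟨γ, hγG⟩).1 (by
        show (⟨γ, hγG⟩ : F.autGroup M) ∈ (R : Subgroup _)
        rw [hR]; exact hγ)
      rw [show (R : Subgroup (F.autGroup M)) = _ from hR] at this
      exact this
    intro m hm
    obtain ⟨k, i, j, n, c, hc, e⟩ := hT.decomp (σ y')
    obtain ⟨hi, n', j', c', hc', hn, hl⟩ := hT.scalar σ (b := ⁅s', y'⁆ ^ j * (l ^ n * c))
      (Subgroup.mul_mem_sup (Subgroup.zpow_mem_zpowers _ j)
        (A.mul_mem (A.zpow_mem hT.meml n) (hT.cle hc))) e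
    rw [TypeT.sq_eq_one_of_three hp3 hi] at hn
    obtain ⟨ml, hml⟩ := h'.exists_ι (h'.quad.le hT.meml)
    have hσl : σ l ∈ A := by
      rw [← hml, hv]
      exact h'.aut_mem_A _ (by rw [hml]; exact hT.meml)
    have huj : ⁅s', y'⁆ ^ j' ∈ A := by
      have := A.mul_mem hσl (A.inv_mem (A.mul_mem (A.zpow_mem hT.meml n') (hT.cle hc')))
      rwa [hl, mul_inv_cancel_right] at this
    have hujC : ⁅s', y'⁆ ^ j' ∈ C := hT.center_le fun x => by
      obtain ⟨k, m, hm, rfl⟩ := hT.decompX x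
      exact ((hT.commu.zpow_left k).symm.zpow_left j').mul_right (hT.cent _ huj m hm)
    have hlC : l⁻¹ * σ l ∈ C := by
      rw [hl, ← mul_assoc, (hT.central hujC l⁻¹).eq, mul_assoc, ← mul_assoc l⁻¹]
      refine C.mul_mem hujC (C.mul_mem ?_ hc')
      rw [← zpow_neg_one, ← zpow_add]
      exact hT.zpow_mem_C hT.meml (by push_cast; rw [hn, neg_add_cancel])
    obtain ⟨k', c₁, hc₁, e₁⟩ := hT.decompA (show h'.ι m ∈ A from hm)
    show (h'.ι m)⁻¹ * h'.ι ((ν : MulAut M) m) ∈ C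
    rw [← hv, e₁, map_mul, map_zpow]
    have hσc : σ c₁ ∈ C := by
      obtain ⟨mc, rfl⟩ := h'.exists_ι (h'.quad.le (hT.cle hc₁))
      rw [hv]
      exact h'.aut_mem_C _ hc₁
    have hcl : Commute l⁻¹ (σ l) := (hT.cent _ hσl _ (hT.le (A.inv_mem hT.meml))).symm
    rw [show (l ^ k' * c₁)⁻¹ * (σ l ^ k' * σ c₁) = c₁⁻¹ * ((l⁻¹ * σ l) ^ k' * σ c₁) by
      rw [mul_inv_rev, hcl.mul_zpow, inv_zpow]; group]
    exact C.mul_mem (C.inv_mem hc₁) (C.mul_mem (C.zpow_mem hlC k') hσc)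
  intro α hα m
  obtain ⟨α', hα'⟩ : ∃ α' : F.autGroup M, α' = ⟨α, hα⟩ := ⟨_, rfl⟩
  have hA : ∀ β : F.autGroup M, ∀ m, h.ι m ∈ A → χ (h.ι ((β : MulAut M) m)) = χ (h.ι m) :=
    fun β m hm => by
      have := hCχ _ (htop β m hm)
      rw [map_mul, map_inv, inv_mul_eq_one] at this
      exact this.symm
  -- the commutator with the inversion is inner modulo `C`
  have hcomm : ∀ m, χ (h.ι ((α' : MulAut M) ((ξ : MulAut M) m))) =
      χ (h.ι ((ξ : MulAut M) ((α' : MulAut M) m))) := by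
    obtain ⟨π, hπ⟩ := h.exists_action
    have hinv : ∀ q, π ξ q = q⁻¹ := fun q => by
      obtain ⟨m, rfl⟩ := QuotientGroup.mk_surjective q
      rw [hπ, ← QuotientGroup.mk_inv, eq_comm, h.mk_eq_iff, map_inv, inv_inv]
      exact hξ m
    have hd : (α' * ξ * α'⁻¹ * ξ⁻¹) ∈ h.scalarKer ⊓ π.ker := by
      refine ⟨htop _, MonoidHom.mem_ker.2 (MulEquiv.ext fun q => ?_)⟩
      have hinv' : ∀ q, (π ξ)⁻¹ q = q⁻¹ := fun q => by
        refine (π ξ).injective ?_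
        rw [MulAut.apply_inv_self, hinv, inv_inv]
      rw [map_mul, map_mul, map_mul, map_inv, map_inv, MulAut.mul_apply, MulAut.mul_apply,
        MulAut.mul_apply, hinv', hinv]
      simp only [map_inv, MulAut.apply_inv_self, inv_inv]
      rfl
    have hdcore : (α' * ξ * α'⁻¹ * ξ⁻¹) ∈ Cfsg.pCore p (F.autGroup M) :=
      h.mem_pCore _ inferInstance (fun β hβ => ⟨(Subgroup.mem_inf.1 hβ).1, fun m => (h.mk_eq_iff m _).1 (by
        rw [← hπ β m, MonoidHom.mem_ker.1 (Subgroup.mem_inf.1 hβ).2]; rfl)⟩) hd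
    obtain ⟨g, hg⟩ := h.induced_apply (hcore _ hdcore)
    intro m
    have e := hg ((ξ : MulAut M) ((α' : MulAut M) m))
    rw [show ((α' * ξ * α'⁻¹ * ξ⁻¹ : F.autGroup M) : MulAut M) ((ξ : MulAut M) ((α' : MulAut M) m))
      = (α' : MulAut M) ((ξ : MulAut M) m) by simp [MulAut.mul_apply]] at e
    rw [e, map_mul, map_mul, map_inv, mul_comm (χ g), mul_inv_cancel_right]
  have hξinv : ∀ m, χ (h.ι ((ξ : MulAut M) m)) = χ (h.ι m) := fun m =>
    (congrArg χ (hξv m)).symm.trans (hχ σξ hσξ _)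
  obtain ⟨a, ha⟩ : ∃ a, a = m * (ξ : MulAut M) m := ⟨_, rfl⟩
  have haA : h.ι a ∈ A := by rw [ha, map_mul]; exact hξ m
  have e1 := hA α' a haA
  rw [ha, map_mul, map_mul, map_mul, map_mul, map_mul, hcomm, hξinv, hξinv] at e1
  have h2 : ∀ v : Multiplicative (ZMod p), v * v = 1 → v = 1 := fun v hv => by
    have hvp : v ^ p = 1 := by
      have := pow_card_eq_one' (x := v)
      rwa [Nat.card_congr Multiplicative.toAdd, Nat.card_zmod] at this
    obtain ⟨j, hj⟩ := hp.out.odd_of_ne_two h.odd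
    replace hvp : v ^ (2 * j + 1) = 1 := (congrArg (v ^ ·) hj).symm.trans hvp
    rwa [pow_succ, pow_mul, pow_two, hv, one_pow, one_mul] at hvp
  rw [show α = (α' : MulAut M) by rw [hα']]
  refine div_eq_one.1 (h2 _ ?_)
  rw [div_mul_div_comm, div_eq_one]
  exact e1

end Four

end CfsgLib.OrderPFive
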