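import Mathlib
import Cfsg.Agent.Lib.Fusion.OrderPFive.FourMain
import Cfsg.Agent.Lib.Fusion.EssentialShapes
import Cfsg.Agent.Lib.MaxClassLayers.Basic

/-!
An essential subgroup of order `p ^ 4`.
-/

set_option autoImplicit false
set_option linter.style.haveILetI false
set_option linter.unusedSectionVars false

namespace CfsgLib.OrderPFive

open Cfsg Cfsg.FusionSystem CfsgLib.Fusion
open scoped commutatorElement
open CfsgLib.UniserialPower (Γ)

variable {Ω : Type*} [Group Ω] {S : Subgroup Ω} [Finite S] {F : FusionSystem S} {p : ℕ}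
  [hp : Fact p.Prime]

/-- `S` is not of maximal class when it has type `T`. -/
theorem TypeT.not_mc {X : Type*} [Group X] [Finite X] {M A C : Subgroup X} {s y l : X}
    (h : TypeT p M A C s y l) : ¬ MaxClassLayers.MC X p 5 := by
  intro hMC
  haveI := h.normC
  haveI := h.normA
  obtain ⟨U, hU⟩ : ∃ U, U = Subgroup.zpowers ⁅s, y⁆ ⊔ C := ⟨_, rfl⟩
  obtain ⟨B, hB⟩ : ∃ B, B = Subgroup.zpowers ⁅s, y⁆ ⊔ A := ⟨_, rfl⟩
  have hle : Γ X 1 ≤ U := by
    show (⊤ : Subgroup X).lowerCentralSeries 1 ≤ U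
    rw [Subgroup.lowerCentralSeries_succ, Subgroup.lowerCentralSeries_zero, Subgroup.commutator_le]
    intro a _ b _
    obtain ⟨j, hj⟩ := h.derived_le a b
    rw [← map_zpow] at hj
    obtain ⟨c, hc, e⟩ := (QuotientGroup.mk'_eq_mk' C).1 hj.symm
    rw [hU, ← e]
    exact Subgroup.mul_mem_sup (Subgroup.zpow_mem_zpowers _ j) hc
  have hBM : B ≤ M := hB ▸ sup_le (Subgroup.zpowers_le.2 h.u_mem) h.le
  have hUB : U ≤ B := hU ▸ hB ▸ sup_le_sup_left h.cle _
  have hlU : l ∉ U := by
    rw [hU]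
    intro hl
    obtain ⟨x, hx, c, hc, e⟩ := Subgroup.mem_sup_of_normal_right.1 hl
    obtain ⟨j, rfl⟩ := Subgroup.mem_zpowers_iff.1 hx
    refine h.movel ?_
    rw [← e, comm_mul_cancel_right' (h.central hc s)]
    exact commutatorElement_eq_one_iff_mul_comm.2 (h.commu.zpow_right j).eq
  have h1 : Nat.card U < Nat.card B := lt_of_le_of_ne (Subgroup.card_le_of_le hUB) fun e => hlU
    ((Subgroup.eq_of_le_of_card_ge hUB e.ge).ge (hB ▸ Subgroup.mem_sup_right h.meml))
  have h2 : Nat.card B < Nat.card M := lt_of_le_of_ne (Subgroup.card_le_of_le hBM) fun e =>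
    h.y_notMem_sup (hB ▸ (Subgroup.eq_of_le_of_card_ge hBM e.ge).ge h.memy)
  have h3 := Subgroup.card_le_of_le hle
  rw [MaxClassLayers.card_gamma hMC le_rfl (by norm_num)] at h3
  obtain ⟨a, ha⟩ := IsPGroup.iff_card.1 (h.isPGroup.to_subgroup U)
  obtain ⟨b, hb⟩ := IsPGroup.iff_card.1 (h.isPGroup.to_subgroup B)
  rw [ha, hb] at h1
  rw [hb, h.cardM] at h2
  rw [ha] at h3
  have e1 := (Nat.pow_lt_pow_iff_right hp.out.one_lt).1 h1
  have e2 := (Nat.pow_lt_pow_iff_right hp.out.one_lt).1 h2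
  have e3 := (Nat.pow_le_pow_iff_right hp.out.one_lt).1 h3
  omega

theorem noAb_of (hno : ∀ K : Subgroup Ω, K ≤ S → IsMulCommutative K →
    (K.subgroupOf S).index ≠ p) (K : Subgroup S) (hK : ∀ a ∈ K, ∀ b ∈ K, a * b = b * a) :
    K.index ≠ p := by
  intro hidx
  refine hno (K.map S.subtype) (Subgroup.map_subtype_le K) ⟨⟨?_⟩⟩ ?_
  · rintro ⟨_, a, ha, rfl⟩ ⟨_, b, hb, rfl⟩
    exact Subtype.ext (congrArg S.subtype (hK a ha b hb))
  · rwa [Subgroup.subgroupOf, Subgroup.comap_map_eq_self_of_injective S.subtype_injective]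

/-- The setting attached to an essential subgroup of order `p ^ 4`. -/
theorem exists_four_of_essential (hS : IsPGroup p S) (hF : F.IsSaturated p) (hp2 : p ≠ 2)
    (hcard : Nat.card S = p ^ 5)
    (hno : ∀ K : Subgroup Ω, K ≤ S → IsMulCommutative K → (K.subgroupOf S).index ≠ p)
    {E : Subgroup Ω} (hE : F.IsEssential p E) (hE4 : Nat.card E = p ^ 4) :
    ∃ (A C : Subgroup S) (s y : S), Four F p E A C s y := by
  classical
  have hES : E ≤ S := hE.1.1
  haveI := finite_of_le hES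
  haveI := finite_mulAut E
  have hEc : Nat.card (E.subgroupOf S) = p ^ 4 := by
    rw [Nat.card_congr (Subgroup.subgroupOfEquivOfLe hES).toEquiv, hE4]
  have hidx : (E.subgroupOf S).index = p := by
    have h1 := (E.subgroupOf S).card_mul_index
    rw [hEc, hcard, pow_succ p 4] at h1
    exact Nat.eq_of_mul_eq_mul_left (pow_pos hp.out.pos 4) h1
  have hna : ¬ ∀ a b : E, a * b = b * a := fun hc => hno E hES ⟨⟨hc⟩⟩ hidx
  haveI hEn : (E.subgroupOf S).Normal := Subgroup.normal_of_index_eq_minFac_card (by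
    rw [hidx, hcard]; exact (Nat.Prime.pow_minFac hp.out (by norm_num)).symm)
  obtain ⟨i, hi1, hi4, hi, hidxZ⟩ := EssentialShapes.center_bound (p := p) hna hE4
  rcases (show i = 1 ∨ i = 2 by omega) with rfl | rfl
  · exact absurd (EssentialShapes.flag_of_small_center hE4 (by rw [hi, pow_one]))
      (EssentialFlag.not_hasFlag hS hF hE)
  rw [show 4 - 2 = 2 from rfl] at hidxZ
  obtain ⟨x₁, y₁, hg⟩ := SmallNonabelian.exists_gens (hS.to_le hES) hidxZ
  obtain ⟨j, hj⟩ : ∃ j : E →* S, j = Subgroup.inclusion hES := ⟨_, rfl⟩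
  have hjinj : Function.Injective j := hj ▸ Subgroup.inclusion_injective hES
  have hjv : ∀ v : E, (j v : Ω) = v := fun v => by rw [hj]; rfl
  have hjmem : ∀ v : E, j v ∈ E.subgroupOf S := fun v => by
    rw [Subgroup.mem_subgroupOf, hjv]; exact v.2
  have hjs : ∀ x ∈ E.subgroupOf S, ∃ v : E, j v = x := fun x hx =>
    ⟨⟨x, hx⟩, Subtype.ext (hjv _)⟩
  have hconjE : ∀ (g : S) (v : E), ∃ φ : MulAut E, (∀ w, j (φ w) = g * j w * g⁻¹) := fun g v => by
    have hgn : (g : Ω) ∈ Subgroup.normalizer (E : Set Ω) :=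
      mem_normalizer_of_conj_mem hES fun x hx => hEn.conj_mem ⟨x, hES hx⟩ hx g
    refine ⟨conjAut E hgn, fun w => Subtype.ext ?_⟩
    rw [hjv, conjAut_apply]
    simp [hjv]
  have hchar : ∀ K : Subgroup E, K.Characteristic → (K.map j).Normal := fun K hK => ⟨by
    rintro _ ⟨v, hv, rfl⟩ g
    obtain ⟨φ, hφ⟩ := hconjE g v
    exact ⟨φ v, (Subgroup.characteristic_iff_map_le.1 hK φ) ⟨v, hv, rfl⟩, hφ v⟩⟩
  obtain ⟨A, hA⟩ : ∃ A, A = (Subgroup.center E).map j := ⟨_, rfl⟩
  obtain ⟨C, hC⟩ : ∃ C, C = (Subgroup.zpowers ⁅x₁, y₁⁆).map j := ⟨_, rfl⟩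
  have hcA : Nat.card A = p ^ 2 := by rw [hA, Subgroup.card_map_of_injective hjinj, hi]
  have hcC : Nat.card C = p := by rw [hC, Subgroup.card_map_of_injective hjinj, hg.card_zpowers]
  have hnA : A.Normal := hA ▸ hchar _ inferInstance
  have hnC : C.Normal := hC ▸ hchar _ hg.char
  obtain ⟨s, hs⟩ : ∃ s : S, s ∉ E.subgroupOf S := by
    by_contra hcon
    push Not at hcon
    have htop : E.subgroupOf S = ⊤ := (Subgroup.eq_top_iff' _).2 hcon
    rw [htop, Subgroup.index_top] at hidx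
    exact hp.out.ne_one hidx.symm
  have hcm : ∀ v w : E, ⁅v, w⁆ ∈ Subgroup.zpowers ⁅x₁, y₁⁆ := fun v w => by
    rw [← hg.commutator_eq, commutator_def]
    exact Subgroup.commutator_mem_commutator (Subgroup.mem_top _) (Subgroup.mem_top _)
  obtain ⟨y, hy⟩ : ∃ y : E, ⁅s, j y⁆ ∉ A := by
    by_contra hcon
    push Not at hcon
    let N : Submonoid (MulAut E) :=
      { carrier := {α | (∀ v ∈ Subgroup.center E, v⁻¹ * α v ∈ Subgroup.zpowers ⁅x₁, y₁⁆) ∧
          ∀ v, v⁻¹ * α v ∈ Subgroup.center E}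
        one_mem' := ⟨fun v _ => by simp, fun v => by simp⟩
        mul_mem' := fun {a b} ha hb => by
          have key : ∀ v, v⁻¹ * (a * b) v = (v⁻¹ * b v) * ((b v)⁻¹ * a (b v)) := fun v => by
            rw [MulAut.mul_apply]; group
          refine ⟨fun v hv => ?_, fun v => ?_⟩
          · rw [key]
            refine mul_mem (hb.1 v hv) (ha.1 _ ?_)
            have := mul_mem hv (hg.le_center (hb.1 v hv))
            rwa [mul_inv_cancel_left] at this
          · rw [key]
            exact mul_mem (hb.2 v) (ha.2 _) }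
    let K : Subgroup (MulAut E) :=
      { N with
        inv_mem' := fun {a} ha => by
          have h : a⁻¹ = a ^ (orderOf a - 1) := by
            refine inv_eq_of_mul_eq_one_right ?_
            rw [← pow_succ', Nat.sub_add_cancel (orderOf_pos a), pow_orderOf_eq_one]
          rw [h]
          exact N.pow_mem ha _ }
    have hKp : IsPGroup p K := by
      refine isPGroup_of_stabilizes_series (hS.to_le hES) (fun k => if k = 0 then ⊥ else
        if k = 1 then Subgroup.zpowers ⁅x₁, y₁⁆ else if k = 2 then Subgroup.center E else ⊤) 3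
        rfl rfl K fun α hα k hk v hv => ?_
      obtain ⟨h1, h2⟩ : (∀ v ∈ Subgroup.center E, v⁻¹ * α v ∈ Subgroup.zpowers ⁅x₁, y₁⁆) ∧
          ∀ v, v⁻¹ * α v ∈ Subgroup.center E := hα
      interval_cases k
      · simp only [zero_add, one_ne_zero, if_false, if_true] at hv
        rw [if_pos rfl, Subgroup.mem_bot]
        obtain ⟨m, rfl⟩ := Subgroup.mem_zpowers_iff.1 hv
        have e : α ⁅x₁, y₁⁆ = ⁅x₁, y₁⁆ := by
          rw [map_commutatorElement, ← mul_inv_cancel_left x₁ (α x₁),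
            ← mul_inv_cancel_left y₁ (α y₁),
            comm_mul_cancel_right ((Subgroup.mem_center_iff.1 (h2 x₁)) _).symm,
            comm_mul_cancel_right' ((Subgroup.mem_center_iff.1 (h2 y₁)) _)]
        rw [map_zpow, e, inv_mul_cancel]
      · simp only [Nat.reduceAdd, if_false, if_true, OfNat.ofNat_ne_zero, OfNat.ofNat_ne_one] at hv ⊢
        exact h1 v hv
      · simpa using h2 v
    haveI hKn : (K.subgroupOf (F.autGroup E)).Normal := by
      refine ⟨fun a ha b => ?_⟩
      obtain ⟨h1, h2⟩ : (∀ v ∈ Subgroup.center E, v⁻¹ * (a : MulAut E) v ∈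
          Subgroup.zpowers ⁅x₁, y₁⁆) ∧ ∀ v, v⁻¹ * (a : MulAut E) v ∈ Subgroup.center E := ha
      have hcz : ∀ φ : MulAut E, ∀ v ∈ Subgroup.center E, φ v ∈ Subgroup.center E :=
        fun φ v hv => (Subgroup.characteristic_iff_map_le.1 inferInstance φ) ⟨v, hv, rfl⟩
      refine ⟨fun v hv => ?_, fun v => ?_⟩
      · obtain ⟨v, rfl⟩ := (b : MulAut E).surjective v
        show ((b : MulAut E) v)⁻¹ *
          ((b : MulAut E) * a * (b : MulAut E)⁻¹) ((b : MulAut E) v) ∈ _
        rw [MulAut.mul_apply, MulAut.mul_apply, MulAut.inv_apply_self, ← map_inv, ← map_mul]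
        refine (Subgroup.characteristic_iff_map_le.1 hg.char (b : MulAut E)) ⟨_, h1 v ?_, rfl⟩
        simpa using hcz (b : MulAut E)⁻¹ _ hv
      · obtain ⟨v, rfl⟩ := (b : MulAut E).surjective v
        show ((b : MulAut E) v)⁻¹ *
          ((b : MulAut E) * a * (b : MulAut E)⁻¹) ((b : MulAut E) v) ∈ _
        rw [MulAut.mul_apply, MulAut.mul_apply, MulAut.inv_apply_self, ← map_inv, ← map_mul]
        exact hcz _ _ (h2 v)
    refine EssentialFlag.false_of_normal hS (ne_of_isEssential hS hF hE) hE _ hKn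
      hKp.comap_subtype fun α hα => ?_
    obtain ⟨g, hgS, hv⟩ := (mem_autInducedBy_iff S E _).1 hα
    obtain ⟨g', rfl⟩ : ∃ g' : S, (g' : Ω) = g := ⟨⟨g, hgS⟩, rfl⟩
    have hjα : ∀ v, j ((α : MulAut E) v) = g' * j v * g'⁻¹ := fun v => Subtype.ext (by
      rw [hjv, hv]; simp [hjv])
    have hgmem : ∀ v : E, ⁅g', j v⁆ ∈ A := by
      intro v
      haveI : Fact (Nat.card (S ⧸ E.subgroupOf S)).Prime :=
        ⟨by rw [← Subgroup.index_eq_card, hidx]; exact hp.out⟩
      obtain ⟨k, hk⟩ := Subgroup.mem_zpowers_iff.1 (mem_zpowers_of_prime_card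
        (rfl : Nat.card (S ⧸ E.subgroupOf S) = _)
        (g := QuotientGroup.mk' (E.subgroupOf S) s)
        (fun e => hs ((QuotientGroup.eq_one_iff s).1 e))
        (g' := QuotientGroup.mk' (E.subgroupOf S) g'))
      obtain ⟨e₀, he₀, e⟩ := (QuotientGroup.mk'_eq_mk' (E.subgroupOf S)).1
        ((map_zpow (QuotientGroup.mk' (E.subgroupOf S)) s k).trans hk)
      haveI := hnA
      obtain ⟨e₁, rfl⟩ := hjs e₀ he₀
      rw [← QuotientGroup.eq_one_iff]
      show QuotientGroup.mk' A _ = 1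
      rw [map_commutatorElement, commutatorElement_eq_one_iff_mul_comm, ← e, map_mul, map_zpow]
      have c1 : Commute (QuotientGroup.mk' A s) (QuotientGroup.mk' A (j v)) := by
        show _ * _ = _ * _
        rw [← commutatorElement_eq_one_iff_mul_comm, ← map_commutatorElement]
        exact (QuotientGroup.eq_one_iff _).2 (hcon v)
      have c2 : Commute (QuotientGroup.mk' A (j e₁)) (QuotientGroup.mk' A (j v)) := by
        show _ * _ = _ * _
        rw [← commutatorElement_eq_one_iff_mul_comm, ← map_commutatorElement]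
        refine (QuotientGroup.eq_one_iff _).2 ?_
        rw [← map_commutatorElement, hA]
        exact ⟨_, hg.le_center (hcm _ _), rfl⟩
      exact ((c1.zpow_left k).mul_left c2).eq
    refine ⟨fun v hv => ?_, fun v => ?_⟩
    · obtain ⟨k, hk⟩ := (isPGroup_autInducedBy hS E) ⟨(α : MulAut E), hα⟩
      have hrel : (Subgroup.zpowers ⁅x₁, y₁⁆).relIndex (Subgroup.center E) = p := by
        have h1 := Subgroup.relIndex_mul_relIndex ⊥ _ _ bot_le hg.le_center
        rw [Subgroup.relIndex_bot_left, Subgroup.relIndex_bot_left, hg.card_zpowers, hi,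
          pow_two] at h1
        exact Nat.eq_of_mul_eq_mul_left hp.out.pos h1
      haveI := hg.char
      exact EssentialFlag.step_stabilised
        (EssentialFlag.smallStep_of_relIndex hp.out hg.le_center hrel)
        (fun v hv => (Subgroup.characteristic_iff_map_le.1 hg.char (α : MulAut E)) ⟨v, hv, rfl⟩)
        (fun v hv => (Subgroup.characteristic_iff_map_le.1 inferInstance (α : MulAut E))
          ⟨v, hv, rfl⟩) (congrArg Subtype.val hk) v hv
    · have h1 : j (v⁻¹ * (α : MulAut E) v) ∈ A := by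
        rw [map_mul, map_inv, hjα, show (j v)⁻¹ * (g' * j v * g'⁻¹) =
          (j v)⁻¹ * ⁅g', j v⁆ * j v by rw [commutatorElement_def]; group]
        exact hnA.conj_mem' _ (hgmem v) _
      rw [hA] at h1
      obtain ⟨w, hw, e⟩ := h1
      exact hjinj e ▸ hw
  refine ⟨A, C, s, j y, hS, hF, hp2, hES, ⟨hcard, hEc, hcA, hcC, hEn, hnA, hnC, ?_, ?_, ?_, ?_, hs,
    hjmem y, hy, ?_, fun K hK => noAb_of hno K hK⟩⟩
  · rw [hA]; rintro _ ⟨v, -, rfl⟩; exact hjmem v
  · rw [hA, hC]; exact Subgroup.map_mono hg.le_center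
  · rw [hA]
    rintro _ ⟨v, hv, rfl⟩ m hm
    obtain ⟨w, rfl⟩ := hjs m hm
    have hc : Commute v w := (Subgroup.mem_center_iff.1 hv w).symm
    exact hc.map j
  · intro m hm m' hm'
    obtain ⟨v, rfl⟩ := hjs m hm
    obtain ⟨w, rfl⟩ := hjs m' hm'
    rw [hC, ← map_commutatorElement]
    exact ⟨_, hcm v w, rfl⟩
  · intro hab
    exact hna fun a b => hjinj (by rw [map_mul, map_mul]; exact hab _ (hjmem a) _ (hjmem b))

theorem Four.false_of_extend {E : Subgroup Ω} {A C : Subgroup S} {s y : S}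
    (h : Four F p E A C s y) (hE : F.IsEssential p E)
    (hall : ∀ α ∈ F.autGroup E, ∃ σ ∈ F.autGroup S, ∀ m, σ (h.ι m) = h.ι (α m)) : False := by
  haveI := h.finiteM
  haveI : Finite (MulAut E) := finite_mulAut E
  refine EssentialFlag.false_of_normal h.pgroup (ne_of_isEssential h.pgroup h.sat hE) hE
    ((autInducedBy S E).subgroupOf (F.autGroup E)) ⟨fun γ hγ α => ?_⟩
    ((isPGroup_autInducedBy h.pgroup E).of_equiv
      (Subgroup.subgroupOfEquivOfLe (autInducedBy_le_autGroup h.le)).symm) fun γ hγ => hγ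
  obtain ⟨σ, -, hσ⟩ := hall α α.2
  obtain ⟨g, hg⟩ := h.induced_apply (hγ : (γ : MulAut E) ∈ autInducedBy S E)
  refine (mem_autInducedBy_iff S E _).2 ⟨σ g, (σ g).2, fun x => ?_⟩
  obtain ⟨m, rfl⟩ := (α : MulAut E).surjective x
  have e : h.ι (((α : MulAut E) * γ * (α : MulAut E)⁻¹) ((α : MulAut E) m)) =
      σ g * h.ι ((α : MulAut E) m) * (σ g)⁻¹ := by
    rw [MulAut.mul_apply, MulAut.mul_apply, MulAut.inv_apply_self, ← hσ]
    show σ (h.ι ((γ : MulAut E) _)) = _
    erw [hg]
    rw [map_mul, map_mul, map_inv, hσ]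
  exact congrArg Subtype.val e

/-- An essential subgroup of order `p ^ 4` forces `p = 3` and type `T`. -/
theorem Four.essential_facts {E : Subgroup Ω} {A C : Subgroup S} {s y : S}
    (h : Four F p E A C s y) (hE : F.IsEssential p E) :
    p = 3 ∧ ∃ (M : Subgroup S) (A C : Subgroup S) (s y l : S), TypeT p M A C s y l := by
  refine ⟨h.eq_three_or_extend.resolve_right fun hall => h.false_of_extend hE hall, ?_⟩
  rcases h.extend_or_inversion with hall | ⟨y', h', ξ, hξX, hξ, -⟩
  · exact (h.false_of_extend hE hall).elim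
  · obtain ⟨⟨s', l, hT, -⟩, -⟩ := h'.typeT_of_inversion (ξ := ξ) hξX hξ
    exact ⟨_, A, C, s', y', l, hT⟩

end CfsgLib.OrderPFive
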