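import Mathlib
import Cfsg.Agent.Lib.Fusion.TransvectionCube

/-!
All the transvection centres of an automorphism group of an elementary abelian group of order
`p ^ 3` with a strongly `p`-embedded subgroup lie in one plane, and all axes contain one line.
-/

set_option autoImplicit false
set_option linter.style.haveILetI false
set_option linter.unusedSectionVars false

namespace CfsgLib.TransvectionCube

open CfsgLib.Fusion CfsgLib.Fusion.Transvections CfsgLib.Fusion.EssentialFlag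

variable {V : Type*} [CommGroup V] [Finite V] {p : ℕ} [hp : Fact p.Prime]

/-- The context attached to a transvection. -/
theorem exists_ctx (hV : IsPGroup p V) (hcard : Nat.card V = p ^ 3) (G : Subgroup (MulAut V))
    (hG : ∃ H : Subgroup G, Cfsg.IsStronglyPEmbedded p H) {t : MulAut V} {c A : Subgroup V}
    (ht : Tr p t c A) (htG : t ∈ G) :
    ∃ (H : Subgroup (MulAut V)) (g : MulAut V), Ctx p G H t g c A := by
  classical
  haveI := finite_aut (V := V)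
  obtain ⟨H₀, hH₀⟩ := hG
  obtain ⟨htop, -, hN⟩ := Strong.isStronglyPEmbedded_iff.1 hH₀
  obtain ⟨T, hT⟩ := (CfsgLib.Transfer.isPGroup_zpowers (p := p) (x := (⟨t, htG⟩ : G))
    ⟨1, by rw [pow_one, Subgroup.orderOf_mk, ht.order]⟩).exists_le_sylow
  obtain ⟨⟨P₀, hP₀, -⟩, -⟩ := Strong.exists_sylow_le_and_normalizer_le hH₀
  obtain ⟨γ₀, hγ₀⟩ := MulAction.exists_smul_eq G P₀ T
  obtain ⟨H₁, hH₁⟩ : ∃ H₁ : Subgroup G, H₁ = H₀.map (MulAut.conj γ₀).toMonoidHom := ⟨_, rfl⟩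
  have hN₁ : ∀ Q : Subgroup G, IsPGroup p Q → Q ≤ H₁ → Q ≠ ⊥ →
      Subgroup.normalizer (Q : Set G) ≤ H₁ := by
    intro Q hQ hQH hne n hn
    obtain ⟨Q', hQ'⟩ : ∃ Q' : Subgroup G, Q' = Q.map (MulAut.conj γ₀⁻¹).toMonoidHom := ⟨_, rfl⟩
    have h1 : Q' ≤ H₀ := by
      rw [hQ']
      rintro _ ⟨q, hq, rfl⟩
      obtain ⟨x, hx, rfl⟩ := hH₁ ▸ hQH hq
      simpa [mul_assoc] using hx
    have h2 : γ₀⁻¹ * n * γ₀ ∈ Subgroup.normalizer (Q' : Set G) := by
      refine Subgroup.mem_normalizer_fintype ?_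
      rw [hQ']
      rintro _ ⟨q, hq, rfl⟩
      exact ⟨n * q * n⁻¹, (Subgroup.mem_normalizer_iff.1 hn q).1 hq, by simp [mul_assoc]⟩
    have h3 := hN Q' (hQ' ▸ hQ.map _) h1 (fun e => hne ((Subgroup.map_eq_bot_iff_of_injective Q
      (MulAut.conj γ₀⁻¹).injective).1 (hQ' ▸ e))) h2
    rw [hH₁]
    exact ⟨_, h3, by simp [mul_assoc]⟩
  have htH₁ : (⟨t, htG⟩ : G) ∈ H₁ := by
    have h1 := hT (Subgroup.mem_zpowers _)
    rw [← hγ₀, Sylow.coe_subgroup_smul, Subgroup.mem_pointwise_smul_iff_inv_smul_mem] at h1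
    rw [hH₁]
    exact ⟨_, hP₀ h1, by simp [mul_assoc]⟩
  have hH₁top : H₁ ≠ ⊤ := fun e => htop (Subgroup.map_injective
    (f := (MulAut.conj γ₀).toMonoidHom) (MulAut.conj γ₀).injective
    (by rw [← hH₁, e, Subgroup.map_top_of_surjective _ (MulAut.conj γ₀).surjective]))
  obtain ⟨⟨g, hgG⟩, hg⟩ : ∃ g, g ∉ H₁ := by
    by_contra hcon
    push Not at hcon
    exact hH₁top (eq_top_iff.2 fun g _ => hcon g)
  have hsub : ∀ x : G, orderOf (x : MulAut V) = orderOf x := fun x => Subgroup.orderOf_coe x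
  refine ⟨H₁.map G.subtype, g, hV, hcard, Subgroup.map_subtype_le H₁, ?_, ?_, ht,
    ⟨_, htH₁, rfl⟩, hgG, ?_⟩
  · rintro γ hγ _ ⟨x, hx, rfl⟩ hord hmem
    obtain ⟨y, hy, hyv⟩ := hmem
    refine ⟨⟨γ, hγ⟩, Strong.mem_of_conj_mem hN₁ ((hsub x).symm.trans hord) hx ?_, rfl⟩
    rw [show (⟨γ, hγ⟩ : G) * x * (⟨γ, hγ⟩ : G)⁻¹ = y from Subtype.ext hyv.symm]
    exact hy
  · rintro Q hQG hQ _ hxQ ⟨x, hx, rfl⟩ hord u hu
    obtain ⟨T', hT'⟩ := (hQ.comap_of_injective G.subtype G.subtype_injective :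
      IsPGroup p (Q.comap G.subtype)).exists_le_sylow
    exact ⟨⟨u, hQG hu⟩, Strong.sylow_le_of_normalizer hN₁ T' (hT' hxQ) hx
      ((hsub x).symm.trans hord) (hT' (show G.subtype ⟨u, hQG hu⟩ ∈ Q from hu)), rfl⟩
  · rintro ⟨x, hx, hxg⟩
    exact hg (by rwa [show (⟨g, hgG⟩ : G) = x from Subtype.ext hxg.symm])

namespace Ctx

variable {G H : Subgroup (MulAut V)} {t g : MulAut V} {c A : Subgroup V}

/-- A moved centre on the axis is the centre. -/
theorem eq_of_le (h : Ctx p G H t g c A) {γ : MulAut V} (hγ : γ ∈ G)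
    (hle : c.map γ.toMonoidHom ≤ A) :
    c.map γ.toMonoidHom = c ∧ A.map γ.toMonoidHom = A := by
  have htG := h.le h.memt
  obtain ⟨Q, hQG, hQ, htQ, huQ⟩ := pair_pgroup h.pgroupV h.tr (h.tr.map γ) htG
    (G.mul_mem (G.mul_mem hγ htG) (G.inv_mem hγ)) hle
  exact h.same hQG hQ htQ huQ (h.tr.map γ)

/-- If a moved centre lies on another moved axis, the two transvection groups agree. -/
theorem map_eq_of_le (h : Ctx p G H t g c A) {γ δ : MulAut V} (hγ : γ ∈ G) (hδ : δ ∈ G)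
    (hle : c.map γ.toMonoidHom ≤ A.map δ.toMonoidHom) :
    c.map γ.toMonoidHom = c.map δ.toMonoidHom ∧ A.map γ.toMonoidHom = A.map δ.toMonoidHom := by
  have key : ∀ K : Subgroup V,
      (K.map (δ⁻¹ * γ).toMonoidHom).map δ.toMonoidHom = K.map γ.toMonoidHom := fun K => by
    rw [Subgroup.map_map]
    congr 1
    ext x
    show δ (δ⁻¹ (γ x)) = γ x
    rw [MulAut.apply_inv_self]
  obtain ⟨h1, h2⟩ := h.eq_of_le (G.mul_mem (G.inv_mem hδ) hγ)
    ((Subgroup.map_le_map_iff_of_injective (f := δ.toMonoidHom) δ.injective).1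
      (by rw [key]; exact hle))
  exact ⟨by rw [← key c, h1], by rw [← key A, h2]⟩

/-- Every point on a line through two centres is a centre. -/
theorem centre_of_mem_join (h : Ctx p G H t g c A) {γ δ : MulAut V} (hγ : γ ∈ G) (hδ : δ ∈ G)
    (hne : c.map γ.toMonoidHom ≠ c.map δ.toMonoidHom) {x : V}
    (hx : x ∈ c.map γ.toMonoidHom ⊔ c.map δ.toMonoidHom) :
    ∃ ε ∈ G, x ∈ c.map ε.toMonoidHom := by
  obtain ⟨a, ha, b, hb, rfl⟩ := Subgroup.mem_sup.1 hx
  rcases eq_or_ne a 1 with rfl | ha1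
  · exact ⟨δ, hδ, by rwa [one_mul]⟩
  have hg1 := h.tr.map γ
  have hd1 := h.tr.map δ
  have haA : a ∉ A.map δ.toMonoidHom := fun e => hne (h.map_eq_of_le hγ hδ (by
    rw [← zpowers_eq hg1.cardc ha ha1]
    exact Subgroup.zpowers_le.2 e)).1
  obtain ⟨m, hm⟩ := exists_pow_mul_eq_one hd1.cardc (hd1.diff a) (hd1.diff_ne haA) (inv_mem hb)
  have htG := h.le h.memt
  refine ⟨(δ * t * δ⁻¹) ^ m * γ,
    G.mul_mem (G.pow_mem (G.mul_mem (G.mul_mem hδ htG) (G.inv_mem hδ)) m) hγ, ?_⟩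
  obtain ⟨a₀, ha₀, rfl⟩ := ha
  refine ⟨a₀, ha₀, ?_⟩
  show ((δ * t * δ⁻¹) ^ m) (γ a₀) = _
  rw [hd1.pow_apply]
  congr 1
  exact (inv_mul_eq_one.1 hm).symm

/-- The plane of the centres and the line of the axes. -/
theorem exists_plane (h : Ctx p G H t g c A) :
    ∃ (v w l : V) (b : MulAut V), b ∈ G ∧ v ∈ c ∧ v ≠ 1 ∧ w ∉ A ∧ l ∈ A ∧ l ∉ c ∧
      t v = v ∧ t w = w * v ∧ b w = w ∧ b v = v * w⁻¹ ∧ t l = l ∧ b l = l ∧
      (∀ x, ∃ i j k : ℤ, x = v ^ i * w ^ j * l ^ k) ∧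
      (∀ γ ∈ G, γ v ∈ Subgroup.zpowers v ⊔ Subgroup.zpowers w ∧
        γ w ∈ Subgroup.zpowers v ⊔ Subgroup.zpowers w) ∧
      (∀ γ ∈ G, γ l ∈ Subgroup.zpowers l) ∧
      ∀ γ ∈ G, ∃ β ∈ G, β l = l ∧
        (∀ x ∈ Subgroup.zpowers v ⊔ Subgroup.zpowers w,
          β x ∈ Subgroup.zpowers v ⊔ Subgroup.zpowers w) ∧
        (c.map γ.toMonoidHom).map β.toMonoidHom = c := by
  have htG := h.le h.memt
  have hgG := h.memg
  obtain ⟨c', hc'⟩ : ∃ c', c' = c.map g.toMonoidHom := ⟨_, rfl⟩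
  obtain ⟨A', hA'⟩ : ∃ A', A' = A.map g.toMonoidHom := ⟨_, rfl⟩
  have htr' : Tr p (g * t * g⁻¹) c' A' := hc' ▸ hA' ▸ h.tr.map g
  obtain ⟨hcA', hc'A⟩ : ¬ c ≤ A' ∧ ¬ c' ≤ A := by
    have := h.claim h.tr h.memt h.memg h.notMem
    rwa [← hc', ← hA'] at this
  obtain ⟨a', ha', ha'1⟩ : ∃ a' ∈ c', a' ≠ 1 := by
    by_contra hcon
    push Not at hcon
    have h1 := htr'.cardc
    rw [Subgroup.eq_bot_iff_forall _ |>.2 hcon, Subgroup.card_bot] at h1
    exact hp.out.ne_one h1.symm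
  have ha'A : a' ∉ A := fun e => ha'1 (inf_eq_bot htr'.cardc hc'A ha' e)
  -- the two points
  obtain ⟨v, hvd⟩ : ∃ v, v = a'⁻¹ * t a' := ⟨_, rfl⟩
  have hvc : v ∈ c := hvd ▸ h.tr.diff a'
  have hv1 : v ≠ 1 := hvd ▸ h.tr.diff_ne ha'A
  have hvA' : v ∉ A' := fun e => hv1 (inf_eq_bot h.tr.cardc hcA' hvc e)
  have htw : t a' = a' * v := by rw [hvd, mul_inv_cancel_left]
  obtain ⟨m, hm⟩ := exists_pow_mul_eq_one htr'.cardc (htr'.diff v) (htr'.diff_ne hvA') ha'
  obtain ⟨b, hb⟩ : ∃ b, b = (g * t * g⁻¹) ^ m := ⟨_, rfl⟩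
  have hbv : b v = v * a'⁻¹ := by
    rw [hb, htr'.pow_apply]
    congr 1
    exact eq_inv_of_mul_eq_one_right hm
  have hbw : b a' = a' := by
    rw [hb, htr'.pow_apply, (htr'.fix a').2 (htr'.le ha'), inv_mul_cancel, one_pow, mul_one]
  have hbG : b ∈ G := hb ▸ G.pow_mem (G.mul_mem (G.mul_mem hgG htG) (G.inv_mem hgG)) m
  -- the line
  obtain ⟨l, hlA, hlA', hl1⟩ := h.exists_meet g
  rw [← hA'] at hlA'
  have hlc : l ∉ c := fun e => hl1 (inf_eq_bot h.tr.cardc hcA' e hlA')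
  have htl : t l = l := (h.tr.fix l).2 hlA
  have hbl : b l = l := by
    rw [hb, htr'.pow_apply, (htr'.fix l).2 hlA', inv_mul_cancel, one_pow, mul_one]
  obtain ⟨P, hP⟩ : ∃ P, P = c ⊔ c' := ⟨_, rfl⟩
  have hPeq : P = Subgroup.zpowers v ⊔ Subgroup.zpowers a' := by
    rw [hP, zpowers_eq h.tr.cardc hvc hv1, zpowers_eq htr'.cardc ha' ha'1]
  have hlP : ∀ i : ℤ, l ^ i ∈ P → l ^ i = 1 := by
    intro i hi
    rw [hP] at hi
    obtain ⟨x, hx, y, hy, e⟩ := Subgroup.mem_sup.1 hi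
    have hy1 : y = 1 := inf_eq_bot htr'.cardc hc'A hy (by
      have := A.mul_mem (A.inv_mem (h.tr.le hx)) (A.zpow_mem hlA i)
      rwa [← e, inv_mul_cancel_left] at this)
    rw [hy1, mul_one] at e
    exact e ▸ inf_eq_bot h.tr.cardc hcA' hx (e ▸ A'.zpow_mem hlA' i)
  have hspan : P ⊔ Subgroup.zpowers l = ⊤ := by
    obtain ⟨k, hk⟩ := IsPGroup.iff_card.1 (h.pgroupV.to_subgroup P)
    obtain ⟨k', hk'⟩ := IsPGroup.iff_card.1 (h.pgroupV.to_subgroup (P ⊔ Subgroup.zpowers l))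
    have h1 : Nat.card c < Nat.card P := by
      rw [hP]
      refine lt_of_le_of_ne (Subgroup.card_le_of_le le_sup_left) fun e => ha'A ?_
      exact h.tr.le ((Subgroup.eq_of_le_of_card_ge le_sup_left e.ge).ge
        (Subgroup.mem_sup_right ha'))
    have h2 : Nat.card P < Nat.card (P ⊔ Subgroup.zpowers l : Subgroup V) := by
      refine lt_of_le_of_ne (Subgroup.card_le_of_le le_sup_left) fun e => hl1 ?_
      have := hlP 1 (by
        rw [zpow_one]
        exact (Subgroup.eq_of_le_of_card_ge le_sup_left e.ge).ge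
          (Subgroup.mem_sup_right (Subgroup.mem_zpowers l)))
      rwa [zpow_one] at this
    rw [h.tr.cardc, hk] at h1
    rw [hk, hk'] at h2
    have e1 : 1 < k := (Nat.pow_lt_pow_iff_right (a := p) hp.out.one_lt).1 (by rwa [pow_one])
    have e2 := (Nat.pow_lt_pow_iff_right hp.out.one_lt).1 h2
    refine Subgroup.eq_top_of_le_card _ ?_
    rw [h.cardV, hk']
    exact Nat.pow_le_pow_right hp.out.pos (by omega)
  -- all centres are in the plane
  have hcl : ∀ γ ∈ G, l ∉ c.map γ.toMonoidHom := fun γ hγ hl => by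
    have hle : c.map γ.toMonoidHom ≤ A := by
      rw [← zpowers_eq (h.tr.map γ).cardc hl hl1]
      exact Subgroup.zpowers_le.2 hlA
    exact hlc ((h.eq_of_le hγ hle).1 ▸ hl)
  have h1map : c.map (1 : MulAut V).toMonoidHom = c := Subgroup.map_id c
  have hPc : ∀ r ∈ P, ∃ ε ∈ G, r ∈ c.map ε.toMonoidHom := by
    intro r hr
    refine h.centre_of_mem_join (γ := 1) G.one_mem hgG ?_ ?_
    · rw [h1map, ← hc']
      exact fun e => hcA' (e.le.trans htr'.le)
    · rw [h1map, ← hc', ← hP]; exact hr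
  have hcen : ∀ γ ∈ G, c.map γ.toMonoidHom ≤ P := by
    intro γ hγ
    by_contra hnot
    obtain ⟨x, hx, hxP⟩ := SetLike.not_le_iff_exists.1 hnot
    have hx1 : x ≠ 1 := fun e => hxP (e ▸ P.one_mem)
    obtain ⟨r, hr, _, hy', e⟩ := Subgroup.mem_sup.1 (hspan.ge (Subgroup.mem_top x))
    obtain ⟨k, rfl⟩ := Subgroup.mem_zpowers_iff.1 hy'
    obtain ⟨ε, hε, hrε⟩ := hPc r hr
    have hk1 : l ^ k ≠ 1 := fun e' => hxP (by rw [← e, e', mul_one]; exact hr)
    have hlk : l ∈ c.map γ.toMonoidHom ⊔ c.map ε.toMonoidHom := by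
      have h1 : l ^ k ∈ c.map γ.toMonoidHom ⊔ c.map ε.toMonoidHom := by
        rw [show l ^ k = r⁻¹ * x by rw [← e, inv_mul_cancel_left]]
        exact mul_mem (Subgroup.mem_sup_right (inv_mem hrε)) (Subgroup.mem_sup_left hx)
      have hA1 : l ^ p = 1 := by
        have h2 : l ^ p ∈ c := by
          have hle := h.tr.le
          haveI : (c.subgroupOf A).Normal := inferInstance
          have h3 := Subgroup.pow_index_mem (c.subgroupOf A) (⟨l, hlA⟩ : A)
          have h4 : (c.subgroupOf A).index = p := by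
            have h5 := (c.subgroupOf A).card_mul_index
            rw [Nat.card_congr (Subgroup.subgroupOfEquivOfLe hle).toEquiv, h.tr.cardc, h.cardA,
              pow_two] at h5
            exact Nat.eq_of_mul_eq_mul_left hp.out.pos h5
          rwa [h4] at h3
        exact inf_eq_bot h.tr.cardc hcA' h2 (A'.pow_mem hlA' p)
      have hord : Nat.card (Subgroup.zpowers l) = p := by
        rw [Nat.card_zpowers, orderOf_eq_prime hA1 hl1]
      have h6 := zpowers_eq hord (Subgroup.zpow_mem_zpowers l k) hk1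
      exact (Subgroup.zpowers_le.2 h1) (h6.ge (Subgroup.mem_zpowers l))
    by_cases hne : c.map γ.toMonoidHom = c.map ε.toMonoidHom
    · rw [hne, sup_idem] at hlk
      exact hcl ε hε hlk
    · obtain ⟨ε', hε', hl'⟩ := h.centre_of_mem_join hγ hε hne hlk
      exact hcl ε' hε' hl'
  -- moving a centre back
  have hmove : ∀ γ ∈ G, c.map γ.toMonoidHom ≠ c →
      ∃ n : ℕ, ((t ^ n) * g) ∈ G ∧ c.map γ.toMonoidHom = (c').map (t ^ n).toMonoidHom ∧
        A.map γ.toMonoidHom = (A').map (t ^ n).toMonoidHom := by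
    intro γ hγ hne
    obtain ⟨x, hx, hxc⟩ := SetLike.not_le_iff_exists.1 (fun hle => hne
      (Subgroup.eq_of_le_of_card_ge hle (by rw [(h.tr.map γ).cardc, h.tr.cardc])))
    have hxP := hcen γ hγ hx
    rw [hP] at hxP
    obtain ⟨y, hy, z, hz, e⟩ := Subgroup.mem_sup.1 hxP
    have hz1 : z ≠ 1 := fun e' => hxc (by rw [← e, e', mul_one]; exact hy)
    have hzA : z ∉ A := fun e' => hz1 (inf_eq_bot htr'.cardc hc'A hz e')
    obtain ⟨n, hn⟩ := exists_pow_mul_eq_one h.tr.cardc (h.tr.diff z) (h.tr.diff_ne hzA) (inv_mem hy)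
    have hxe : x = (t ^ n) z := by
      rw [h.tr.pow_apply, ← inv_mul_eq_one.1 hn, ← e, mul_comm]
    have hG' : t ^ n * g ∈ G := G.mul_mem (G.pow_mem htG n) hgG
    have hcz : c.map γ.toMonoidHom = c'.map (t ^ n).toMonoidHom := by
      have hx1 : x ≠ 1 := fun e' => hxc (e' ▸ c.one_mem)
      rw [← zpowers_eq (h.tr.map γ).cardc hx hx1]
      exact zpowers_eq (by rw [Subgroup.card_map_of_injective (t ^ n).injective, htr'.cardc])
        ⟨z, hz, hxe.symm⟩ hx1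
    refine ⟨n, hG', hcz, ?_⟩
    have hcomp : ∀ K : Subgroup V,
        (K.map g.toMonoidHom).map (t ^ n).toMonoidHom = K.map (t ^ n * g).toMonoidHom := fun K => by
      rw [Subgroup.map_map]; rfl
    rw [hA', hcomp]
    refine (h.map_eq_of_le hγ hG' ?_).2
    rw [← hcomp, ← hA', hcz]
    exact Subgroup.map_mono htr'.le
  have hline : ∀ γ ∈ G, l ∈ A.map γ.toMonoidHom := by
    intro γ hγ
    by_cases hne : c.map γ.toMonoidHom = c
    · rw [(h.eq_of_le hγ (hne.le.trans h.tr.le)).2]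
      exact hlA
    · obtain ⟨n, -, -, hA⟩ := hmove γ hγ hne
      rw [hA]
      refine ⟨l, hlA', ?_⟩
      show (t ^ n) l = l
      rw [h.tr.pow_apply, htl, inv_mul_cancel, one_pow, mul_one]
  have hinvP : ∀ γ ∈ G, ∀ x ∈ P, γ x ∈ P := by
    intro γ hγ x hx
    have : c ⊔ c' ≤ P.comap γ.toMonoidHom := by
      refine sup_le (fun y hy => hcen γ hγ ⟨y, hy, rfl⟩) fun y hy => ?_
      rw [hc'] at hy
      obtain ⟨y₀, hy₀, rfl⟩ := hy
      exact hcen (γ * g) (G.mul_mem hγ hgG) ⟨y₀, hy₀, rfl⟩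
    exact this (hP ▸ hx)
  have hlγ : ∀ γ ∈ G, γ l ∈ Subgroup.zpowers l := by
    intro γ hγ
    have h1 : γ l ∈ A ∧ γ l ∈ A' := by
      constructor
      · obtain ⟨z, hz, e⟩ := hline γ⁻¹ (G.inv_mem hγ)
        change γ⁻¹ z = l at e
        rw [← e, MulAut.apply_inv_self]
        exact hz
      · obtain ⟨z, hz, e⟩ := hline (γ⁻¹ * g) (G.mul_mem (G.inv_mem hγ) hgG)
        change γ⁻¹ (g z) = l at e
        rw [← e, MulAut.apply_inv_self, hA']
        exact ⟨z, hz, rfl⟩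
    obtain ⟨r, hr, y, hy, e⟩ := Subgroup.mem_sup.1 (hspan.ge (Subgroup.mem_top (γ l)))
    have hr1 : r = 1 := by
      rw [hP] at hr
      obtain ⟨a₁, ha₁, b₁, hb₁, e'⟩ := Subgroup.mem_sup.1 hr
      have hrA : r ∈ A := by
        obtain ⟨i, rfl⟩ := Subgroup.mem_zpowers_iff.1 hy
        have := A.mul_mem h1.1 (A.inv_mem (A.zpow_mem hlA i))
        rwa [← e, mul_inv_cancel_right] at this
      have hrA' : r ∈ A' := by
        obtain ⟨i, rfl⟩ := Subgroup.mem_zpowers_iff.1 hy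
        have := A'.mul_mem h1.2 (A'.inv_mem (A'.zpow_mem hlA' i))
        rwa [← e, mul_inv_cancel_right] at this
      have hb1' : b₁ = 1 := inf_eq_bot htr'.cardc hc'A hb₁ (by
        have := A.mul_mem (A.inv_mem (h.tr.le ha₁)) hrA
        rwa [← e', inv_mul_cancel_left] at this)
      rw [hb1', mul_one] at e'
      exact e' ▸ inf_eq_bot h.tr.cardc hcA' ha₁ (e' ▸ hrA')
    rw [← e, hr1, one_mul]
    exact hy
  refine ⟨v, a', l, b, hbG, hvc, hv1, ha'A, hlA, hlc, (h.tr.fix v).2 (h.tr.le hvc), htw, hbw, hbv,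
    htl, hbl, fun x => ?_, fun γ hγ => ⟨hPeq ▸ hinvP γ hγ v (hPeq ▸ Subgroup.mem_sup_left
      (Subgroup.mem_zpowers v)), hPeq ▸ hinvP γ hγ a' (hPeq ▸ Subgroup.mem_sup_right
      (Subgroup.mem_zpowers a'))⟩, hlγ, fun γ hγ => ?_⟩
  · have hx : x ∈ Subgroup.zpowers v ⊔ Subgroup.zpowers a' ⊔ Subgroup.zpowers l := by
      rw [← hPeq, hspan]; exact Subgroup.mem_top x
    obtain ⟨r, hr, y, hy, rfl⟩ := Subgroup.mem_sup.1 hx
    obtain ⟨q, hq, q', hq', rfl⟩ := Subgroup.mem_sup.1 hr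
    obtain ⟨i, rfl⟩ := Subgroup.mem_zpowers_iff.1 hq
    obtain ⟨j, rfl⟩ := Subgroup.mem_zpowers_iff.1 hq'
    obtain ⟨k, rfl⟩ := Subgroup.mem_zpowers_iff.1 hy
    exact ⟨i, j, k, rfl⟩
  · rw [← hPeq]
    by_cases hne : c.map γ.toMonoidHom = c
    · exact ⟨1, G.one_mem, rfl, fun x hx => hx, by rw [hne, h1map]⟩
    obtain ⟨n, -, hcz, -⟩ := hmove γ hγ hne
    have hG' : t * b * t * (t ^ n)⁻¹ ∈ G :=
      G.mul_mem (G.mul_mem (G.mul_mem htG hbG) htG) (G.inv_mem (G.pow_mem htG n))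
    refine ⟨t * b * t * (t ^ n)⁻¹, hG', ?_, fun x hx => hinvP _ hG' x hx, ?_⟩
    · have h2 : (t ^ n)⁻¹ l = l := by
        have h3 : (t ^ n) l = l := by rw [h.tr.pow_apply, htl, inv_mul_cancel, one_pow, mul_one]
        conv_lhs => rw [← h3, MulAut.inv_apply_self]
      rw [MulAut.mul_apply, MulAut.mul_apply, MulAut.mul_apply, h2, htl, hbl, htl]
    · have htbt : (t * b * t) a' = v := by
        rw [MulAut.mul_apply, MulAut.mul_apply, htw, map_mul, hbw, hbv, mul_comm v a'⁻¹,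
          mul_inv_cancel_left, (h.tr.fix v).2 (h.tr.le hvc)]
      have h4 : c'.map (t * b * t).toMonoidHom = c := by
        rw [← zpowers_eq htr'.cardc ha' ha'1, MonoidHom.map_zpowers]
        show Subgroup.zpowers ((t * b * t) a') = c
        rw [htbt, zpowers_eq h.tr.cardc hvc hv1]
      rw [hcz, Subgroup.map_map]
      refine Eq.trans ?_ h4
      congr 1
      ext x
      show (t * b * t * (t ^ n)⁻¹) ((t ^ n) x) = (t * b * t) x
      rw [MulAut.mul_apply, MulAut.inv_apply_self]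

end Ctx

end CfsgLib.TransvectionCube
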