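import Mathlib
import Cfsg.Agent.Lib.Fusion.MaxClassCube
import Cfsg.Agent.Lib.IsolatedMin.Basic

/-!
An elementary abelian essential subgroup of order `p ^ 3` in a group of order `p ^ 5`: some element
of its normalizer fixes a line or a plane modulo which it acts trivially.
-/

set_option autoImplicit false
set_option linter.style.haveILetI false
set_option linter.unusedSectionVars false

namespace CfsgLib.OrderPFive

open Cfsg Cfsg.FusionSystem CfsgLib.Fusion CfsgLib.Fusion.MaxClassCube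
open scoped commutatorElement

variable {Ω : Type*} [Group Ω] {S : Subgroup Ω} [Finite S] {F : FusionSystem S} {p : ℕ}
  [hp : Fact p.Prime]

/-- The normalizer has order `p ^ 4`: two conjugates of `E` meet in a plane. -/
theorem exists_step_four {E : Subgroup Ω} (h : Cube F p E) (hcard : Nat.card S = p ^ 5)
    (hN : Nat.card (normalizerIn S E) = p ^ 4) :
    ∃ g ∈ normalizerIn S E, g ∉ E ∧ ∃ A₀ ≤ E, Nat.card A₀ = p ^ 2 ∧
      (∀ x ∈ A₀, g * x = x * g) ∧ ∀ x ∈ E, g * x * g⁻¹ * x⁻¹ ∈ A₀ := by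
  classical
  obtain ⟨N, hNdef⟩ : ∃ N, N = normalizerIn S E := ⟨_, rfl⟩
  have hNS : N ≤ S := hNdef ▸ inf_le_left
  have hEN : E ≤ N := hNdef ▸ le_normalizerIn h.le
  rw [← hNdef] at hN ⊢
  have hne : N ≠ S := fun e => by
    rw [e, hcard] at hN
    have := Nat.pow_right_injective hp.out.two_le hN
    omega
  obtain ⟨s, hs, hsN⟩ := SetLike.exists_of_lt (lt_normalizerIn h.pgroup hNS hne)
  obtain ⟨hsS, hsn⟩ : s ∈ S ∧ s ∈ Subgroup.normalizer (N : Set Ω) := hs
  obtain ⟨E', hE'⟩ : ∃ E', E' = E.map (MulAut.conj s).toMonoidHom := ⟨_, rfl⟩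
  have hE'N : E' ≤ N := by
    rw [hE']
    rintro _ ⟨x, hx, rfl⟩
    exact conj_mem_of_mem_normalizer hsn (hEN hx)
  obtain ⟨g, hgE', hgE⟩ : ∃ g ∈ E', g ∉ E := by
    by_contra hcon
    push Not at hcon
    refine hsN ?_
    rw [hNdef]
    refine ⟨hsS, mem_normalizer_of_conj_mem h.le fun x hx => hcon _ ?_⟩
    rw [hE']
    exact ⟨x, hx, rfl⟩
  have hE'c : ∀ a ∈ E', ∀ b ∈ E', a * b = b * a := by
    rw [hE']
    rintro _ ⟨a, ha, rfl⟩ _ ⟨b, hb, rfl⟩
    rw [← map_mul, ← map_mul, h.comm a ha b hb]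
  haveI := finite_of_le hNS
  have hcE' : Nat.card E' = p ^ 3 := by
    rw [hE', Subgroup.card_map_of_injective (MulAut.conj s).injective, h.card]
  have hrelN : E.relIndex N = p := by
    have h1 := Subgroup.relIndex_mul_relIndex ⊥ E N bot_le hEN
    rw [Subgroup.relIndex_bot_left, Subgroup.relIndex_bot_left, h.card, hN, pow_succ p 3] at h1
    exact Nat.eq_of_mul_eq_mul_left (pow_pos hp.out.pos 3) h1
  have hcard0 : Nat.card (E ⊓ E' : Subgroup Ω) = p ^ 2 := by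
    have h1 := Subgroup.relIndex_mul_relIndex ⊥ (E ⊓ E') E' bot_le inf_le_right
    rw [Subgroup.relIndex_bot_left, Subgroup.relIndex_bot_left, hcE',
      Subgroup.inf_relIndex_right] at h1
    have h2 : E.relIndex E' ≤ p :=
      (Subgroup.relIndex_le_of_le_right hE'N (by rw [hrelN]; exact hp.out.ne_zero)).trans_eq hrelN
    have h3 : E.relIndex E' ≠ 1 := fun e => hgE (Subgroup.relIndex_eq_one.1 e hgE')
    obtain ⟨k, hk, hk'⟩ := (Nat.dvd_prime_pow hp.out).1 (Dvd.intro_left _ h1)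
    have hk1 : k = 1 := by
      rw [hk'] at h2 h3
      have h4 : k ≤ 1 := (Nat.pow_le_pow_iff_right hp.out.one_lt).1 (by rwa [pow_one])
      rcases Nat.le_one_iff_eq_zero_or_eq_one.1 h4 with rfl | rfl
      · exact absurd (pow_zero p) h3
      · rfl
    rw [hk', hk1, pow_one, pow_succ p 2] at h1
    exact Nat.eq_of_mul_eq_mul_right hp.out.pos h1
  have hgN : g ∈ N := hE'N hgE'
  refine ⟨g, hgN, hgE, E ⊓ E', inf_le_left, hcard0, fun x hx => hE'c g hgE' x hx.2,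
    fun x hx => ⟨E.mul_mem (conj_mem_of_mem_normalizer (hNdef ▸ hgN).2 hx) (E.inv_mem hx), ?_⟩⟩
  rw [show g * x * g⁻¹ * x⁻¹ = g * (x * g⁻¹ * x⁻¹) by group]
  refine E'.mul_mem hgE' ?_
  rw [hE'] at hgE' ⊢
  obtain ⟨e, he, rfl⟩ := hgE'
  have hxn : s⁻¹ * x * s ∈ normalizerIn S E := by
    have := conj_mem_of_mem_normalizer (Subgroup.inv_mem _ hsn) (hEN hx)
    rw [inv_inv] at this
    exact hNdef ▸ this
  refine ⟨s⁻¹ * x * s * e⁻¹ * (s⁻¹ * x * s)⁻¹,
    conj_mem_of_mem_normalizer hxn.2 (E.inv_mem he), ?_⟩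
  simp [mul_assoc]

/-- The normalizer is everything: a flag of normal subgroups. -/
theorem exists_step_top {E : Subgroup Ω} (h : Cube F p E) (hcard : Nat.card S = p ^ 5)
    (hN : normalizerIn S E = S) :
    ∃ g ∈ normalizerIn S E, g ∉ E ∧ ∃ A₀ ≤ E, Nat.card A₀ = p ^ 2 ∧
      (∀ x ∈ A₀, g * x = x * g) ∧ ∀ x ∈ E, g * x * g⁻¹ * x⁻¹ ∈ A₀ := by
  classical
  obtain ⟨ES, hES⟩ : ∃ ES, ES = E.subgroupOf S := ⟨_, rfl⟩
  have memE : ∀ x : S, x ∈ ES ↔ (x : Ω) ∈ E := fun x => by rw [hES, Subgroup.mem_subgroupOf]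
  haveI hEn : ES.Normal := ⟨fun x hx g => (memE _).2
    (conj_mem_of_mem_normalizer ((hN.symm ▸ g.2 : (g : Ω) ∈ normalizerIn S E)).2 ((memE x).1 hx))⟩
  have hcE : Nat.card ES = p ^ 3 := by
    rw [hES, Nat.card_congr (Subgroup.subgroupOfEquivOfLe h.le).toEquiv, h.card]
  have hord : ∀ x ∈ ES, x ≠ 1 → orderOf x = p := fun x hx h1 =>
    orderOf_eq_prime (Subtype.ext (h.exp _ ((memE x).1 hx))) h1
  -- the line
  have hbot : ES ⊓ Subgroup.center S ≠ ⊥ := IsolatedMin.inf_center_ne_bot h.pgroup ES fun e => by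
    rw [e, Subgroup.card_bot] at hcE
    exact (Nat.one_lt_pow (by norm_num) hp.out.one_lt).ne hcE
  obtain ⟨z, hz, hz1⟩ : ∃ z ∈ ES ⊓ Subgroup.center S, z ≠ 1 := by
    by_contra hcon
    push Not at hcon
    exact hbot ((Subgroup.eq_bot_iff_forall _).2 hcon)
  obtain ⟨hzE, hzc⟩ := Subgroup.mem_inf.1 hz
  obtain ⟨C₀, hC₀⟩ : ∃ C₀, C₀ = Subgroup.zpowers z := ⟨_, rfl⟩
  have hC₀Z : C₀ ≤ Subgroup.center S := hC₀ ▸ Subgroup.zpowers_le.2 hzc
  have hC₀E : C₀ ≤ ES := hC₀ ▸ Subgroup.zpowers_le.2 hzE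
  haveI : C₀.Normal := ⟨fun x hx g => by
    rw [Subgroup.mem_center_iff.1 (hC₀Z hx) g, mul_inv_cancel_right]; exact hx⟩
  have hcC₀ : Nat.card C₀ = p := by rw [hC₀, Nat.card_zpowers, hord z hzE hz1]
  -- the plane
  obtain ⟨q, hq⟩ : ∃ q, q = QuotientGroup.mk' C₀ := ⟨_, rfl⟩
  have hq1 : ∀ x, q x = 1 ↔ x ∈ C₀ := fun x => by rw [hq]; exact QuotientGroup.eq_one_iff x
  haveI : (ES.map q).Normal := hEn.map q (hq ▸ QuotientGroup.mk'_surjective C₀)
  obtain ⟨a, haE, haC, hac⟩ : ∃ a ∈ ES, a ∉ C₀ ∧ ∀ g : S, ⁅g, a⁆ ∈ C₀ := by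
    have hb : ES.map q ⊓ Subgroup.center (S ⧸ C₀) ≠ ⊥ := IsolatedMin.inf_center_ne_bot
      (h.pgroup.to_quotient C₀) _ fun e => by
        have h1 : ES ≤ C₀ := fun x hx => (hq1 x).1 (Subgroup.mem_bot.1 (e ▸ ⟨x, hx, rfl⟩))
        have h2 := Subgroup.card_le_of_le h1
        rw [hcE, hcC₀] at h2
        have h3 := (Nat.pow_le_pow_iff_right (a := p) (n := 3) (m := 1) hp.out.one_lt).1
          (by rwa [pow_one])
        omega
    by_contra hcon
    push Not at hcon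
    refine hb ((Subgroup.eq_bot_iff_forall _).2 ?_)
    rintro v ⟨⟨a, ha, rfl⟩, hv⟩
    by_contra hne
    obtain ⟨g, hg⟩ := hcon a ha fun e => hne ((hq1 a).2 e)
    refine hg ((hq1 _).1 ?_)
    rw [map_commutatorElement, commutatorElement_eq_one_iff_mul_comm]
    exact Subgroup.mem_center_iff.1 hv _
  have ha1 : a ≠ 1 := fun e => haC (e ▸ one_mem _)
  obtain ⟨A₀, hA₀⟩ : ∃ A₀, A₀ = Subgroup.zpowers a ⊔ C₀ := ⟨_, rfl⟩
  have hA₀E : A₀ ≤ ES := hA₀ ▸ sup_le (Subgroup.zpowers_le.2 haE) hC₀E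
  have hcA₀ : Nat.card A₀ = p ^ 2 := by
    have h1 := Subgroup.relIndex_mul_relIndex ⊥ C₀ A₀ bot_le (hA₀ ▸ le_sup_right)
    rw [Subgroup.relIndex_bot_left, Subgroup.relIndex_bot_left, hcC₀, hA₀,
      Subgroup.relIndex_sup_right] at h1
    have h2 : C₀.relIndex (Subgroup.zpowers a) ∣ p := by
      have := Subgroup.relIndex_dvd_card C₀ (Subgroup.zpowers a)
      rwa [Nat.card_zpowers, hord a haE ha1] at this
    rcases (Nat.dvd_prime hp.out).1 h2 with e | e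
    · exact absurd (Subgroup.relIndex_eq_one.1 e (Subgroup.mem_zpowers a)) haC
    · rw [e] at h1
      rw [hA₀, ← h1, pow_two]
  haveI : A₀.Normal := ⟨fun x hx g => by
    rw [show g * x * g⁻¹ = ⁅g, x⁆ * x by rw [commutatorElement_def]; group]
    refine A₀.mul_mem ?_ hx
    rw [hA₀] at hx ⊢
    obtain ⟨w, hw, c, hc, rfl⟩ := Subgroup.mem_sup_of_normal_right.1 hx
    obtain ⟨i, rfl⟩ := Subgroup.mem_zpowers_iff.1 hw
    refine Subgroup.mem_sup_right ((hq1 _).1 ?_)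
    rw [map_commutatorElement, map_mul, (hq1 c).2 hc, mul_one, map_zpow,
      commutatorElement_eq_one_iff_mul_comm]
    refine (Commute.zpow_right ?_ i).eq
    show q g * q a = q a * q g
    rw [← commutatorElement_eq_one_iff_mul_comm, ← map_commutatorElement]
    exact (hq1 _).2 (hac g)⟩
  -- everything moves `E` into the plane
  have hdisp : ∀ g : S, ∀ x ∈ ES, ⁅g, x⁆ ∈ A₀ := by
    obtain ⟨r, hr⟩ : ∃ r, r = QuotientGroup.mk' A₀ := ⟨_, rfl⟩
    have hr1 : ∀ x, r x = 1 ↔ x ∈ A₀ := fun x => by rw [hr]; exact QuotientGroup.eq_one_iff x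
    haveI : (ES.map r).Normal := hEn.map r (hr ▸ QuotientGroup.mk'_surjective A₀)
    have hck : Nat.card (ES.map r) = p := by
      have h1 := Subgroup.relIndex_ker (f := r) ES
      rw [hr, QuotientGroup.ker_mk', ← hr] at h1
      rw [← h1]
      have h2 := Subgroup.relIndex_mul_relIndex ⊥ A₀ ES bot_le hA₀E
      rw [Subgroup.relIndex_bot_left, Subgroup.relIndex_bot_left, hcA₀, hcE, pow_succ p 2] at h2
      exact Nat.eq_of_mul_eq_mul_left (pow_pos hp.out.pos 2) h2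
    have hc : ES.map r ≤ Subgroup.center (S ⧸ A₀) := by
      refine inf_eq_left.1 (Subgroup.eq_of_le_of_card_ge inf_le_left ?_)
      have h1 : Nat.card (ES.map r ⊓ Subgroup.center (S ⧸ A₀) : Subgroup _) ∣ p :=
        hck ▸ Subgroup.card_dvd_of_le inf_le_left
      rcases (Nat.dvd_prime hp.out).1 h1 with e | e
      · refine absurd (Subgroup.card_eq_one.1 e)
          (IsolatedMin.inf_center_ne_bot (h.pgroup.to_quotient A₀) _ fun e' => ?_)
        rw [e', Subgroup.card_bot] at hck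
        exact hp.out.ne_one hck.symm
      · rw [hck, e]
    intro g x hx
    rw [← hr1, map_commutatorElement, commutatorElement_eq_one_iff_mul_comm]
    exact Subgroup.mem_center_iff.1 (hc ⟨x, hx, rfl⟩) _
  -- an element fixing the plane
  let ψ : S →* S := MonoidHom.mk' (fun g : S => ⁅g, a⁆) fun (g k : S) => by
    have hcg : ∀ u : S, Commute u ⁅k, a⁆ := fun u => Subgroup.mem_center_iff.1 (hC₀Z (hac k)) u
    show ⁅g * k, a⁆ = ⁅g, a⁆ * ⁅k, a⁆
    rw [show ⁅g * k, a⁆ = g * ⁅k, a⁆ * g⁻¹ * ⁅g, a⁆ by simp only [commutatorElement_def]; group,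
      (hcg g).eq, mul_inv_cancel_right, (hcg _).eq]
  obtain ⟨g, hgψ, hgE⟩ : ∃ g ∈ ψ.ker, g ∉ ES := by
    by_contra hcon
    push Not at hcon
    have h1 := ψ.ker.card_mul_index
    rw [Subgroup.index_ker, hcard] at h1
    have h2 : Nat.card ψ.range ≤ p := by
      rw [← hcC₀]
      exact Subgroup.card_le_of_le (by rintro _ ⟨u, rfl⟩; exact hac u)
    have h3 := Nat.mul_le_mul ((Subgroup.card_le_of_le hcon).trans hcE.le) h2
    rw [h1, ← pow_succ] at h3
    have := (Nat.pow_le_pow_iff_right hp.out.one_lt).1 h3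
    omega
  have hga : Commute g a := commutatorElement_eq_one_iff_mul_comm.1 hgψ
  refine ⟨g, hN.symm ▸ g.2, fun e => hgE ((memE g).2 e), A₀.map S.subtype, ?_, ?_, ?_, ?_⟩
  · rintro _ ⟨x, hx, rfl⟩
    exact (memE x).1 (hA₀E hx)
  · rw [Subgroup.card_map_of_injective S.subtype_injective, hcA₀]
  · rintro _ ⟨x, hx, rfl⟩
    rw [hA₀] at hx
    obtain ⟨w, hw, c, hc, rfl⟩ := Subgroup.mem_sup_of_normal_right.1 hx
    obtain ⟨i, rfl⟩ := Subgroup.mem_zpowers_iff.1 hw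
    exact congrArg Subtype.val
      ((hga.zpow_right i).mul_right (Subgroup.mem_center_iff.1 (hC₀Z hc) g)).eq
  · intro x hx
    exact ⟨⁅g, ⟨x, h.le hx⟩⁆, hdisp g _ ((memE _).2 hx), by
      rw [commutatorElement_def]; rfl⟩

/-- Some element of the normalizer fixes a plane modulo which it acts trivially. -/
theorem exists_step {E : Subgroup Ω} (h : Cube F p E) (hcard : Nat.card S = p ^ 5) :
    ∃ g ∈ normalizerIn S E, g ∉ E ∧ ∃ A₀ ≤ E, Nat.card A₀ = p ^ 2 ∧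
      (∀ x ∈ A₀, g * x = x * g) ∧ ∀ x ∈ E, g * x * g⁻¹ * x⁻¹ ∈ A₀ := by
  have hle : normalizerIn S E ≤ S := inf_le_left
  haveI := finite_of_le hle
  have hne : E ≠ S := ne_of_isEssential h.pgroup h.sat h.ess
  have hlt := lt_normalizerIn h.pgroup h.le hne
  obtain ⟨k, hk⟩ := IsPGroup.iff_card.1 (h.pgroup.to_le hle)
  have h1 : Nat.card E < Nat.card (normalizerIn S E) :=
    lt_of_le_of_ne (Subgroup.card_le_of_le hlt.le) fun e =>
      hlt.ne (Subgroup.eq_of_le_of_card_ge hlt.le e.ge)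
  have h2 := Subgroup.card_le_of_le hle
  rw [h.card, hk] at h1
  rw [hk, hcard] at h2
  have e1 := (Nat.pow_lt_pow_iff_right hp.out.one_lt).1 h1
  have e2 := (Nat.pow_le_pow_iff_right hp.out.one_lt).1 h2
  rcases (show k = 4 ∨ k = 5 by omega) with rfl | rfl
  · exact exists_step_four h hcard hk
  · exact exists_step_top h hcard (Subgroup.eq_of_le_of_card_ge hle (by rw [hk, hcard]))

end CfsgLib.OrderPFive
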