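import Mathlib
import Cfsg.Agent.Lib.Fusion.OrderPFive.CubeStep
import Cfsg.Agent.Lib.Fusion.OrderPFive.CubePlane
import Cfsg.Agent.Lib.Fusion.OrderPFive.CaseFour

/-!
An elementary abelian essential subgroup of order `p ^ 3`.
-/

set_option autoImplicit false
set_option linter.style.haveILetI false
set_option linter.unusedSectionVars false

namespace CfsgLib.OrderPFive

open Cfsg Cfsg.FusionSystem CfsgLib.Fusion CfsgLib.Fusion.MaxClassCube
open scoped commutatorElement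

variable {Ω : Type*} [Group Ω] {S : Subgroup Ω} [Finite S] {F : FusionSystem S} {p : ℕ}
  [hp : Fact p.Prime]

theorem exists_cube_setup {E : Subgroup Ω} (h : Cube F p E) (hp2 : p ≠ 2)
    (hcard : Nat.card S = p ^ 5)
    (hno : ∀ K : Subgroup Ω, K ≤ S → IsMulCommutative K → (K.subgroupOf S).index ≠ p) :
    ∃ (A C : Subgroup S) (s w : S) (h4 : Four F p (normalizerIn S E) A C s w),
      (∃ ρ ∈ F.autGroup (normalizerIn S E),
        (∀ m, h4.ι m ∈ A → (h4.ι m)⁻¹ * h4.ι (ρ m) ∈ C) ∧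
        (∀ m, h4.ι m = w → h4.ι (ρ m) = w⁻¹) ∧ ∀ m, h4.ι m ∈ C → ρ (ρ m) = m) ∧
      (∃ δ ∈ F.autGroup (normalizerIn S E), ∃ k : ℤ, ((2 * k : ℤ) : ZMod p) = 1 ∧
        (∀ m, h4.ι m ∈ A → (h4.ι m)⁻¹ * h4.ι (δ m) ∈ C) ∧
        ∀ m, h4.ι m = w → h4.ι (δ m) = w ^ k) ∧
      ∀ χ : S →* Multiplicative (ZMod p),
        (∀ α ∈ F.autGroup (normalizerIn S E), ∀ m, χ (h4.ι (α m)) = χ (h4.ι m)) →
        ∀ γ ∈ F.autGroup E, ∀ (x : E) (hx : (x : Ω) ∈ S) (hy : (γ x : Ω) ∈ S),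
          χ ⟨γ x, hy⟩ = χ ⟨x, hx⟩ := by
  classical
  haveI := finite_of_le h.le
  haveI := finite_mulAut E
  obtain ⟨g, hgN, hgE, hin⟩ := exists_step h hcard
  obtain ⟨A, c, l', a, τ, hD, hAfix⟩ := exists_data h hgN hgE (Or.inl hin)
  obtain ⟨N, hNdef⟩ : ∃ N, N = normalizerIn S E := ⟨_, rfl⟩
  have hcN : Nat.card N = p ^ 4 := hNdef ▸ hD.cardN
  have hfixA : ∀ k ∈ N, ∀ x ∈ A, k * x = x * k := hNdef ▸ hD.fixA
  have hdisp : ∀ k ∈ N, ∀ x ∈ E, k * x * k⁻¹ * x⁻¹ ∈ c := hNdef ▸ hD.disp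
  rw [← hNdef]
  have hgN' : g ∈ N := hNdef ▸ hgN
  have hEN : E ≤ N := hNdef ▸ le_normalizerIn h.le
  have hNS : N ≤ S := hNdef ▸ inf_le_left
  have hAN : A ≤ N := hD.le.trans hEN
  haveI := finite_of_le hNS
  letI : CommGroup E :=
    { (inferInstance : Group E) with mul_comm := fun a b => Subtype.ext (h.comm a a.2 b b.2) }
  have hVp : IsPGroup p E := h.pgroup.to_le h.le
  -- the transvection
  obtain ⟨t, ht⟩ : ∃ t, t = conjAut E hgN.2 := ⟨_, rfl⟩
  have htv : ∀ x : E, (t x : Ω) = g * x * g⁻¹ := fun x => by rw [ht, conjAut_apply]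
  obtain ⟨AV, hAV⟩ : ∃ AV, AV = A.subgroupOf E := ⟨_, rfl⟩
  obtain ⟨cV, hcV⟩ : ∃ cV, cV = c.subgroupOf E := ⟨_, rfl⟩
  have memA : ∀ x : E, x ∈ AV ↔ (x : Ω) ∈ A := fun x => by rw [hAV, Subgroup.mem_subgroupOf]
  have memc : ∀ x : E, x ∈ cV ↔ (x : Ω) ∈ c := fun x => by rw [hcV, Subgroup.mem_subgroupOf]
  have htr : TransvectionCube.Tr p t cV AV := by
    refine ⟨fun x hx => (memA x).2 (hD.cle ((memc x).1 hx)), ?_, ?_, fun x => ⟨fun e => ?_,
      fun hx => Subtype.ext ?_⟩, fun x => ?_⟩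
    · rw [hcV, Nat.card_congr (Subgroup.subgroupOfEquivOfLe (hD.cle.trans hD.le)).toEquiv, hD.cardc]
    · have h1 := AV.card_mul_index
      rw [show Nat.card AV = p ^ 2 by
        rw [hAV, Nat.card_congr (Subgroup.subgroupOfEquivOfLe hD.le).toEquiv, hD.cardA], h.card,
        pow_succ p 2] at h1
      exact Nat.eq_of_mul_eq_mul_left (pow_pos hp.out.pos 2) h1
    · refine (memA x).2 (hAfix _ x.2 (mul_inv_eq_iff_eq_mul.1 ?_))
      rw [← htv, e]
    · rw [htv, hfixA g hgN' _ ((memA x).1 hx), mul_inv_cancel_right]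
    · rw [memc, mul_comm, Subgroup.coe_mul, htv, Subgroup.coe_inv]
      exact hdisp g hgN' x x.2
  have htG : t ∈ F.autGroup E :=
    ht ▸ autInducedBy_le_autGroup h.le (conjAut_mem_autInducedBy hgN.2 hgN.1)
  obtain ⟨H, g', hctx⟩ := TransvectionCube.exists_ctx hVp h.card _ h.exists_strong htr htG
  obtain ⟨v, w, l, b, hbG, hvc, hv1, hwA, hlA, hlc, htv', htw, hbw, hbv, htl, hbl, hspan, hP, hL,
    hmove⟩ := hctx.exists_plane
  have hexp : ∀ x : E, x ^ p = 1 := fun x => Subtype.ext (by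
    rw [Subgroup.coe_pow, h.exp _ x.2, Subgroup.coe_one])
  have hw1 : w ≠ 1 := fun e => hwA (e ▸ AV.one_mem)
  have hcw : Nat.card (Subgroup.zpowers w) = p := by
    rw [Nat.card_zpowers, orderOf_eq_prime (hexp w) hw1]
  have hAspan : ∀ x ∈ AV, ∃ i k : ℤ, x = v ^ i * l ^ k := by
    intro x hx
    obtain ⟨i, j, k, rfl⟩ := hspan x
    have hj : w ^ j = 1 := by
      by_contra hne
      refine hwA ((Subgroup.zpowers_le.2 ?_) ((TransvectionCube.zpowers_eq hcw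
        (Subgroup.zpow_mem_zpowers w j) hne).ge (Subgroup.mem_zpowers w)))
      have := AV.mul_mem (AV.mul_mem (AV.inv_mem (AV.zpow_mem (htr.le hvc) i)) hx)
        (AV.inv_mem (AV.zpow_mem hlA k))
      rwa [mul_assoc (v ^ i) (w ^ j) (l ^ k), inv_mul_cancel_left, mul_inv_cancel_right] at this
    exact ⟨i, k, by rw [hj, mul_one]⟩
  -- extending to the normalizer
  have hext : ∀ γ ∈ F.autGroup E, (∀ x ∈ AV, γ x ∈ AV) →
      ∃ α ∈ F.autGroup N, ∀ x : E, (α ⟨x, hEN x.2⟩ : Ω) = γ x := by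
    intro γ hγ hγA
    obtain ⟨L, hL'⟩ : ∃ L : ℕ → Subgroup E,
        L = fun i => if i = 0 then ⊥ else if i = 1 then AV else ⊤ := ⟨_, rfl⟩
    have hnorm := normalises_of_series h.pgroup h.sat h.ess.2.1 L 2 (by rw [hL']; simp)
      (by rw [hL']; simp) (fun i hi => by interval_cases i <;> simp [hL']) hγ
      (fun i hi x hx => by
        interval_cases i
        · simp only [hL', if_true, Subgroup.mem_bot] at hx ⊢
          rw [hx, map_one]
        · simp only [hL', one_ne_zero, if_false, if_true] at hx ⊢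
          exact hγA x hx
        · simp [hL'])
      fun k hk i hi x hx hkx => by
        interval_cases i
        · simp only [hL', zero_add, one_ne_zero, if_false, if_true, Subgroup.mem_bot] at hx ⊢
          refine inv_mul_eq_one.2 (Subtype.ext ?_)
          show (x : Ω) = k * (x : Ω) * k⁻¹
          rw [hfixA k (hNdef ▸ hk) _ ((memA x).1 hx), mul_inv_cancel_right]
        · simp only [hL', one_ne_zero, if_false, if_true]
          rw [memA, mul_comm, Subgroup.coe_mul, Subgroup.coe_inv]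
          exact hD.cle (hdisp k (hNdef ▸ hk) x x.2)
    obtain ⟨f, hf, hfv⟩ := exists_extend h.pgroup h.sat h.ess.2.1 hγ hnorm
    rw [← hNdef] at hf
    obtain ⟨α, hα, hαv⟩ := exists_mem_autGroup hf
    exact ⟨α, hα, fun x => (hαv _).trans (hfv x)⟩
  -- commutators of the normalizer
  obtain ⟨EN, hENdef⟩ : ∃ EN, EN = E.subgroupOf N := ⟨_, rfl⟩
  have hENidx : EN.index = p := by
    have h1 := EN.card_mul_index
    rw [hENdef, Nat.card_congr (Subgroup.subgroupOfEquivOfLe hEN).toEquiv, h.card, hcN,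
      pow_succ p 3] at h1
    rw [hENdef]
    exact Nat.eq_of_mul_eq_mul_left (pow_pos hp.out.pos 3) h1
  have hgen : ∀ K : Subgroup N, EN ≤ K → (⟨g, hgN'⟩ : N) ∈ K → K = ⊤ := by
    intro K hle hg
    rcases (Nat.dvd_prime hp.out).1 (hENidx ▸ Subgroup.index_dvd_of_le hle) with e | e
    · exact Subgroup.index_eq_one.1 e
    · exfalso
      have h2 := Subgroup.relIndex_mul_index hle
      rw [e, hENidx] at h2
      have := Subgroup.relIndex_eq_one.1 (Nat.eq_of_mul_eq_mul_right hp.out.pos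
        (h2.trans (one_mul p).symm)) hg
      rw [hENdef, Subgroup.mem_subgroupOf] at this
      exact hgE this
  have hcomm : ∀ k ∈ N, ∀ k' ∈ N, k * k' * k⁻¹ * k'⁻¹ ∈ c := by
    obtain ⟨cN, hcNdef⟩ : ∃ cN, cN = c.subgroupOf N := ⟨_, rfl⟩
    haveI : cN.Normal := hcNdef ▸ ⟨fun x hx k => by
      rw [Subgroup.mem_subgroupOf] at hx ⊢
      rw [Subgroup.coe_mul, Subgroup.coe_mul, Subgroup.coe_inv, hfixA k k.2 _ (hD.cle hx),
        mul_inv_cancel_right]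
      exact hx⟩
    obtain ⟨q, hq⟩ : ∃ q, q = QuotientGroup.mk' cN := ⟨_, rfl⟩
    have hq' : ∀ k k' : N,
        q k * q k' = q k' * q k ↔ (k : Ω) * k' * (k : Ω)⁻¹ * (k' : Ω)⁻¹ ∈ c := fun k k' => by
      rw [← commutatorElement_eq_one_iff_mul_comm, ← map_commutatorElement, hq,
        QuotientGroup.mk'_apply, QuotientGroup.eq_one_iff, hcNdef, Subgroup.mem_subgroupOf]
      rfl
    have h1 : ∀ k : N, ∀ x ∈ EN, q k * q x = q x * q k := fun k x hx => by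
      rw [hENdef, Subgroup.mem_subgroupOf] at hx
      exact (hq' k x).2 (hdisp k k.2 x hx)
    have hcent : ∀ k : N, q k * q ⟨g, hgN'⟩ = q ⟨g, hgN'⟩ * q k := fun k => by
      have := hgen ((Subgroup.centralizer {q ⟨g, hgN'⟩}).comap q)
        (fun x hx => Subgroup.mem_centralizer_singleton_iff.2 (h1 _ x hx).symm)
        (Subgroup.mem_centralizer_singleton_iff.2 rfl)
      exact Subgroup.mem_centralizer_singleton_iff.1 (this.ge (Subgroup.mem_top k))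
    intro k hk k' hk'
    refine (hq' ⟨k, hk⟩ ⟨k', hk'⟩).1 ?_
    have := hgen ((Subgroup.centralizer {q ⟨k, hk⟩}).comap q)
      (fun x hx => Subgroup.mem_centralizer_singleton_iff.2 (h1 _ x hx).symm)
      (Subgroup.mem_centralizer_singleton_iff.2 (hcent _).symm)
    exact (Subgroup.mem_centralizer_singleton_iff.1 (this.ge (Subgroup.mem_top _))).symm
  -- the normalizer is normal, with centre `A`
  have hNS' : Nat.card (N.subgroupOf S) = p ^ 4 := by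
    rw [Nat.card_congr (Subgroup.subgroupOfEquivOfLe hNS).toEquiv, hcN]
  haveI hNn : (N.subgroupOf S).Normal := Subgroup.normal_of_index_eq_minFac_card (by
    have h1 := (N.subgroupOf S).card_mul_index
    rw [hNS', hcard, pow_succ p 4] at h1
    rw [Nat.eq_of_mul_eq_mul_left (pow_pos hp.out.pos 4) h1, hcard,
      Nat.Prime.pow_minFac hp.out (by norm_num)])
  have hconjN : ∀ s ∈ S, ∀ k ∈ N, s * k * s⁻¹ ∈ N := fun s hs k hk =>
    hNn.conj_mem ⟨k, hNS hk⟩ hk ⟨s, hs⟩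
  have hconjA : ∀ s ∈ S, ∀ x ∈ A, s * x * s⁻¹ ∈ A := by
    intro s hs x hx
    have hc : ∀ k ∈ N, k * (s * x * s⁻¹) = (s * x * s⁻¹) * k := fun k hk => by
      have e := hfixA _ (hconjN s⁻¹ (S.inv_mem hs) k hk) x hx
      rw [inv_inv] at e
      calc k * (s * x * s⁻¹) = s * (s⁻¹ * k * s * x) * s⁻¹ := by group
        _ = s * (x * (s⁻¹ * k * s)) * s⁻¹ := by rw [e]
        _ = s * x * s⁻¹ * k := by group
    have hE' := h.mem_of_commute (hNS (hconjN s hs x (hAN hx))) fun y hy => (hc y (hEN hy)).symm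
    exact hAfix _ hE' (hc g hgN')
  have hvΩ : (v : Ω) = (w : Ω)⁻¹ * g * w * g⁻¹ := by
    have e : v = w⁻¹ * t w := by rw [htw, inv_mul_cancel_left]
    rw [e, Subgroup.coe_mul, htv, Subgroup.coe_inv]
    group
  have hvp : ∀ x ∈ c, ∃ i : ℤ, x = (v : Ω) ^ i := by
    intro x hx
    haveI : Finite c := Nat.finite_of_card_ne_zero (hD.cardc ▸ hp.out.ne_zero)
    obtain ⟨i, hi⟩ := Subgroup.mem_zpowers_iff.1 (mem_zpowers_of_prime_card hD.cardc
      (g := (⟨v, (memc v).1 hvc⟩ : c)) (g' := (⟨x, hx⟩ : c)) fun e =>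
        hv1 (Subtype.ext (by simpa using congrArg Subtype.val e)))
    exact ⟨i, by simpa using (congrArg Subtype.val hi).symm⟩
  have hconjc : ∀ s ∈ S, ∀ x ∈ c, s * x * s⁻¹ ∈ c := by
    intro s hs x hx
    obtain ⟨i, rfl⟩ := hvp x hx
    rw [← MulAut.conj_apply, map_zpow]
    refine c.zpow_mem ?_ i
    have := hcomm _ (hconjN s hs _ (hEN (E.inv_mem w.2))) _ (hconjN s hs _ hgN')
    rw [MulAut.conj_apply, hvΩ]
    convert this using 1
    group
  obtain ⟨s, hs⟩ : ∃ s : S, (s : Ω) ∉ N := by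
    by_contra hcon
    push Not at hcon
    have hle : S ≤ N := fun x hx => hcon ⟨x, hx⟩
    rw [le_antisymm hNS hle, hcard] at hcN
    have := Nat.pow_right_injective hp.out.two_le hcN
    omega
  obtain ⟨y, hy⟩ : ∃ y : S, (y : Ω) = w := ⟨⟨w, h.le w.2⟩, rfl⟩
  have hmoved : ⁅s, y⁆ ∉ A.subgroupOf S := by
    intro hA
    rw [Subgroup.mem_subgroupOf, commutatorElement_def, Subgroup.coe_mul, Subgroup.coe_mul,
      Subgroup.coe_mul, Subgroup.coe_inv, Subgroup.coe_inv, hy] at hA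
    refine hs (hNdef.symm ▸ ⟨s.2, mem_normalizer_of_conj_mem h.le fun x hx => ?_⟩)
    obtain ⟨i, j, k, e⟩ := hspan ⟨x, hx⟩
    have e' : x = (v : Ω) ^ i * (w : Ω) ^ j * (l : Ω) ^ k := by
      simpa using congrArg Subtype.val e
    have h1 : ∀ z ∈ A, (s : Ω) * z * (s : Ω)⁻¹ ∈ E := fun z hz => hD.le (hconjA s s.2 z hz)
    have h2 : (s : Ω) * (w : Ω) * (s : Ω)⁻¹ ∈ E := by
      have := E.mul_mem (hD.le hA) w.2
      simpa [mul_assoc] using this
    rw [e', ← MulAut.conj_apply, map_mul, map_mul, map_zpow, map_zpow, map_zpow]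
    exact E.mul_mem (E.mul_mem (E.zpow_mem (h1 _ (hD.cle ((memc v).1 hvc))) i)
      (E.zpow_mem h2 j)) (E.zpow_mem (h1 _ ((memA l).1 hlA)) k)
  have hcA : Nat.card (A.subgroupOf S) = p ^ 2 := by
    rw [Nat.card_congr (Subgroup.subgroupOfEquivOfLe (hD.le.trans h.le)).toEquiv, hD.cardA]
  have hcC : Nat.card (c.subgroupOf S) = p := by
    rw [Nat.card_congr (Subgroup.subgroupOfEquivOfLe
      ((hD.cle.trans hD.le).trans h.le)).toEquiv, hD.cardc]
  have h4 : Four F p N (A.subgroupOf S) (c.subgroupOf S) s y := by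
    refine ⟨h.pgroup, h.sat, hp2, hNS, ⟨hcard, hNS', hcA, hcC, hNn,
      ⟨fun x hx k => hconjA k k.2 x hx⟩, ⟨fun x hx k => hconjc k k.2 x hx⟩,
      fun x hx => hAN hx, fun x hx => hD.cle hx,
      fun x hx m hm => Subtype.ext (hfixA m hm x hx).symm,
      fun m hm m' hm' => hcomm m hm m' hm', hs, (show (y : Ω) ∈ N from hy.symm ▸ hEN w.2), hmoved, fun hab => ?_,
      fun K hK => noAb_of hno K hK⟩⟩
    refine hwA ((htr.fix w).1 (Subtype.ext ?_))
    have := congrArg Subtype.val (hab (⟨g, hgN.1⟩ : S) hgN' y ((show (y : Ω) ∈ N from hy.symm ▸ hEN w.2)))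
    simp only [Subgroup.coe_mul, hy] at this
    rw [htv, this, mul_inv_cancel_right]
  refine ⟨_, _, s, y, h4, ?_⟩
  obtain ⟨jE, hjE⟩ : ∃ jE : E →* N, jE = Subgroup.inclusion hEN := ⟨_, rfl⟩
  have hjv : ∀ x : E, ((jE x : N) : Ω) = x := fun x => by rw [hjE]; rfl
  have hιv : ∀ m : N, ((h4.ι m : S) : Ω) = m := fun m => rfl
  have hext' : ∀ γ ∈ F.autGroup E, (∀ x ∈ AV, γ x ∈ AV) →
      ∃ α ∈ F.autGroup N, ∀ x : E, α (jE x) = jE (γ x) := fun γ hγ hγA => by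
    obtain ⟨α, hα, hv⟩ := hext γ hγ hγA
    refine ⟨α, hα, fun x => Subtype.ext ?_⟩
    rw [hjv, ← hv x, hjE]
    rfl
  have hmA : ∀ m : N, h4.ι m ∈ A.subgroupOf S → ∃ x ∈ AV, m = jE x := fun m hm => by
    rw [Subgroup.mem_subgroupOf, hιv] at hm
    exact ⟨⟨m, hD.le hm⟩, (memA _).2 hm, Subtype.ext (hjv (⟨m, hD.le hm⟩ : E)).symm⟩
  have hjw : ∀ m : N, h4.ι m = y → m = jE w := fun m hm =>
    Subtype.ext (by rw [hjv, ← hy, ← hιv m, hm])
  have hιw : h4.ι (jE w) = y := Subtype.ext (by rw [hιv, hjv, hy])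
  have hdiag : ∀ (γ : MulAut E), γ l = l → (∃ n : ℤ, γ v = v ^ n) → (∀ x ∈ AV, γ x ∈ AV) ∧
      ∀ x ∈ AV, x⁻¹ * γ x ∈ cV := by
    rintro γ hl ⟨n, hn⟩
    have key : ∀ x ∈ AV, x⁻¹ * γ x ∈ cV := by
      intro x hx
      obtain ⟨i, k, rfl⟩ := hAspan x hx
      rw [map_mul, map_zpow, map_zpow, hl, hn, mul_inv, mul_mul_mul_comm,
        inv_mul_cancel, mul_one]
      exact cV.mul_mem (cV.inv_mem (cV.zpow_mem hvc i)) (cV.zpow_mem (cV.zpow_mem hvc n) i)
    exact ⟨fun x hx => by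
      have := AV.mul_mem hx (htr.le (key x hx))
      rwa [mul_inv_cancel_left] at this, key⟩
  have hpull : ∀ (γ : MulAut E) (α : MulAut N), (∀ x : E, α (jE x) = jE (γ x)) →
      (∀ x ∈ AV, x⁻¹ * γ x ∈ cV) → ∀ m, h4.ι m ∈ A.subgroupOf S →
        (h4.ι m)⁻¹ * h4.ι (α m) ∈ c.subgroupOf S := by
    intro γ α hαv hγ m hm
    obtain ⟨x, hx, rfl⟩ := hmA m hm
    rw [hαv, ← map_inv, ← map_mul, ← map_inv, ← map_mul, Subgroup.mem_subgroupOf, hιv, hjv,
      ← memc]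
    exact hγ x hx
  obtain ⟨r, hrG, -, -, hrv, hrw, hrf⟩ := exists_inverting (Commute.all v w) htv' htw hbw hbv
    htG hbG
  have hrl : (r * r) l = l := by rw [MulAut.mul_apply, hrf l htl hbl, hrf l htl hbl]
  obtain ⟨hrA, hrc⟩ := hdiag (r * r) hrl ⟨-1, by rw [hrv, zpow_neg_one]⟩
  obtain ⟨ρ, hρ, hρv⟩ := hext' _ (mul_mem hrG hrG) hrA
  refine ⟨⟨ρ, hρ, hpull _ ρ hρv hrc, fun m hm => ?_, fun m hm => ?_⟩, ?_, ?_⟩
  · rw [hjw m hm, hρv, hrw, map_inv, map_inv, hιw]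
  · rw [Subgroup.mem_subgroupOf, hιv] at hm
    obtain ⟨i, hi⟩ := hvp _ hm
    have e : m = jE (v ^ i) := Subtype.ext (by rw [hjv, Subgroup.coe_zpow, hi])
    rw [e, hρv, hρv, map_zpow, map_zpow, hrv, map_inv, hrv, inv_inv]
  · obtain ⟨d, hdG, k, hk, hdv, hdw, hdf⟩ := exists_torus (hp.out.odd_of_ne_two hp2)
      (Commute.all v w) (hexp v) (hexp w) htv' htw hbw hbv htG hbG
    obtain ⟨hdA, hdc⟩ := hdiag d (hdf l htl hbl) ⟨2, hdv⟩
    obtain ⟨δ, hδ, hδv⟩ := hext' d hdG hdA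
    exact ⟨δ, hδ, k, hk, hpull d δ hδv hdc, fun m hm => by
      rw [hjw m hm, hδv, hdw, map_zpow, map_zpow, hιw]⟩
  -- functionals
  intro χ hχ γ hγ x hx hy'
  obtain ⟨ψ, hψ⟩ : ∃ ψ : E →* Multiplicative (ZMod p), ψ = χ.comp (h4.ι.comp jE) := ⟨_, rfl⟩
  have hψv : ∀ (u : E) (hu : (u : Ω) ∈ S), ψ u = χ ⟨u, hu⟩ := fun u hu => by
    rw [hψ]
    exact congrArg χ (Subtype.ext (by rw [hιv, hjv]) : h4.ι (jE u) = ⟨u, hu⟩)
  rw [← hψv, ← hψv]
  have hv0 : ψ v = 1 := by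
    rw [hψv v (h.le v.2)]
    obtain ⟨i, hi⟩ := (h4.mem_C_iff ⟨v, h.le v.2⟩).1 (show _ ∈ c.subgroupOf S from (memc v).1 hvc)
    rw [hi, map_zpow, map_commutator_eq_one, one_zpow]
  have hinv : ∀ (ν : MulAut E) (α : MulAut N), α ∈ F.autGroup N →
      (∀ u : E, α (jE u) = jE (ν u)) → ∀ u, ψ (ν u) = ψ u := fun ν α hα hv u => by
    rw [hψ]
    show χ (h4.ι (jE (ν u))) = χ (h4.ι (jE u))
    rw [← hv]
    exact hχ α hα _
  have hw0 : ψ w = 1 := by
    have e := hinv _ ρ hρ hρv w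
    rw [hrw, map_inv] at e
    generalize ψ w = u at e ⊢
    have hu2 : u * u = 1 := by
      calc u * u = u⁻¹ * u := by rw [e]
        _ = 1 := inv_mul_cancel u
    have hup : u ^ p = 1 := by
      have := pow_card_eq_one' (x := u)
      rwa [Nat.card_congr Multiplicative.toAdd, Nat.card_zmod] at this
    obtain ⟨j, hj⟩ := hp.out.odd_of_ne_two hp2
    replace hup : u ^ (2 * j + 1) = 1 := (congrArg (u ^ ·) hj).symm.trans hup
    rwa [pow_succ, pow_mul, pow_two, hu2, one_pow, one_mul] at hup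
  have hP0 : Subgroup.zpowers v ⊔ Subgroup.zpowers w ≤ ψ.ker :=
    sup_le (Subgroup.zpowers_le.2 hv0) (Subgroup.zpowers_le.2 hw0)
  have hl0 : ψ (γ l) = ψ l := by
    obtain ⟨n, hn⟩ := Subgroup.mem_zpowers_iff.1 (hL γ hγ)
    obtain ⟨β, hβ, hβl, -, hβc⟩ := hmove γ hγ
    have hνc : cV.map (β * γ).toMonoidHom = cV := by
      conv_rhs => rw [← hβc, Subgroup.map_map]
      rfl
    have hνA := (hctx.eq_of_le (mul_mem hβ hγ) (hνc.le.trans htr.le)).2
    obtain ⟨α, hα, hαv⟩ := hext' _ (mul_mem hβ hγ) fun u hu => hνA.le ⟨u, hu, rfl⟩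
    have := hinv _ α hα hαv l
    rwa [MulAut.mul_apply, ← hn, map_zpow, hβl, hn] at this
  obtain ⟨i, j, k, rfl⟩ := hspan x
  simp only [map_mul, map_zpow, hl0, MonoidHom.mem_ker.1 (hP0 (hP γ hγ).1),
    MonoidHom.mem_ker.1 (hP0 (hP γ hγ).2), hv0, hw0, one_zpow, one_mul]

/-- An essential cube forces `p = 3` and type `T`, and preserves invariant functionals. -/
theorem cube_facts {E : Subgroup Ω} (h : Cube F p E) (hp2 : p ≠ 2)
    (hcard : Nat.card S = p ^ 5)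
    (hno : ∀ K : Subgroup Ω, K ≤ S → IsMulCommutative K → (K.subgroupOf S).index ≠ p) :
    (p = 3 ∧ ∃ (M : Subgroup S) (A C : Subgroup S) (s y l : S), TypeT p M A C s y l) ∧
      ∀ χ : S →* Multiplicative (ZMod p), (∀ σ ∈ F.autGroup S, ∀ x, χ (σ x) = χ x) →
        ∀ γ ∈ F.autGroup E, ∀ (x : E) (hx : (x : Ω) ∈ S) (hy : (γ x : Ω) ∈ S),
          χ ⟨γ x, hy⟩ = χ ⟨x, hx⟩ := by
  obtain ⟨A, C, s, y, h4, ⟨ρ, hρ, hρA, hρy, hρC⟩, ⟨δ, hδ, k, hk, hδA, hδy⟩, hχ⟩ :=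
    exists_cube_setup h hp2 hcard hno
  have hleft : (∀ α ∈ F.autGroup (normalizerIn S E), ∃ σ ∈ F.autGroup S,
      ∀ m, σ (h4.ι m) = h4.ι (α m)) →
      p = 3 ∧ ∃ (M : Subgroup S) (A C : Subgroup S) (s y l : S), TypeT p M A C s y l := by
    intro hall
    obtain ⟨σ, -, hσ⟩ := hall ρ hρ
    obtain ⟨σ', -, hσ'⟩ := hall δ hδ
    obtain ⟨m, hm⟩ := h4.exists_ι h4.quad.memy
    obtain ⟨s', l, hT, -, -⟩ := h4.exists_typeT σ
      (fun a ha => by
        obtain ⟨m, rfl⟩ := h4.exists_ι (h4.quad.le ha)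
        rw [hσ]; exact h4.aut_mem_A _ ha)
      (by rw [← hm, hσ, hρy m hm, hm, mul_inv_cancel]; exact A.one_mem)
      (fun a ha => by
        obtain ⟨m, rfl⟩ := h4.exists_ι (h4.quad.le ha)
        rw [hσ]; exact hρA m ha)
      fun c hc => by
        obtain ⟨m, rfl⟩ := h4.exists_ι (h4.quad.le (h4.quad.cle hc))
        rw [hσ, hσ, hρC m hc]
    refine ⟨?_, _, A, C, s', y, l, hT⟩
    obtain ⟨ml, hml⟩ := h4.exists_ι (h4.quad.le hT.meml)
    obtain ⟨-, n, j, c, hc, hn, hl⟩ := hT.scalar σ' (b := 1) (one_mem _)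
      (show σ' y = s' ^ (0 : ℤ) * y ^ k * 1 by
        rw [zpow_zero, one_mul, mul_one, ← hδy m hm, ← hσ', hm])
    have hl1 : l⁻¹ * σ' l ∈ C := by
      rw [← hml, hσ']
      exact hδA ml (by rw [hml]; exact hT.meml)
    rw [hT.scalar_one hc hl hl1] at hn
    exact eq_three_of_scalar hk hn.symm
  have hfacts : p = 3 ∧ ∃ (M : Subgroup S) (A C : Subgroup S) (s y l : S),
      TypeT p M A C s y l := by
    rcases h4.extend_or_inversion with hall | ⟨y', h', ξ, hξX, hξ, -⟩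
    · exact hleft hall
    · rcases h4.eq_three_or_extend with hp3 | hall
      · obtain ⟨⟨s', l, hT, -⟩, -⟩ := h'.typeT_of_inversion (ξ := ξ) hξX hξ
        exact ⟨hp3, _, A, C, s', y', l, hT⟩
      · exact hleft hall
  exact ⟨hfacts, fun χ hinv => hχ χ (h4.chi_invariant hfacts.1 χ hinv)⟩

end CfsgLib.OrderPFive
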