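import Mathlib
import Cfsg.Agent.Lib.Fusion.OrderPFive.Algebra
import Cfsg.Agent.Lib.MaxClassLayers.Signs

/-!
Automorphisms of a group of order `p ^ 5` of maximal class without an abelian subgroup of index `p`.
-/

set_option autoImplicit false
set_option linter.style.haveILetI false
set_option linter.unusedSectionVars false

open scoped commutatorElement

namespace CfsgLib.OrderPFive.MaxFive

open CfsgLib.UniserialPower (Γ gamma_commutator)
open CfsgLib.MaxClassLayers

universe u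

variable {p : ℕ} [hp : Fact p.Prime] {X : Type u} [Group X] [Finite X]

theorem gamma_three_central (h : MC X p 5) {u : X} (hu : u ∈ Γ X 3) (v : X) : Commute u v := by
  refine commutatorElement_eq_one_iff_mul_comm.1 ?_
  have := gamma_commutator (k := v) hu
  rwa [gamma_eq_bot h (show 5 - 1 ≤ 3 + 1 by omega), Subgroup.mem_bot] at this

theorem twoStep_two (hp2 : p ≠ 2) (h : MC X p 5) : twoStep X 2 = twoStep X 1 := by
  have := (twoStep_eq hp2 5 X h le_rfl).2 (by decide)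
  simpa using this

/-- The second layer centralizes the first two-step centralizer. -/
theorem gamma_two_comm (hp2 : p ≠ 2) (h : MC X p 5) {g s : X} (hg : g ∈ Γ X 2)
    (hs : s ∈ twoStep X 1) : Commute g s := by
  refine commutatorElement_eq_one_iff_mul_comm.1 ?_
  rw [← twoStep_two hp2 h] at hs
  have := hs g hg
  rwa [gamma_eq_bot h (show 5 - 1 ≤ 2 + 2 by omega), Subgroup.mem_bot] at this

theorem card_twoStep (h : MC X p 5) : Nat.card (twoStep X 1) = p ^ 4 := by
  have h1 := (twoStep X 1).card_mul_index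
  rw [twoStep_index h le_rfl (by omega), h.card, pow_succ p 4] at h1
  exact Nat.eq_of_mul_eq_mul_right hp.out.pos h1

/-- The first layer is abelian. -/
theorem gamma_one_comm (hp2 : p ≠ 2) (h : MC X p 5) {a b : X} (ha : a ∈ Γ X 1)
    (hb : b ∈ Γ X 1) : Commute a b := by
  obtain ⟨d, hd, hd'⟩ := exists_level h le_rfl (show 1 + 1 ≤ 5 - 1 by omega)
  have hgen := layer_gen h le_rfl hd hd'
  have hone : ∀ {c}, c ∈ Γ X 1 → Commute d c := fun {c} hc => by
    obtain ⟨w, hw, v, hv, rfl⟩ := Subgroup.mem_sup_of_normal_right.1 (hgen hc)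
    obtain ⟨i, rfl⟩ := Subgroup.mem_zpowers_iff.1 hw
    exact ((Commute.refl d).zpow_right i).mul_right
      (gamma_two_comm hp2 h hv (gamma_one_le_twoStep 1 hd)).symm
  obtain ⟨w, hw, v, hv, rfl⟩ := Subgroup.mem_sup_of_normal_right.1 (hgen ha)
  obtain ⟨i, rfl⟩ := Subgroup.mem_zpowers_iff.1 hw
  exact ((hone hb).zpow_left i).mul_left (gamma_two_comm hp2 h hv (gamma_one_le_twoStep 1 hb))

theorem relIndex_gamma_one (h : MC X p 5) : (Γ X 1).relIndex (twoStep X 1) = p := by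
  have h1 := Subgroup.relIndex_mul_relIndex ⊥ (Γ X 1) (twoStep X 1) bot_le (gamma_one_le_twoStep 1)
  rw [Subgroup.relIndex_bot_left, Subgroup.relIndex_bot_left, card_gamma h le_rfl (by omega),
    card_twoStep h, show 5 - 1 - 1 = 3 from rfl, pow_succ p 3] at h1
  exact Nat.eq_of_mul_eq_mul_left (pow_pos hp.out.pos 3) h1

theorem dvd_of_zpow_mem (h : MC X p 5) {t : X} (ht : t ∈ twoStep X 1) (ht' : t ∉ Γ X 1) {i : ℤ}
    (hi : t ^ i ∈ Γ X 1) : (i : ZMod p) = 0 := by
  rw [ZMod.intCast_zmod_eq_zero_iff_dvd]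
  have h2 : orderOf (QuotientGroup.mk' (Γ X 1) t) = p := by
    refine ((Nat.dvd_prime hp.out).1 (orderOf_dvd_of_pow_eq_one ?_)).resolve_left fun e => ht'
      ((QuotientGroup.eq_one_iff t).1 (orderOf_eq_one_iff.1 e))
    rw [← map_pow]
    refine (QuotientGroup.eq_one_iff _).2 ?_
    have h3 := Subgroup.pow_index_mem ((Γ X 1).subgroupOf (twoStep X 1)) ⟨t, ht⟩
    rw [show ((Γ X 1).subgroupOf (twoStep X 1)).index = p from relIndex_gamma_one h] at h3
    exact h3
  rw [← h2, orderOf_dvd_iff_zpow_eq_one, ← map_zpow]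
  exact (QuotientGroup.eq_one_iff _).2 hi

/-- The scalars of an automorphism are powers of the one on the top. -/
theorem weights (hp2 : p ≠ 2) (h : MC X p 5)
    (hna : ¬ ∀ a ∈ twoStep X 1, ∀ b ∈ twoStep X 1, a * b = b * a) (σ : MulAut X) :
    ∃ q : ℤ, (q : ZMod p) ≠ 0 ∧
      (∀ s, s ∉ twoStep X 1 → ∀ a : ℤ, (s ^ a)⁻¹ * σ s ∈ twoStep X 1 →
        (a : ZMod p) = q) ∧
      (∀ t ∈ twoStep X 1, t ∉ Γ X 1 → ∀ a : ℤ, (t ^ a)⁻¹ * σ t ∈ Γ X 1 →
        (a : ZMod p) = (q : ZMod p) ^ 2) ∧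
      (∀ t ∈ twoStep X 1, (t ^ (q * q))⁻¹ * σ t ∈ Γ X 1) ∧
      ∀ u ∈ Γ X 3, σ u = u ^ (q ^ 5) := by
  haveI := twoStep_normal h (le_refl 1) (show 1 + 3 ≤ 5 by omega)
  have hidx := twoStep_index h (le_refl 1) (show 1 + 3 ≤ 5 by omega)
  obtain ⟨q, hq⟩ := exists_scalar σ (twoStep X 1) hidx fun s hs => twoStep_apply σ hs
  obtain ⟨e, y, he, he', hy, hgen⟩ := exists_pair h (show 4 ≤ 5 by omega)
  obtain ⟨ρ, hρ⟩ : ∃ ρ : ℤ, (e ^ ρ)⁻¹ * σ e ∈ Γ X 1 := by
    obtain ⟨w, hw, v, hv, hwv⟩ :=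
      Subgroup.mem_sup_of_normal_right.1 (hgen (twoStep_apply σ he))
    obtain ⟨ρ, rfl⟩ := Subgroup.mem_zpowers_iff.1 hw
    exact ⟨ρ, by rw [← hwv, inv_mul_cancel_left]; exact hv⟩
  have hu : ⁅e, y⁆ ∉ Γ X 2 := fun hu => hy (by rw [← commutatorElement_inv]; exact inv_mem hu)
  have h1 : Acts σ 1 (ρ * q) := by
    refine acts_succ h σ (k := 0) (Subgroup.mem_top e) hu ?_ ?_
    · exact gamma_commutator hρ
    · exact gamma_anti (by omega) (comm_first h (show 4 ≤ 5 by omega)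
        (Subgroup.commutator_mem_commutator (zpow_mem he ρ) (hq y)))
  have h3 : Acts σ 3 (ρ * q * q * q) :=
    acts_step h (show 1 ≤ 2 by omega) (by omega) (acts_step h le_rfl (by omega) h1 hq)
      (by rw [twoStep_two hp2 h]; exact hq)
  have hσ3 : ∀ u ∈ Γ X 3, σ u = u ^ (ρ * q * q * q) := fun u hu => by
    have := h3 u hu
    rw [gamma_eq_bot h (show 5 - 1 ≤ 3 + 1 by omega), Subgroup.mem_bot, inv_mul_eq_one] at this
    exact this.symm
  -- the commutator of `e` with the first layer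
  obtain ⟨d, hd, hd'⟩ := exists_level h le_rfl (show 1 + 1 ≤ 5 - 1 by omega)
  have hdT := gamma_one_le_twoStep (X := X) 1 hd
  obtain ⟨z, hz⟩ : ∃ z, z = ⁅d, e⁆ := ⟨_, rfl⟩
  have hz3 : z ∈ Γ X 3 :=
    hz ▸ comm_first h (show 4 ≤ 5 by omega) (Subgroup.commutator_mem_commutator hdT he)
  have hz1 : z ≠ 1 := by
    intro hz1
    have hde : Commute d e := commutatorElement_eq_one_iff_mul_comm.1 (hz ▸ hz1)
    refine hna ?_
    have hK : twoStep X 1 ≤ Subgroup.centralizer {e} := by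
      refine hgen.trans (sup_le (Subgroup.zpowers_le.2
        (Subgroup.mem_centralizer_singleton_iff.2 rfl)) ?_)
      refine (layer_gen h le_rfl hd hd').trans (sup_le (Subgroup.zpowers_le.2
        (Subgroup.mem_centralizer_singleton_iff.2 hde.eq)) fun g hg =>
          Subgroup.mem_centralizer_singleton_iff.2 (gamma_two_comm hp2 h hg he).eq)
    intro a ha b hb
    have hK' : twoStep X 1 ≤ Subgroup.centralizer {a} := by
      refine hgen.trans (sup_le (Subgroup.zpowers_le.2 (Subgroup.mem_centralizer_singleton_iff.2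
        (Subgroup.mem_centralizer_singleton_iff.1 (hK ha)).symm)) fun g hg => ?_)
      obtain ⟨w, hw, v, hv, rfl⟩ := Subgroup.mem_sup_of_normal_right.1 (hgen ha)
      obtain ⟨i, rfl⟩ := Subgroup.mem_zpowers_iff.1 hw
      have hge : Commute g e :=
        Subgroup.mem_centralizer_singleton_iff.1 (hK (gamma_one_le_twoStep 1 hg))
      exact Subgroup.mem_centralizer_singleton_iff.2
        ((hge.zpow_right i).mul_right (gamma_one_comm hp2 h hg hv)).eq
    exact (Subgroup.mem_centralizer_singleton_iff.1 (hK' hb)).symm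
  have hzo : orderOf z = p := by
    refine orderOf_eq_prime ?_ hz1
    have := pow_card_eq_one' (x := (⟨z, hz3⟩ : Γ X 3))
    rw [card_gamma h (by omega) (by omega), show 5 - 1 - 3 = 1 from rfl, pow_one] at this
    exact congrArg Subtype.val this
  have hσz : σ z = z ^ (ρ * q * ρ) := by
    obtain ⟨c, hc, ec⟩ : ∃ c ∈ Γ X 2, σ d = d ^ (ρ * q) * c :=
      ⟨_, h1 d hd, (mul_inv_cancel_left _ _).symm⟩
    obtain ⟨w, hw, c', hc', ew⟩ :=
      Subgroup.mem_sup_of_normal_right.1 (layer_gen h le_rfl hd hd' hρ)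
    obtain ⟨i, rfl⟩ := Subgroup.mem_zpowers_iff.1 hw
    have ee : σ e = e ^ ρ * d ^ i * c' := by rw [mul_assoc, ew, mul_inv_cancel_left]
    have hcT : c' ∈ twoStep X 1 := gamma_one_le_twoStep 1 (gamma_anti (by omega) hc')
    have hσeT : e ^ ρ * d ^ i * c' ∈ twoStep X 1 :=
      mul_mem (mul_mem (zpow_mem he ρ) (zpow_mem hdT i)) hcT
    have hzc : ∀ v, Commute z v := gamma_three_central h hz3
    rw [hz, map_commutatorElement, ec, ee,
      comm_mul_cancel_right (gamma_two_comm hp2 h hc hσeT),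
      comm_mul_cancel_right' (gamma_two_comm hp2 h hc' (zpow_mem hdT _)).symm,
      comm_mul_cancel_right' ((Commute.refl d).zpow_zpow _ i),
      comm_zpow_zpow (hz ▸ hzc d) (hz ▸ hzc e)]
  have hρq : (ρ : ZMod p) * q * ρ ≠ 0 := fun h0 => hz1 (σ.injective (by
    have hdvd : (orderOf z : ℤ) ∣ ρ * q * ρ := by
      rw [hzo, ← ZMod.intCast_zmod_eq_zero_iff_dvd]
      push_cast
      exact h0
    rw [hσz, orderOf_dvd_iff_zpow_eq_one.1 hdvd, map_one]))
  have hq0 : (q : ZMod p) ≠ 0 := fun e => hρq (by rw [e, mul_zero, zero_mul])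
  have hρ0 : (ρ : ZMod p) ≠ 0 := fun e => hρq (by rw [e, mul_zero])
  have hρ2 : (ρ : ZMod p) = (q : ZMod p) ^ 2 := by
    have e2 := zpow_eq_zpow_zmod hzo (hσz.symm.trans (hσ3 z hz3))
    push_cast at e2
    refine mul_left_cancel₀ (mul_ne_zero hρ0 hq0) ?_
    rw [e2]; ring
  have hT : ∀ t ∈ twoStep X 1, (t ^ ρ)⁻¹ * σ t ∈ Γ X 1 := by
    intro t ht
    obtain ⟨w, hw, v, hv, rfl⟩ := Subgroup.mem_sup_of_normal_right.1 (hgen ht)
    obtain ⟨i, rfl⟩ := Subgroup.mem_zpowers_iff.1 hw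
    refine QuotientGroup.eq.1 ?_
    show QuotientGroup.mk' (Γ X 1) _ = QuotientGroup.mk' (Γ X 1) _
    have hee : QuotientGroup.mk' (Γ X 1) (σ e) = QuotientGroup.mk' (Γ X 1) e ^ ρ := by
      rw [← map_zpow]; exact (QuotientGroup.eq.2 hρ).symm
    have hv1 : QuotientGroup.mk' (Γ X 1) v = 1 := (QuotientGroup.eq_one_iff _).2 hv
    have hv2 : QuotientGroup.mk' (Γ X 1) (σ v) = 1 :=
      (QuotientGroup.eq_one_iff _).2 (gamma_apply σ hv)
    rw [map_zpow, map_mul, map_mul σ, map_mul (QuotientGroup.mk' (Γ X 1)), hv1, hv2, mul_one,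
      mul_one, map_zpow, map_zpow σ, map_zpow, hee, ← zpow_mul, ← zpow_mul, mul_comm]
  refine ⟨q, hq0, fun s hs a ha => scalar_unique hidx hs ha (hq s), fun t ht ht' a ha => ?_,
    fun t ht => ?_, fun u hu => ?_⟩
  · have h4 : t ^ (a - ρ) ∈ Γ X 1 := by
      have := mul_mem (hT t ht) (inv_mem ha)
      rw [mul_inv_rev, inv_inv, mul_assoc, mul_inv_cancel_left, ← zpow_neg, ← zpow_add] at this
      rwa [neg_add_eq_sub] at this
    have := dvd_of_zpow_mem h ht ht' h4
    push_cast at this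
    rw [← hρ2]
    exact sub_eq_zero.1 this
  · have h4 : t ^ (q * q - ρ) ∈ Γ X 1 := by
      by_cases ht' : t ∈ Γ X 1
      · exact zpow_mem ht' _
      obtain ⟨j, hj⟩ := (ZMod.intCast_zmod_eq_zero_iff_dvd (q * q - ρ) p).1 (by
        push_cast; rw [hρ2, pow_two, sub_self])
      rw [hj, zpow_mul]
      refine zpow_mem ?_ j
      rw [zpow_natCast]
      have h3 := Subgroup.pow_index_mem ((Γ X 1).subgroupOf (twoStep X 1)) ⟨t, ht⟩
      rw [show ((Γ X 1).subgroupOf (twoStep X 1)).index = p from relIndex_gamma_one h] at h3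
      exact h3
    rw [show t ^ (q * q) = t ^ ρ * t ^ (q * q - ρ) by rw [← zpow_add, add_sub_cancel],
      mul_inv_rev, mul_assoc]
    exact mul_mem (inv_mem h4) (hT t ht)
  · rw [hσ3 u hu, zpow_eq_zpow_iff_modEq]
    refine Int.ModEq.of_dvd ?_ ((ZMod.intCast_eq_intCast_iff _ _ p).1 (by
      push_cast; rw [hρ2]; ring))
    have hu' := Subgroup.orderOf_dvd_natCard (Γ X 3) hu
    rw [card_gamma h (by omega) (by omega), show 5 - 1 - 3 = 1 from rfl, pow_one] at hu'
    exact_mod_cast hu'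

/-- A functional killing the commutator subgroup and moving some element of the first two-step
centralizer. -/
theorem exists_functional (h : MC X p 5) :
    ∃ (χ : X →* Multiplicative (ZMod p)) (e : X), e ∈ twoStep X 1 ∧ e ∉ Γ X 1 ∧ χ e ≠ 1 ∧
      ∀ g ∈ Γ X 1, χ g = 1 := by
  obtain ⟨e, y, he, he', hy, -⟩ := exists_pair h (show 4 ≤ 5 by omega)
  obtain ⟨H, hH⟩ : ∃ H, H = Subgroup.zpowers y ⊔ Γ X 1 := ⟨_, rfl⟩
  have hy1 : y ∉ Γ X 1 := fun h1 => hy (gamma_commutator h1)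
  have heH : e ∉ H := fun h1 => by
    rw [hH] at h1
    obtain ⟨w, hw, g, hg, rfl⟩ := Subgroup.mem_sup_of_normal_right.1 h1
    obtain ⟨i, rfl⟩ := Subgroup.mem_zpowers_iff.1 hw
    refine hy ?_
    rw [show ⁅y, y ^ i * g⁆ = y ^ i * ⁅y, g⁆ * (y ^ i)⁻¹ by
      simp only [commutatorElement_def]; group]
    refine (inferInstance : (Γ X 2).Normal).conj_mem _ ?_ _
    rw [← commutatorElement_inv]
    exact inv_mem (gamma_commutator hg)
  haveI : H.Normal := ⟨fun u hu g => by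
    rw [show g * u * g⁻¹ = ⁅g, u⁆ * u by rw [commutatorElement_def]; group]
    exact mul_mem (hH ▸ Subgroup.mem_sup_right
      (gamma_comm (i := 0) (j := 0) (Subgroup.mem_top g) (Subgroup.mem_top u))) hu⟩
  have hle : Γ X 1 ≤ H := hH ▸ le_sup_right
  have hidx : H.index = p := by
    have h1 := Subgroup.relIndex_mul_index hle
    have h2 : (Γ X 1).index = p ^ 2 := by
      have h3 := (Γ X 1).card_mul_index
      rw [card_gamma h le_rfl (by omega), h.card, show 5 - 1 - 1 = 3 from rfl,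
        show p ^ 5 = p ^ 3 * p ^ 2 by ring] at h3
      exact Nat.eq_of_mul_eq_mul_left (pow_pos hp.out.pos 3) h3
    rw [h2] at h1
    obtain ⟨k, hk, ek⟩ := (Nat.dvd_prime_pow hp.out).1 (Dvd.intro_left _ h1)
    rcases (show k = 0 ∨ k = 1 ∨ k = 2 by omega) with rfl | rfl | rfl
    · exact absurd ((Subgroup.index_eq_one.1 (by rw [ek, pow_zero])).ge (Subgroup.mem_top e)) heH
    · rw [ek, pow_one]
    · rw [ek] at h1
      refine absurd (Subgroup.relIndex_eq_one.1 ((mul_eq_right₀ (pow_pos hp.out.pos 2).ne').1 h1)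
        ?_) hy1
      rw [hH]
      exact Subgroup.mem_sup_left (Subgroup.mem_zpowers y)
  have hc : Nat.card (X ⧸ H) = p := by rw [← Subgroup.index_eq_card, hidx]
  let φ : X ⧸ H ≃* Multiplicative (ZMod p) := mulEquivOfPrimeCardEq hc (by
    rw [Nat.card_congr Multiplicative.toAdd, Nat.card_zmod])
  refine ⟨φ.toMonoidHom.comp (QuotientGroup.mk' H), e, he, he', fun h1 => heH ?_, fun g hg => ?_⟩
  · exact (QuotientGroup.eq_one_iff e).1 (φ.injective (h1.trans (map_one φ).symm))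
  · show φ (QuotientGroup.mk' H g) = 1
    rw [show QuotientGroup.mk' H g = 1 from (QuotientGroup.eq_one_iff g).2 (hle hg), map_one]

end CfsgLib.OrderPFive.MaxFive
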