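import Mathlib
import Cfsg.Agent.Lib.Fusion.OrderPFive.Extend
import Cfsg.Agent.Lib.Fusion.OrderPFive.FourMain
import Cfsg.Agent.Lib.Fusion.OrderPFive.MaxWeights
import Cfsg.Agent.Lib.Fusion.EssentialShapes
import Cfsg.Agent.Lib.Fusion.RankTwoInversion
import Cfsg.Agent.Lib.Fusion.Pearls

/-!
Pearls in a fusion system on a group of order `p ^ 5` of maximal class without an abelian subgroup of
index `p`.
-/

set_option autoImplicit false
set_option linter.style.haveILetI false
set_option linter.unusedSectionVars false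

namespace CfsgLib.OrderPFive

open Cfsg Cfsg.FusionSystem CfsgLib.Fusion
open scoped commutatorElement
open CfsgLib.UniserialPower (Γ gamma_commutator)
open CfsgLib.MaxClassLayers

universe u

variable {Ω : Type u} [Group Ω] {S : Subgroup Ω} [Finite S] {F : FusionSystem S} {p : ℕ}
  [hp : Fact p.Prime]

/-- An automorphism of a normal subgroup of order `p ^ 4` with centre of order `p` extends. -/
theorem extend_normal (hS : IsPGroup p S) (hF : F.IsSaturated p) {P : Subgroup Ω}
    (hle : P ≤ S) (hN : normalizerIn S P = S) (hcard : Nat.card P = p ^ 4)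
    (hz : Nat.card (Subgroup.center P) = p) {α : MulAut P} (hα : α ∈ F.autGroup P) :
    ∃ σ ∈ F.autGroup S, ∀ (x : S) (hx : (x : Ω) ∈ P), (σ x : Ω) = α ⟨x, hx⟩ := by
  classical
  haveI := finite_of_le hle
  haveI := finite_mulAut P
  have hfn : F.IsFullyNormalized P := ⟨hle, fun Q _ => by
    rw [hN]; exact Subgroup.card_le_of_le inf_le_left⟩
  obtain ⟨n, L, h0, hn, hc, hs⟩ := EssentialShapes.flag_of_small_center hcard hz
  obtain ⟨L', hL'⟩ : ∃ L' : ℕ → Subgroup P,
      L' = fun i => if i = 0 then ⊥ else if i ≤ n then ⨆ j ∈ Finset.range (i + 1), L j else ⊤ :=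
    ⟨_, rfl⟩
  have hmonoL : ∀ i ≤ n, ∀ j ≤ i, L j ≤ L' i := by
    intro i hi j hj
    rcases Nat.eq_zero_or_pos i with rfl | hi0
    · rw [Nat.le_zero.1 hj, h0]; exact bot_le
    rw [hL']
    simp only [hi0.ne', hi, if_false, if_true]
    exact le_iSup₂ (f := fun j (_ : j ∈ Finset.range (i + 1)) => L j) j
      (Finset.mem_range.2 (by omega))
  have hchar' : ∀ i ≤ n, ∀ φ : MulAut P, ∀ x ∈ L' i, φ x ∈ L' i := by
    intro i hi φ x hx
    rcases Nat.eq_zero_or_pos i with rfl | hi0
    · rw [hL'] at hx ⊢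
      simp only [if_true, Subgroup.mem_bot] at hx ⊢
      rw [hx, map_one]
    have e : L' i = ⨆ j ∈ Finset.range (i + 1), L j := by
      rw [hL']; simp only [hi0.ne', hi, if_false, if_true]
    have h1 : (L' i).map φ.toMonoidHom ≤ L' i := by
      rw [e, Subgroup.map_iSup]
      refine iSup_le fun j => ?_
      rw [Subgroup.map_iSup]
      refine iSup_le fun hj => ?_
      exact ((Subgroup.characteristic_iff_map_le.1 (hc j) φ)).trans
        (le_iSup₂ (f := fun j (_ : j ∈ Finset.range (i + 1)) => L j) j hj)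
    exact h1 ⟨x, hx, rfl⟩
  obtain ⟨σ, hσ, hv⟩ := exists_extend_top hS hF hfn hN hα (normalises_of_series hS hF hfn L' n
    (by rw [hL']; simp) (top_le_iff.1 (hn ▸ hmonoL n le_rfl n le_rfl))
    (fun i hi => by
      rcases Nat.eq_zero_or_pos i with rfl | hi0
      · rw [hL']; simp
      rw [hL']
      simp only [hi0.ne', hi.le, Nat.succ_ne_zero, Nat.succ_le_of_lt hi, if_false, if_true]
      exact biSup_mono fun j hj => Finset.mem_range.2
        (Nat.lt_succ_of_lt (Finset.mem_range.1 hj)))
    hα (fun i hi x hx => hchar' i hi α x hx)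
    fun g hg i hi x hx hgx => by
      obtain ⟨c, hcdef⟩ : ∃ c, c = conjAut P hg.2 := ⟨_, rfl⟩
      obtain ⟨k, hk⟩ := (isPGroup_autInducedBy hS P)
        ⟨c, hcdef ▸ conjAut_mem_autInducedBy hg.2 hg.1⟩
      have hck : c ^ p ^ k = 1 := congrArg Subtype.val hk
      have hval : (⟨g * (x : Ω) * g⁻¹, hgx⟩ : P) = c x := Subtype.ext (by
        rw [hcdef, conjAut_apply])
      rw [hval]
      haveI : (L' i).Normal := ⟨fun y hy u => hchar' i hi.le (MulAut.conj u) y hy⟩
      have hs' : EssentialFlag.SmallStep p (L' i) (L' (i + 1)) := by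
        obtain ⟨z, hz, hzp, hgen⟩ := hs i hi
        refine ⟨z, hmonoL (i + 1) hi (i + 1) le_rfl hz, hmonoL i hi.le i le_rfl hzp, ?_⟩
        have e : L' (i + 1) = ⨆ j ∈ Finset.range (i + 1 + 1), L j := by
          rw [hL']; simp only [Nat.succ_ne_zero, Nat.succ_le_of_lt hi, if_false, if_true]
        rw [e]
        refine iSup₂_le fun j hj => ?_
        rcases (show j ≤ i ∨ j = i + 1 by have := Finset.mem_range.1 hj; omega) with hji | rfl
        · exact (hmonoL i hi.le j hji).trans le_sup_left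
        · exact hgen.trans (sup_le_sup_right (hmonoL i hi.le i le_rfl) _)
      exact EssentialFlag.step_stabilised hs' (hchar' i hi.le c) (hchar' (i + 1) hi c) hck x hx)
  exact ⟨σ, hσ, hv⟩

end CfsgLib.OrderPFive
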