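import Mathlib
import Cfsg.Agent.Lib.Fusion.OrderPFive.CaseMax

/-!
Pearls force `p = 3` and preserve every invariant functional.
-/

set_option autoImplicit false
set_option linter.style.haveILetI false
set_option linter.unusedSectionVars false

namespace CfsgLib.OrderPFive

open Cfsg Cfsg.FusionSystem CfsgLib.Fusion
open scoped commutatorElement
open CfsgLib.UniserialPower (Γ gamma_commutator)
open CfsgLib.MaxClassLayers

universe u

variable {Ω : Type u} [Group Ω] {S : Subgroup Ω} [Finite S] {F : FusionSystem S} {p : ℕ}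
  [hp : Fact p.Prime]

theorem conj_mem_pCore_of_inner (hS : IsPGroup p S) {X : Subgroup Ω} (hle : X ≤ S) {g : Ω}
    (hgX : g ∈ X) (hn : g ∈ Subgroup.normalizer (X : Set Ω)) (hG : conjAut X hn ∈ F.autGroup X) :
    (⟨conjAut X hn, hG⟩ : F.autGroup X) ∈ Cfsg.pCore p (F.autGroup X) := by
  haveI := finite_of_le hle
  haveI := finite_mulAut X
  refine CfsgLib.Fitting.le_pCore (inn_subgroupOf_normal F X)
    ((inn_eq_autInducedBy X ▸ isPGroup_autInducedBy (hS.to_le hle) X :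
      IsPGroup p (Cfsg.Inn X)).of_equiv
      (Subgroup.subgroupOfEquivOfLe (inn_le_autGroup hle)).symm) ?_
  exact (mem_inn_iff _).2 ⟨g, hgX, fun x => conjAut_apply X hn x⟩

/-- The centre of a self-centralizing subgroup of order `p ^ 3`. -/
theorem center_three (hM : MC S p 5) (hp2 : p ≠ 2) {X : Subgroup Ω} (hle : X ≤ S)
    (hX3 : Nat.card X = p ^ 3) (hna : ¬ ∀ a b : X, a * b = b * a)
    (hcent : ∀ g ∈ S, (∀ x ∈ X, g * x = x * g) → g ∈ X) :
    Nat.card (Subgroup.center X) = p ∧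
      (∀ x : X, x ∈ Subgroup.center X ↔ Subgroup.inclusion hle x ∈ Γ S 3) ∧
      ¬ X.subgroupOf S ≤ Γ S 1 := by
  haveI := finite_of_le hle
  obtain ⟨i, hi1, hi3, hi, -⟩ := EssentialShapes.center_bound (p := p) hna hX3
  obtain rfl : i = 1 := by omega
  rw [pow_one] at hi
  obtain ⟨ι, hι⟩ : ∃ ι, ι = Subgroup.inclusion hle := ⟨_, rfl⟩
  have hιi : Function.Injective ι := hι ▸ Subgroup.inclusion_injective hle
  rw [← hι]
  have h3X : ∀ u ∈ Γ S 3, ∃ x : X, x ∈ Subgroup.center X ∧ ι x = u := by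
    intro u hu
    have hc := MaxFive.gamma_three_central hM hu
    have huX := hcent u u.2 fun x hx => congrArg Subtype.val (hc ⟨x, hle hx⟩).eq
    refine ⟨⟨u, huX⟩, Subgroup.mem_center_iff.2 fun v => Subtype.ext ?_,
      Subtype.ext (by rw [hι]; rfl)⟩
    exact (congrArg Subtype.val (hc ⟨v, hle v.2⟩).eq).symm
  have heq : Γ S 3 = (Subgroup.center X).map ι := by
    refine Subgroup.eq_of_le_of_card_ge (fun u hu => ?_) (le_of_eq ?_)
    · obtain ⟨x, hx, rfl⟩ := h3X u hu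
      exact ⟨x, hx, rfl⟩
    · rw [Subgroup.card_map_of_injective hιi, hi, card_gamma hM (by omega) (by omega),
        show 5 - 1 - 3 = 1 from rfl, pow_one]
  refine ⟨hi, fun x => ⟨fun hx => heq.ge ⟨x, hx, rfl⟩, fun hx => ?_⟩, fun hle1 => hna ?_⟩
  · obtain ⟨y, hy, e⟩ := heq.le hx
    exact hιi e ▸ hy
  · intro a b
    have ha : ι a ∈ Γ S 1 := hle1 (by rw [hι]; exact a.2)
    have hb : ι b ∈ Γ S 1 := hle1 (by rw [hι]; exact b.2)
    exact hιi (by rw [map_mul, map_mul]; exact (MaxFive.gamma_one_comm hp2 hM ha hb).eq)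

/-- An automorphism normalizing `Aut_S(X)` extends to `S`. -/
theorem extend_three (hS : IsPGroup p S) (hF : F.IsSaturated p) (hM : MC S p 5) (hp2 : p ≠ 2)
    {X : Subgroup Ω} (hfn : F.IsFullyNormalized X) (hX3 : Nat.card X = p ^ 3)
    (hna : ¬ ∀ a b : X, a * b = b * a) (hcent : ∀ g ∈ S, (∀ x ∈ X, g * x = x * g) → g ∈ X)
    {α : MulAut X} (hα : α ∈ F.autGroup X)
    (hn : ∀ γ ∈ autInducedBy S X, α * γ * α⁻¹ ∈ autInducedBy S X) :
    ∃ σ ∈ F.autGroup S, ∀ (x : X) (s : S), (s : Ω) = x → (σ s : Ω) = α x := by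
  have hle := hfn.1
  haveI := finite_of_le hle
  obtain ⟨hZ, -, -⟩ := center_three hM hp2 hle hX3 hna hcent
  by_cases hN : normalizerIn S X = S
  · obtain ⟨σ, hσ, hv⟩ := exists_extend_top hS hF hfn hN hα hn
    refine ⟨σ, hσ, fun x s e => ?_⟩
    rw [hv s (e ▸ x.2), show (⟨(s : Ω), e ▸ x.2⟩ : X) = x from Subtype.ext e]
  obtain ⟨N, hNdef⟩ : ∃ N, N = normalizerIn S X := ⟨_, rfl⟩
  have hNS : N ≤ S := hNdef ▸ inf_le_left
  have hXN : X ≤ N := hNdef ▸ le_normalizerIn hle
  haveI := finite_of_le hNS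
  have hNcard : Nat.card N = p ^ 4 := by
    obtain ⟨k, hk⟩ := IsPGroup.iff_card.1 (hS.to_le hNS)
    have h1 : Nat.card X < Nat.card N := lt_of_le_of_ne (Subgroup.card_le_of_le hXN) fun e => by
      have hlt := lt_normalizerIn hS hle fun e' => by
        rw [e', hM.card] at hX3
        have := Nat.pow_right_injective hp.out.two_le hX3
        omega
      exact hlt.ne (hNdef ▸ Subgroup.eq_of_le_of_card_ge hXN e.ge)
    have h2 : Nat.card N < Nat.card S := lt_of_le_of_ne (Subgroup.card_le_of_le hNS) fun e =>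
      hN (hNdef ▸ Subgroup.eq_of_le_of_card_ge hNS e.ge)
    rw [hX3, hk] at h1
    rw [hk, hM.card] at h2
    have := (Nat.pow_lt_pow_iff_right hp.out.one_lt).1 h1
    have := (Nat.pow_lt_pow_iff_right hp.out.one_lt).1 h2
    rw [hk, show k = 4 by omega]
  have hNn : (N.subgroupOf S).Normal := Subgroup.normal_of_index_eq_minFac_card (by
    have h1 := (N.subgroupOf S).card_mul_index
    rw [Nat.card_congr (Subgroup.subgroupOfEquivOfLe hNS).toEquiv, hNcard, hM.card,
      pow_succ p 4] at h1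
    rw [Nat.eq_of_mul_eq_mul_left (pow_pos hp.out.pos 4) h1, hM.card,
      Nat.Prime.pow_minFac hp.out (by norm_num)])
  have hNN : normalizerIn S N = S := le_antisymm inf_le_left fun g hg =>
    ⟨hg, mem_normalizer_of_conj_mem hNS fun x hx =>
      hNn.conj_mem ⟨x, hNS hx⟩ hx ⟨g, hg⟩⟩
  obtain ⟨f, hf, hfv⟩ := exists_extend hS hF hfn hα hn
  rw [← hNdef] at hf
  obtain ⟨α', hα', hαv⟩ := exists_mem_autGroup hf
  have hZN : Nat.card (Subgroup.center N) = p := by
    have hna' : ¬ ∀ a b : N, a * b = b * a := fun h => hna fun a b =>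
      Subtype.ext (congrArg Subtype.val (h ⟨a, hXN a.2⟩ ⟨b, hXN b.2⟩) : _)
    obtain ⟨i, hi1, -, hi, -⟩ := EssentialShapes.center_bound (p := p) hna' hNcard
    have h1 : (Subgroup.center N).map N.subtype ≤ (Subgroup.center X).map X.subtype := by
      rintro _ ⟨z, hz, rfl⟩
      have hc : ∀ x ∈ X, (z : Ω) * x = x * z := fun x hx =>
        congrArg Subtype.val (Subgroup.mem_center_iff.1 hz ⟨x, hXN hx⟩).symm
      exact ⟨⟨z, hcent z (hNS z.2) hc⟩, Subgroup.mem_center_iff.2 fun x =>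
        Subtype.ext (hc x x.2).symm, rfl⟩
    haveI : Finite ((Subgroup.center X).map X.subtype : Subgroup Ω) :=
      finite_of_le ((Subgroup.map_subtype_le _).trans hle)
    have h2 := Subgroup.card_le_of_le h1
    rw [Subgroup.card_map_of_injective N.subtype_injective, hi,
      Subgroup.card_map_of_injective X.subtype_injective, hZ] at h2
    have h3 := (Nat.pow_le_pow_iff_right hp.out.one_lt (n := i) (m := 1)).1 (by rwa [pow_one])
    rw [hi, show i = 1 by omega, pow_one]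
  obtain ⟨σ, hσ, hv⟩ := extend_normal hS hF hNS hNN hNcard hZN hα'
  refine ⟨σ, hσ, fun x s e => ?_⟩
  rw [hv s (e ▸ hXN x.2), hαv, ← hfv x]
  exact congrArg f e

/-- Conjugations lie in the `p`-core: otherwise an inversion modulo the centre would extend. -/
theorem three_pCore (hS : IsPGroup p S) (hF : F.IsSaturated p) (hM : MC S p 5) (hp2 : p ≠ 2)
    (hT : ¬ ∀ a ∈ twoStep S 1, ∀ b ∈ twoStep S 1, a * b = b * a)
    {X : Subgroup Ω} (hfn : F.IsFullyNormalized X) (hX3 : Nat.card X = p ^ 3)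
    (hna : ¬ ∀ a b : X, a * b = b * a) (hcent : ∀ g ∈ S, (∀ x ∈ X, g * x = x * g) → g ∈ X)
    {g : Ω} (hg : g ∈ normalizerIn S X) (hG : conjAut X hg.2 ∈ F.autGroup X) :
    (⟨conjAut X hg.2, hG⟩ : F.autGroup X) ∈ Cfsg.pCore p (F.autGroup X) := by
  classical
  by_contra hcore
  have hle := hfn.1
  haveI := finite_of_le hle
  haveI := finite_mulAut X
  obtain ⟨hZ, hZ3, hX1⟩ := center_three hM hp2 hle hX3 hna hcent
  obtain ⟨ι, hι⟩ : ∃ ι, ι = Subgroup.inclusion hle := ⟨_, rfl⟩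
  rw [← hι] at hZ3
  have hc : ∀ α : MulAut X, (Subgroup.center X).map α.toMonoidHom = Subgroup.center X := fun α =>
    Subgroup.characteristic_iff_map_eq.1 inferInstance α
  obtain ⟨π, hπ⟩ : ∃ π : F.autGroup X →* MulAut (X ⧸ Subgroup.center X), ∀ α m,
      π α (QuotientGroup.mk m) = QuotientGroup.mk ((α : MulAut X) m) := by
    refine ⟨MonoidHom.mk' (fun α => QuotientGroup.congr _ _ (α : MulAut X) (hc _)) fun a b => ?_,
      fun α m => rfl⟩
    refine MulEquiv.ext fun q => ?_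
    obtain ⟨m, rfl⟩ := QuotientGroup.mk_surjective q
    rfl
  have hV : Nat.card (X ⧸ Subgroup.center X) = p ^ 2 := by
    have h1 := (Subgroup.center X).card_mul_index
    rw [hZ, hX3, pow_succ' p 2] at h1
    rw [← Subgroup.index_eq_card]
    exact Nat.eq_of_mul_eq_mul_left hp.out.pos h1
  have hcz : ∀ a b : X, ⁅a, b⁆ ∈ Subgroup.center X := fun a b => by
    rw [← QuotientGroup.eq_one_iff]
    show QuotientGroup.mk' _ _ = 1
    rw [map_commutatorElement, commutatorElement_eq_one_iff_mul_comm]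
    exact (IsPGroup.isMulCommutative_of_card_eq_prime_sq hV).is_comm.comm _ _
  obtain ⟨a, b, hab⟩ : ∃ a b : X, ⁅a, b⁆ ≠ 1 := by
    by_contra hcon
    push Not at hcon
    exact hna fun a b => commutatorElement_eq_one_iff_mul_comm.1 (hcon a b)
  have hZgen : ∀ z ∈ Subgroup.center X, ∃ i : ℤ, z = ⁅a, b⁆ ^ i := fun z hz => by
    obtain ⟨i, hi⟩ := Subgroup.mem_zpowers_iff.1 (mem_zpowers_of_prime_card hZ
      (g := (⟨_, hcz a b⟩ : Subgroup.center X)) (g' := (⟨z, hz⟩ : Subgroup.center X))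
      fun e => hab (congrArg Subtype.val e))
    exact ⟨i, (congrArg Subtype.val hi).symm⟩
  have hfix : ∀ (α : MulAut X) (i : ℤ), i * i = 1 →
      (∀ m, (m ^ i)⁻¹ * α m ∈ Subgroup.center X) → ∀ z ∈ Subgroup.center X, α z = z := by
    intro α i hi hα z hz
    obtain ⟨j, rfl⟩ := hZgen z hz
    have hcc : ∀ {u : X}, u ∈ Subgroup.center X → ∀ v, Commute u v := fun {u} hu v =>
      (Subgroup.mem_center_iff.1 hu v).symm
    rw [map_zpow, map_commutatorElement, ← mul_inv_cancel_left (a ^ i) (α a),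
      ← mul_inv_cancel_left (b ^ i) (α b), comm_mul_cancel_right (hcc (hα a) _),
      comm_mul_cancel_right' (hcc (hα b) _).symm,
      comm_zpow_zpow (hcc (hcz a b) a) (hcc (hcz a b) b), hi, zpow_one]
  have hker : IsPGroup p π.ker := by
    let L : ℕ → Subgroup X := fun i =>
      match i with
      | 0 => ⊥
      | 1 => Subgroup.center X
      | _ => ⊤
    have hK : IsPGroup p (π.ker.map (F.autGroup X).subtype) := by
      refine isPGroup_of_stabilizes_series (hS.to_le hle) L 2 rfl rfl _ ?_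
      rintro _ ⟨α, hα, rfl⟩ i hi x hx
      have h1 : ∀ m, m⁻¹ * (α : MulAut X) m ∈ Subgroup.center X := fun m => by
        rw [← QuotientGroup.eq, ← hπ, MonoidHom.mem_ker.1 hα]
        rfl
      interval_cases i
      · rw [show L 0 = ⊥ from rfl, Subgroup.mem_bot, Subgroup.coe_subtype,
          hfix _ 1 rfl (fun m => by rw [zpow_one]; exact h1 m) x hx, inv_mul_cancel]
      · exact h1 x
    exact hK.of_equiv
      (π.ker.equivMapOfInjective (F.autGroup X).subtype (F.autGroup X).subtype_injective).symm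
  obtain ⟨n, hn⟩ := (isPGroup_autInducedBy hS X) ⟨_, conjAut_mem_autInducedBy hg.2 hg.1⟩
  have han : π ⟨conjAut X hg.2, hG⟩ ^ p ^ n = 1 := by
    rw [← map_pow, show (⟨conjAut X hg.2, hG⟩ : F.autGroup X) ^ p ^ n = 1 from
      Subtype.ext (congrArg Subtype.val hn :), map_one]
  obtain ⟨ξ, hξ⟩ := exists_inversion π hker ⟨2, le_rfl, hV⟩ han hcore
  -- the inversion normalizes the induced automorphisms
  have hn' : ∀ γ ∈ autInducedBy S X,
      (ξ : MulAut X) * γ * (ξ : MulAut X)⁻¹ ∈ autInducedBy S X := by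
    intro γ hγ
    have hγG := autInducedBy_le_autGroup (F := F) hle hγ
    obtain ⟨δ, hδ⟩ : ∃ δ, δ = ξ * ⟨γ, hγG⟩ * ξ⁻¹ * (⟨γ, hγG⟩ : F.autGroup X)⁻¹ := ⟨_, rfl⟩
    have hδk : δ ∈ π.ker := by
      rw [MonoidHom.mem_ker, hδ]
      refine MulEquiv.ext fun q => ?_
      have hinv' : ∀ q, (π ξ)⁻¹ q = q⁻¹ := fun q => by
        refine (π ξ).injective ?_
        rw [MulAut.apply_inv_self, hξ, inv_inv]
      simp only [map_mul, map_inv, MulAut.mul_apply, hinv', hξ, MulAut.apply_inv_self, inv_inv,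
        MulAut.one_apply]
    have h1 := pCore_le_autInducedBy hS hF hfn (CfsgLib.Fitting.le_pCore inferInstance hker hδk)
    have h2 := mul_mem h1 hγ
    rw [hδ] at h2
    simpa using h2
  obtain ⟨σ, -, hσ⟩ := extend_three hS hF hM hp2 hfn hX3 hna hcent ξ.2 hn'
  have hξc : ∀ m, (m ^ (-1 : ℤ))⁻¹ * (ξ : MulAut X) m ∈ Subgroup.center X := fun m => by
    rw [← QuotientGroup.eq, QuotientGroup.mk_zpow, zpow_neg_one, ← hξ, hπ]
  have hσι : ∀ m : X, σ (ι m) = ι ((ξ : MulAut X) m) := fun m => Subtype.ext (by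
    rw [hσ m (ι m) (by rw [hι]; rfl), hι]; rfl)
  obtain ⟨q, -, hqT, hqG, -, hq3⟩ := MaxFive.weights hp2 hM hT σ
  -- the centre is fixed
  obtain ⟨z, hz, hz1⟩ : ∃ z ∈ Subgroup.center X, z ≠ 1 := ⟨_, hcz a b, hab⟩
  have hz3 := (hZ3 z).1 hz
  have hq5 : (q : ZMod p) ^ 5 = 1 := by
    have e : ι z ^ (q ^ 5) = ι z ^ (1 : ℤ) := by
      rw [zpow_one, ← hq3 _ hz3, hσι, hfix _ (-1) rfl hξc z hz]
    have ho : orderOf (ι z) = p := by
      refine orderOf_eq_prime ?_ fun e => hz1 ?_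
      · have := pow_card_eq_one' (x := (⟨z, hz⟩ : Subgroup.center X))
        rw [hZ] at this
        rw [← map_pow, show z ^ p = 1 from congrArg Subtype.val this, map_one]
      · rw [hι] at e
        exact Subgroup.inclusion_injective hle (e.trans (map_one _).symm)
    have := zpow_eq_zpow_zmod ho e
    push_cast at this
    exact this
  obtain ⟨e, he, he1⟩ := SetLike.not_le_iff_exists.1 hX1
  obtain ⟨m, rfl⟩ : ∃ m : X, ι m = e := ⟨⟨e, he⟩, Subtype.ext (by rw [hι]; rfl)⟩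
  have hmem : (ι m ^ (-1 : ℤ))⁻¹ * σ (ι m) ∈ Γ S 1 := by
    rw [hσι, ← map_zpow, ← map_inv, ← map_mul]
    exact gamma_anti (by omega) ((hZ3 _).1 (hξc m))
  refine one_ne_neg_one hp2 ?_
  by_cases heT : ι m ∈ twoStep S 1
  · have h1 := hqG _ heT he1 _ hmem
    push_cast at h1
    have h4 : (q : ZMod p) ^ 4 = 1 := by
      rw [show (q : ZMod p) ^ 4 = ((q : ZMod p) ^ 2) ^ 2 by ring, ← h1]; ring
    rw [pow_succ, h4, one_mul] at hq5
    rw [hq5, one_pow] at h1
    exact h1.symm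
  · have h1 := hqT _ heT _ (gamma_one_le_twoStep 1 hmem)
    push_cast at h1
    rw [← h1] at hq5
    linear_combination -hq5

/-- A nonabelian essential subgroup of order `p ^ 3` does not occur. -/
theorem false_of_pearl_three (hS : IsPGroup p S) (hF : F.IsSaturated p) (hM : MC S p 5)
    (hp2 : p ≠ 2) (hT : ¬ ∀ a ∈ twoStep S 1, ∀ b ∈ twoStep S 1, a * b = b * a)
    {E : Subgroup Ω} (hE : F.IsEssential p E) (hE3 : Nat.card E = p ^ 3)
    (hna : ¬ ∀ a b : E, a * b = b * a) : False := by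
  obtain ⟨g, hg, hgE⟩ :=
    SetLike.exists_of_lt (lt_normalizerIn hS hE.1.1 (ne_of_isEssential hS hF hE))
  have hcent : ∀ g ∈ S, (∀ x ∈ E, g * x = x * g) → g ∈ E := fun g hg hc =>
    hE.1.2 E (isConj_refl hE.1.1)
      (Subgroup.mem_inf.2 ⟨hg, Subgroup.mem_centralizer_iff.2 fun x hx => (hc x hx).symm⟩)
  have hG := autInducedBy_le_autGroup (F := F) hE.1.1 (conjAut_mem_autInducedBy hg.2 hg.1)
  haveI := finite_of_le hE.1.1
  haveI := finite_mulAut E
  exact hgE (mem_of_mem_pCore hE.1 (isRadical_of_isEssential hS hE) hg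
    (α := ⟨conjAut E hg.2, hG⟩) (conjAut_apply E hg.2)
    (three_pCore hS hF hM hp2 hT hE.2.1 hE3 hna hcent hg hG))

end CfsgLib.OrderPFive
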