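import Mathlib
import Cfsg.Agent.Lib.Fusion.OrderPFive.MaxPearls

/-!
An elementary abelian pearl forces `p = 3` (`p ≠ 7`) and preserves every invariant functional.
-/

set_option autoImplicit false
set_option linter.style.haveILetI false
set_option linter.unusedSectionVars false

namespace CfsgLib.OrderPFive

open Cfsg Cfsg.FusionSystem CfsgLib.Fusion
open scoped commutatorElement
open CfsgLib.UniserialPower (Γ gamma_commutator)
open CfsgLib.MaxClassLayers

universe u

variable {Ω : Type u} [Group Ω] {S : Subgroup Ω} [Finite S] {F : FusionSystem S} {p : ℕ}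
  [hp : Fact p.Prime]

/-- A normal subgroup of order `p ^ 3` is the first layer. -/
theorem eq_gamma_one (hM : MC S p 5) {K : Subgroup S} [K.Normal] (hK : Nat.card K = p ^ 3) :
    K = Γ S 1 := by
  have hidx : Nat.card (S ⧸ K) = p ^ 2 := by
    have h1 := K.card_mul_index
    rw [hK, hM.card, show p ^ 5 = p ^ 3 * p ^ 2 by ring] at h1
    rw [← Subgroup.index_eq_card]
    exact Nat.eq_of_mul_eq_mul_left (pow_pos hp.out.pos 3) h1
  refine (Subgroup.eq_of_le_of_card_ge ?_ ?_).symm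
  · show (⊤ : Subgroup S).lowerCentralSeries 1 ≤ _
    rw [Subgroup.top_lowerCentralSeries_one, commutator_def, Subgroup.commutator_le]
    intro a _ b _
    rw [← QuotientGroup.eq_one_iff, ← QuotientGroup.mk'_apply, map_commutatorElement,
      commutatorElement_eq_one_iff_mul_comm]
    exact (IsPGroup.isMulCommutative_of_card_eq_prime_sq hidx).is_comm.comm _ _
  · rw [hK, card_gamma hM le_rfl (by omega), show 5 - 1 - 1 = 3 from rfl]

theorem pearl_two_facts (hS : IsPGroup p S) (hF : F.IsSaturated p) (hM : MC S p 5) (hp2 : p ≠ 2)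
    (hp7 : p ≠ 7) (hT : ¬ ∀ a ∈ twoStep S 1, ∀ b ∈ twoStep S 1, a * b = b * a)
    {E : Subgroup Ω} (hE : F.IsEssential p E) (hE2 : Nat.card E = p ^ 2)
    (hexp : ∀ x : E, x ^ p = 1) :
    p = 3 ∧ ∀ χ : S →* Multiplicative (ZMod p), (∀ σ ∈ F.autGroup S, ∀ x, χ (σ x) = χ x) →
      ∀ γ ∈ F.autGroup E, ∀ (x : E) (hx : (x : Ω) ∈ S) (hy : (γ x : Ω) ∈ S),
        χ ⟨γ x, hy⟩ = χ ⟨x, hx⟩ := by
  classical
  have hle := hE.1.1
  haveI := finite_of_le hle
  haveI := finite_mulAut E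
  have hcentE : ∀ g ∈ S, (∀ x ∈ E, g * x = x * g) → g ∈ E := fun g hg hc =>
    hE.1.2 E (isConj_refl hle)
      (Subgroup.mem_inf.2 ⟨hg, Subgroup.mem_centralizer_iff.2 fun x hx => (hc x hx).symm⟩)
  have hVc : ∀ x y : E, x * y = y * x :=
    fun x y => (IsPGroup.isMulCommutative_of_card_eq_prime_sq hE2).is_comm.comm x y
  obtain ⟨ι, hιdef⟩ : ∃ ι, ι = Subgroup.inclusion hle := ⟨_, rfl⟩
  have hιv : ∀ x : E, ((ι x : S) : Ω) = x := fun x => by rw [hιdef]; rfl
  have hιi : Function.Injective ι := hιdef ▸ Subgroup.inclusion_injective hle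
  obtain ⟨g, hg, hgE⟩ :=
    SetLike.exists_of_lt (lt_normalizerIn hS hle (ne_of_isEssential hS hF hE))
  have hG := autInducedBy_le_autGroup (F := F) hle (conjAut_mem_autInducedBy hg.2 hg.1)
  obtain ⟨a, ha⟩ : ∃ a : F.autGroup E, a = ⟨conjAut E hg.2, hG⟩ := ⟨_, rfl⟩
  obtain ⟨n, hn⟩ := (isPGroup_autInducedBy hS E) ⟨_, conjAut_mem_autInducedBy hg.2 hg.1⟩
  have han : (F.autGroup E).subtype a ^ p ^ n = 1 := by
    rw [ha]; exact congrArg Subtype.val hn
  have hna : a ∉ Cfsg.pCore p (F.autGroup E) := fun hmem =>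
    hgE (mem_of_mem_pCore hE.1 (isRadical_of_isEssential hS hE) hg
      (α := ⟨conjAut E hg.2, hG⟩) (conjAut_apply E hg.2) (ha ▸ hmem))
  obtain ⟨v, w, b, hgen, hav, haw, hbw, hbv⟩ := exists_transvection_pair (F.autGroup E).subtype
    ((MonoidHom.ker_eq_bot_iff _).2 (F.autGroup E).subtype_injective ▸ IsPGroup.of_bot)
    ⟨2, le_rfl, hE2⟩ han hna
  rw [Subgroup.coe_subtype] at hav haw hbw hbv
  have ha1 : (a : MulAut E) ≠ 1 := fun e => hna (by
    rw [show a = 1 from Subtype.ext e]; exact one_mem _)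
  have hv1 : v ≠ 1 := fun e => ha1 (MulEquiv.ext fun q => DFunLike.congr_fun
    (hgen (a : MulAut E).toMonoidHom (MonoidHom.id E) hav
      (by show (a : MulAut E) w = w; rw [haw, e, mul_one])) q)
  have hord : ∀ x : E, x ≠ 1 → Nat.card (Subgroup.zpowers x) = p := fun x hx => by
    rw [Nat.card_zpowers, orderOf_eq_prime (hexp x) hx]
  have hzp : ∀ (K : Subgroup E) (x : E), x ≠ 1 → x ∈ K → Nat.card K = p →
      Subgroup.zpowers x = K := fun K x hx hxK hK =>
    Subgroup.eq_of_le_of_card_ge (Subgroup.zpowers_le.2 hxK) (by rw [hK, hord x hx])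
  -- the fixed line lies in the bottom layer
  obtain ⟨Fx, hFx⟩ : ∃ Fx, Fx = (a : MulAut E).toMonoidHom.eqLocus (MonoidHom.id E) := ⟨_, rfl⟩
  have hFmem : ∀ x, (a : MulAut E) x = x → x ∈ Fx := fun x hx => hFx ▸ hx
  have hFcard : Nat.card Fx = p := by
    obtain ⟨i, hi, hic⟩ :=
      (Nat.dvd_prime_pow hp.out).1 (hE2 ▸ Subgroup.card_subgroup_dvd_card Fx)
    rcases (show i = 0 ∨ i = 1 ∨ i = 2 by omega) with rfl | rfl | rfl
    · rw [pow_zero] at hic
      exact absurd (Subgroup.mem_bot.1 (Subgroup.card_eq_one.1 hic ▸ hFmem v hav)) hv1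
    · rw [hic, pow_one]
    · refine absurd (MulEquiv.ext fun q => ?_) ha1
      have htop : Fx = ⊤ := Subgroup.eq_top_of_card_eq Fx (by rw [hic, hE2])
      rw [hFx] at htop
      exact (htop.ge (Subgroup.mem_top q) : (a : MulAut E).toMonoidHom q = MonoidHom.id E q)
  obtain ⟨u₀, hu₀, hu₁⟩ : ∃ u ∈ Γ S 3, u ≠ 1 := by
    by_contra hcon
    push Not at hcon
    have h1 := (Subgroup.eq_bot_iff_forall _).2 hcon
    have h2 := card_gamma hM (show 1 ≤ 3 by omega) (show 3 + 1 ≤ 5 by omega)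
    rw [h1, Subgroup.card_bot, show 5 - 1 - 3 = 1 from rfl, pow_one] at h2
    exact hp.out.ne_one h2.symm
  obtain ⟨z, rfl⟩ : ∃ z : E, ι z = u₀ := ⟨⟨u₀, hcentE u₀ u₀.2 fun x hx => congrArg Subtype.val
    (MaxFive.gamma_three_central hM hu₀ ⟨x, hle hx⟩).eq⟩, Subtype.ext (hιv _)⟩
  have hz1 : z ≠ 1 := fun e => hu₁ (by rw [e, map_one])
  have haz : (a : MulAut E) z = z := by
    refine Subtype.ext ?_
    rw [ha]
    show (conjAut E hg.2 z : Ω) = z
    rw [conjAut_apply]
    have hc := congrArg Subtype.val (MaxFive.gamma_three_central hM hu₀ ⟨g, hg.1⟩).eq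
    simp only [Subgroup.coe_mul, hιv] at hc
    rw [← hc, mul_inv_cancel_right]
  have hv3 : ι v ∈ Γ S 3 := by
    have h1 : v ∈ Subgroup.zpowers z :=
      (hzp Fx z hz1 (hFmem z haz) hFcard).ge (hFmem v hav)
    obtain ⟨i, rfl⟩ := Subgroup.mem_zpowers_iff.1 h1
    rw [map_zpow]
    exact zpow_mem hu₀ i
  have hvc : ∀ s : S, Commute (ι v) s := MaxFive.gamma_three_central hM hv3
  have hwv : w ∉ Subgroup.zpowers v := fun hw => by
    obtain ⟨i, rfl⟩ := Subgroup.mem_zpowers_iff.1 hw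
    rw [map_zpow, hav, left_eq_mul] at haw
    exact hv1 haw
  have hspan : Subgroup.zpowers v ⊔ Subgroup.zpowers w = ⊤ := by
    obtain ⟨i, hi, hic⟩ := (Nat.dvd_prime_pow hp.out).1 (hE2 ▸
      Subgroup.card_subgroup_dvd_card (Subgroup.zpowers v ⊔ Subgroup.zpowers w))
    have h1 : Nat.card (Subgroup.zpowers v) <
        Nat.card (Subgroup.zpowers v ⊔ Subgroup.zpowers w : Subgroup E) :=
      lt_of_le_of_ne (Subgroup.card_le_of_le le_sup_left) fun e =>
        hwv ((Subgroup.eq_of_le_of_card_ge le_sup_left e.ge).ge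
          (Subgroup.mem_sup_right (Subgroup.mem_zpowers w)))
    rw [hord v hv1, hic] at h1
    have h2 := (Nat.pow_lt_pow_iff_right (n := 1) (m := i) hp.out.one_lt).1 (by rwa [pow_one])
    exact Subgroup.eq_top_of_card_eq _ (by rw [hic, hE2, show i = 2 by omega])
  have hcentw : ∀ s : S, Commute s (ι w) → (s : Ω) ∈ E := fun s hs => by
    refine hcentE s s.2 fun x hx => ?_
    have h1 : Subgroup.zpowers v ⊔ Subgroup.zpowers w ≤ (Subgroup.centralizer {s}).comap ι :=
      sup_le (Subgroup.zpowers_le.2 (Subgroup.mem_centralizer_singleton_iff.2 (hvc s).eq))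
        (Subgroup.zpowers_le.2 (Subgroup.mem_centralizer_singleton_iff.2 hs.symm.eq))
    have := congrArg Subtype.val
      (Subgroup.mem_centralizer_singleton_iff.1 (h1 (hspan.ge (Subgroup.mem_top (⟨x, hx⟩ : E)))))
    simp only [Subgroup.coe_mul, hιv] at this
    exact this.symm
  -- `w` is outside the first two-step centralizer
  have hwT : ι w ∉ twoStep S 1 := by
    intro hw
    have h1 : Γ S 2 ≤ E.subgroupOf S := fun s hs =>
      hcentw s (MaxFive.gamma_two_comm hp2 hM hs hw)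
    have h2 : Γ S 2 = E.subgroupOf S := Subgroup.eq_of_le_of_card_ge h1 (by
      rw [card_gamma hM (by omega) (by omega), Nat.card_congr
        (Subgroup.subgroupOfEquivOfLe hle).toEquiv, hE2, show 5 - 1 - 2 = 2 from rfl])
    have h3 : twoStep S 1 ≤ E.subgroupOf S := fun s hs =>
      hcentw s (MaxFive.gamma_two_comm hp2 hM (h2.ge (show (ι w : Ω) ∈ E by rw [hιv]; exact w.2))
        hs).symm
    have h4 := Subgroup.card_le_of_le h3
    rw [MaxFive.card_twoStep hM, Nat.card_congr (Subgroup.subgroupOfEquivOfLe hle).toEquiv,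
      hE2] at h4
    have := (Nat.pow_le_pow_iff_right hp.out.one_lt).1 h4
    omega
  -- the series `1 < ⟨v⟩ < E` is stabilized by the normalizer
  obtain ⟨L, hL⟩ : ∃ L : ℕ → Subgroup E,
      L = fun i => if i = 0 then ⊥ else if i = 1 then Subgroup.zpowers v else ⊤ := ⟨_, rfl⟩
  have hvnorm : (Subgroup.zpowers v).Normal := ⟨fun x hx y => by
    rw [hVc y x, mul_inv_cancel_right]; exact hx⟩
  have hstab : ∀ k ∈ normalizerIn S E, ∀ (x : E) (hkx : k * (x : Ω) * k⁻¹ ∈ E),
      x⁻¹ * (⟨k * (x : Ω) * k⁻¹, hkx⟩ : E) ∈ Subgroup.zpowers v := by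
    intro k hk x hkx
    obtain ⟨m, hm⟩ := (isPGroup_autInducedBy hS E) ⟨_, conjAut_mem_autInducedBy hk.2 hk.1⟩
    have hfix : conjAut E hk.2 v = v := Subtype.ext (by
      have := congrArg Subtype.val (hvc ⟨k, hk.1⟩).eq
      simp only [Subgroup.coe_mul, hιv] at this
      rw [conjAut_apply, ← this, mul_inv_cancel_right])
    have hrel : (Subgroup.zpowers v).relIndex ⊤ = p := by
      have h1 := (Subgroup.zpowers v).card_mul_index
      rw [hord v hv1, hE2, pow_two] at h1
      rw [Subgroup.relIndex_top_right]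
      exact Nat.eq_of_mul_eq_mul_left hp.out.pos h1
    haveI := hvnorm
    have := EssentialFlag.step_stabilised
      (EssentialFlag.smallStep_of_relIndex hp.out (le_top) hrel)
      (α := conjAut E hk.2) (fun y hy => by
        obtain ⟨i, rfl⟩ := Subgroup.mem_zpowers_iff.1 hy
        rw [map_zpow, hfix]
        exact Subgroup.zpow_mem_zpowers v i) (fun y _ => Subgroup.mem_top _)
      (congrArg Subtype.val hm :) x (Subgroup.mem_top x)
    rwa [show (⟨k * (x : Ω) * k⁻¹, hkx⟩ : E) = conjAut E hk.2 x from Subtype.ext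
      (conjAut_apply E hk.2 x).symm]
  -- the normalizer
  obtain ⟨N, hNdef⟩ : ∃ N, N = normalizerIn S E := ⟨_, rfl⟩
  have hNS : N ≤ S := hNdef ▸ inf_le_left
  have hEN : E ≤ N := hNdef ▸ le_normalizerIn hle
  haveI := finite_of_le hNS
  have hgN : g ∈ N := hNdef ▸ hg
  have hN3 : Nat.card N = p ^ 3 := by
    obtain ⟨jN, hjN⟩ : ∃ jN, jN = Subgroup.inclusion hNS := ⟨_, rfl⟩
    have hval : ∀ k : N, ((jN k : S) : Ω) = k := fun k => by rw [hjN]; rfl
    have hin : ∀ k : N, ⁅jN k, ι w⁆ ∈ (Subgroup.zpowers v).map ι := by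
      intro k
      have hk : (k : Ω) ∈ normalizerIn S E := hNdef ▸ k.2
      refine ⟨w⁻¹ * ⟨(k : Ω) * w * (k : Ω)⁻¹, conj_mem_of_mem_normalizer hk.2 w.2⟩,
        hstab k hk w _, ?_⟩
      rw [hVc w⁻¹, map_mul, map_inv, commutatorElement_def]
      congr 1
      exact Subtype.ext (by rw [hιv, Subgroup.coe_mul, Subgroup.coe_mul, Subgroup.coe_inv, hval, hιv])
    let ψ : N →* S := MonoidHom.mk' (fun k : N => ⁅jN k, ι w⁆) fun (k m : N) => by
      have hc : ∀ s : S, Commute ⁅jN m, ι w⁆ s := fun s => by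
        obtain ⟨x, hx, e⟩ := hin m
        obtain ⟨i, rfl⟩ := Subgroup.mem_zpowers_iff.1 hx
        rw [← e, map_zpow]
        exact (hvc s).zpow_left i
      show ⁅jN (k * m), ι w⁆ = ⁅jN k, ι w⁆ * ⁅jN m, ι w⁆
      rw [map_mul, show ⁅jN k * jN m, ι w⁆ = jN k * ⁅jN m, ι w⁆ * (jN k)⁻¹ * ⁅jN k, ι w⁆ by
        simp only [commutatorElement_def]; group, (hc (jN k)).symm.eq, mul_inv_cancel_right,
        (hc _).eq]
    have h1 := ψ.ker.card_mul_index
    rw [Subgroup.index_ker] at h1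
    have h2 : Nat.card ψ.ker ≤ p ^ 2 := by
      rw [← hE2, ← Nat.card_congr (Subgroup.subgroupOfEquivOfLe hEN).toEquiv]
      refine Subgroup.card_le_of_le fun k hk => ?_
      have := hcentw (jN k) (commutatorElement_eq_one_iff_mul_comm.1 hk)
      rwa [hval] at this
    have h3 : Nat.card ψ.range ≤ p := by
      refine (Subgroup.card_le_of_le (show ψ.range ≤ (Subgroup.zpowers v).map ι by
        rintro _ ⟨k, rfl⟩; exact hin k)).trans (le_of_eq ?_)
      rw [Subgroup.card_map_of_injective hιi, hord v hv1]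
    have h4 := (Nat.mul_le_mul h2 h3).trans_eq (pow_succ p 2).symm
    rw [h1] at h4
    obtain ⟨k, hk⟩ := IsPGroup.iff_card.1 (hS.to_le hNS)
    have h5 : Nat.card E < Nat.card N := lt_of_le_of_ne (Subgroup.card_le_of_le hEN) fun e =>
      hgE ((Subgroup.eq_of_le_of_card_ge hEN e.ge).ge hgN)
    rw [hk] at h4
    rw [hE2, hk] at h5
    have := (Nat.pow_lt_pow_iff_right hp.out.one_lt).1 h5
    have := (Nat.pow_le_pow_iff_right hp.out.one_lt).1 h4
    rw [hk, show k = 3 by omega]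
  have hnaN : ¬ ∀ x y : N, x * y = y * x := fun h => hgE (hcentE g hg.1 fun x hx =>
    congrArg Subtype.val (h ⟨g, hgN⟩ ⟨x, hEN hx⟩))
  have hcentN : ∀ k ∈ S, (∀ x ∈ N, k * x = x * k) → k ∈ N := fun k hk hc =>
    hEN (hcentE k hk fun x hx => hc x (hEN hx))
  have hfnN : F.IsFullyNormalized N := by
    refine ⟨hNS, fun Q hQ => ?_⟩
    obtain ⟨f, hf⟩ := isConj_iff.1 hQ
    have hQS := hf.le_right
    haveI := finite_of_le hQS
    have hQ3 : Nat.card Q = p ^ 3 := by
      rw [← hN3]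
      refine (Nat.card_congr (Equiv.ofBijective (fun x : N => (⟨f x, hf.mem x.2⟩ : Q))
        ⟨fun x y e => Subtype.ext (hf.isMap.injOn x.2 y.2 (congrArg Subtype.val e)), fun y => ?_⟩)).symm
      obtain ⟨x, hx, e⟩ := hf.surj y.2
      exact ⟨⟨x, hx⟩, Subtype.ext e⟩
    have hlt : normalizerIn S N ≤ S := inf_le_left
    haveI := finite_of_le hlt
    have hbig : p ^ 4 ≤ Nat.card (normalizerIn S N) := by
      obtain ⟨k, hk⟩ := IsPGroup.iff_card.1 (hS.to_le hlt)
      have hne : N ≠ S := fun e => by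
        rw [e, hM.card] at hN3
        have := Nat.pow_right_injective hp.out.two_le hN3
        omega
      have h1 : Nat.card N < Nat.card (normalizerIn S N) :=
        lt_of_le_of_ne (Subgroup.card_le_of_le (le_normalizerIn hNS)) fun e =>
          (lt_normalizerIn hS hNS hne).ne
            (Subgroup.eq_of_le_of_card_ge (le_normalizerIn hNS) e.ge)
      rw [hN3, hk] at h1
      rw [hk]
      exact Nat.pow_le_pow_right hp.out.pos ((Nat.pow_lt_pow_iff_right hp.out.one_lt).1 h1)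
    have hQlt : normalizerIn S Q ≤ S := inf_le_left
    haveI := finite_of_le hQlt
    obtain ⟨k, hk⟩ := IsPGroup.iff_card.1 (hS.to_le hQlt)
    have h1 := Subgroup.card_le_of_le hQlt
    rw [hk, hM.card] at h1
    have hk5 := (Nat.pow_le_pow_iff_right hp.out.one_lt).1 h1
    rcases (show k ≤ 4 ∨ k = 5 by omega) with hk4 | rfl
    · rw [hk]
      exact (Nat.pow_le_pow_right hp.out.pos hk4).trans hbig
    · exfalso
      have hQN : normalizerIn S Q = S :=
        Subgroup.eq_of_le_of_card_ge hQlt (by rw [hk, hM.card])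
      haveI : (Q.subgroupOf S).Normal := ⟨fun x hx s => by
        have hsN : (s : Ω) ∈ normalizerIn S Q := by rw [hQN]; exact s.2
        exact Subgroup.mem_subgroupOf.2 (conj_mem_of_mem_normalizer (P := Q) hsN.2 hx)⟩
      have hQ1 := eq_gamma_one hM (K := Q.subgroupOf S) (by
        rw [Nat.card_congr (Subgroup.subgroupOfEquivOfLe hQS).toEquiv, hQ3])
      refine hnaN fun x y => Subtype.ext (hf.isMap.injOn (x * y).2 (y * x).2 ?_)
      rw [Subgroup.coe_mul, Subgroup.coe_mul, hf.isMap.map_mul x.2 y.2, hf.isMap.map_mul y.2 x.2]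
      have hx1 : (⟨f x, hQS (hf.mem x.2)⟩ : S) ∈ Γ S 1 := hQ1.le (hf.mem x.2)
      have hy1 : (⟨f y, hQS (hf.mem y.2)⟩ : S) ∈ Γ S 1 := hQ1.le (hf.mem y.2)
      exact congrArg Subtype.val (MaxFive.gamma_one_comm hp2 hM hx1 hy1).eq
  -- extending the diagonal automorphisms
  have hext : ∀ γ ∈ F.autGroup E, γ v ∈ Subgroup.zpowers v →
      ∃ σ ∈ F.autGroup S, ∀ x : E, σ (ι x) = ι (γ x) := by
    intro γ hγ hγv
    have hnorm := normalises_of_series hS hF hE.2.1 L 2 (by rw [hL]; simp) (by rw [hL]; simp)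
      (fun i hi => by interval_cases i <;> simp [hL]) hγ
      (fun i hi x hx => by
        interval_cases i
        · simp only [hL, if_true, Subgroup.mem_bot] at hx ⊢
          rw [hx, map_one]
        · simp only [hL, one_ne_zero, if_false, if_true] at hx ⊢
          obtain ⟨j, rfl⟩ := Subgroup.mem_zpowers_iff.1 hx
          rw [map_zpow]
          exact Subgroup.zpow_mem _ hγv j
        · simp [hL])
      fun k hk i hi x hx hkx => by
        interval_cases i
        · simp only [hL, zero_add, one_ne_zero, if_false, if_true, Subgroup.mem_bot] at hx ⊢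
          obtain ⟨j, rfl⟩ := Subgroup.mem_zpowers_iff.1 hx
          refine inv_mul_eq_one.2 (Subtype.ext ?_)
          show ((v ^ j : E) : Ω) = k * ((v ^ j : E) : Ω) * k⁻¹
          have := congrArg Subtype.val ((hvc ⟨k, hk.1⟩).zpow_left j).eq
          simp only [Subgroup.coe_mul, Subgroup.coe_zpow, hιv] at this
          rw [Subgroup.coe_zpow, ← this, mul_inv_cancel_right]
        · simp only [hL, one_ne_zero, if_false, if_true]
          exact hstab k hk x hkx
    obtain ⟨f, hf, hfv⟩ := exists_extend hS hF hE.2.1 hγ hnorm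
    rw [← hNdef] at hf
    obtain ⟨α, hα, hαv⟩ := exists_mem_autGroup hf
    haveI := finite_mulAut N
    obtain ⟨σ, hσ, hv⟩ := extend_three hS hF hM hp2 hfnN hN3 hnaN hcentN hα (fun δ hδ => by
      have hδG := autInducedBy_le_autGroup (F := F) hNS hδ
      obtain ⟨k, hk, hkv⟩ := (mem_autInducedBy_iff S N δ).1 hδ
      have hkN : k ∈ normalizerIn S N := mem_normalizerIn_of_induces hNS hk hkv
      have hcore := three_pCore hS hF hM hp2 hT hfnN hN3 hnaN hcentN hkN
        (autInducedBy_le_autGroup hNS (conjAut_mem_autInducedBy hkN.2 hkN.1))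
      have hδc : (⟨δ, hδG⟩ : F.autGroup N) ∈ Cfsg.pCore p (F.autGroup N) := by
        have e : δ = conjAut N hkN.2 := MulEquiv.ext fun x => Subtype.ext (by
          rw [hkv, conjAut_apply])
        subst e
        exact hcore
      haveI := CfsgLib.Fitting.pCore_normal (G := F.autGroup N) p
      exact pCore_le_autInducedBy hS hF hfnN (β := ⟨α, hα⟩ * ⟨δ, hδG⟩ * ⟨α, hα⟩⁻¹)
        ((inferInstance : (Cfsg.pCore p (F.autGroup N)).Normal).conj_mem _ hδc _))
    refine ⟨σ, hσ, fun x => Subtype.ext ?_⟩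
    rw [hv ⟨x, hEN x.2⟩ (ι x) (hιv x), hαv, hιv, ← hfv x]
  obtain ⟨d, hdK, k, hk, hdv, hdw, -⟩ := exists_torus (hp.out.odd_of_ne_two hp2) (hVc v w)
    (hexp v) (hexp w) hav haw hbw hbv a.2 b.2
  obtain ⟨r, hrK, -, -, hrv, hrw, -⟩ := exists_inverting (hVc v w) hav haw hbw hbv a.2 b.2
  refine ⟨?_, ?_⟩
  · obtain ⟨σ, -, hσ⟩ := hext d hdK (hdv ▸ Subgroup.zpow_mem_zpowers v 2)
    obtain ⟨q, -, hqT, -, -, hq3⟩ := MaxFive.weights hp2 hM hT σ
    have hkq := hqT _ hwT k (by rw [hσ, hdw, map_zpow, inv_mul_cancel]; exact one_mem _)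
    have ho : orderOf (ι v) = p := orderOf_eq_prime (by rw [← map_pow, hexp, map_one])
      fun e => hv1 (hιi (e.trans (map_one _).symm))
    have e5 := zpow_eq_zpow_zmod ho
      (show ι v ^ (q ^ 5) = ι v ^ (2 : ℤ) by rw [← hq3 _ hv3, hσ, hdv, map_zpow])
    push_cast at e5 hk
    rw [← hkq] at e5
    have h6 : (k : ZMod p) ^ 6 = 1 := by linear_combination (k : ZMod p) * e5 + hk
    have h64 : ((63 : ℕ) : ZMod p) = 0 := by
      have : (2 * (k : ZMod p)) ^ 6 = 1 := by rw [hk, one_pow]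
      push_cast
      linear_combination this - 64 * h6
    rw [ZMod.natCast_eq_zero_iff, show (63 : ℕ) = 3 ^ 2 * 7 by norm_num] at h64
    rcases hp.out.dvd_mul.1 h64 with h | h
    · exact (Nat.prime_dvd_prime_iff_eq hp.out Nat.prime_three).1 (hp.out.dvd_of_dvd_pow h)
    · exact absurd ((Nat.prime_dvd_prime_iff_eq hp.out (by norm_num)).1 h) hp7
  intro χ hχ γ _ x hx hy
  obtain ⟨ψ, hψ⟩ : ∃ ψ, ψ = χ.comp ι := ⟨_, rfl⟩
  have hψv : ∀ (y : E) (hy : (y : Ω) ∈ S), ψ y = χ ⟨y, hy⟩ := fun y hy => by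
    rw [hψ]
    exact congrArg χ (Subtype.ext (hιv y) : ι y = ⟨y, hy⟩)
  have hv0 : ψ v = 1 := by
    rw [hψ]
    show χ (ι v) = 1
    have h1 : Γ S 1 ≤ χ.ker := by
      show (⊤ : Subgroup S).lowerCentralSeries 1 ≤ _
      rw [Subgroup.top_lowerCentralSeries_one, commutator_def, Subgroup.commutator_le]
      exact fun s _ t _ => map_commutator_eq_one χ s t
    exact h1 (gamma_anti (by omega) hv3)
  have hw0 : ψ w = 1 := by
    obtain ⟨σ, hσ, hv⟩ := hext _ (mul_mem hrK hrK) (hrv ▸ inv_mem (Subgroup.mem_zpowers v))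
    have e := hχ σ hσ (ι w)
    rw [hv, hrw, map_inv, map_inv] at e
    rw [hψ]
    show χ (ι w) = 1
    generalize χ (ι w) = u at e ⊢
    have hu2 : u * u = 1 := by
      calc u * u = u⁻¹ * u := by rw [e]
        _ = 1 := inv_mul_cancel u
    have hup : u ^ p = 1 := by
      have := pow_card_eq_one' (x := u)
      rwa [Nat.card_congr Multiplicative.toAdd, Nat.card_zmod] at this
    obtain ⟨j, hj⟩ := hp.out.odd_of_ne_two hp2
    replace hup : u ^ (2 * j + 1) = 1 := (congrArg (u ^ ·) hj).symm.trans hup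
    rwa [pow_succ, pow_mul, pow_two, hu2, one_pow, one_mul] at hup
  have hk0 : ∀ y, ψ y = 1 := fun y =>
    (sup_le (Subgroup.zpowers_le.2 hv0) (Subgroup.zpowers_le.2 hw0) :
      Subgroup.zpowers v ⊔ Subgroup.zpowers w ≤ ψ.ker) (hspan.ge (Subgroup.mem_top y))
  rw [← hψv, ← hψv, hk0, hk0]

/-- For `p = 3` there is a functional invariant under `Aut_F(S)`. -/
theorem exists_chi_max (hS : IsPGroup p S) (hF : F.IsSaturated p) (hM : MC S p 5) (hp3 : p = 3)
    (hT : ¬ ∀ a ∈ twoStep S 1, ∀ b ∈ twoStep S 1, a * b = b * a) :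
    ∃ (χ : S →* Multiplicative (ZMod p)) (l : S),
      (∀ σ ∈ F.autGroup S, ∀ x, χ (σ x) = χ x) ∧ χ l ≠ 1 := by
  obtain ⟨χ₀, e, heT, he1, hne, hk⟩ := MaxFive.exists_functional hM
  obtain ⟨χ, h1, h2⟩ := exists_invariant hS hF χ₀ hne fun σ _ => by
    obtain ⟨q, hq0, -, -, hqq, -⟩ := MaxFive.weights (by omega) hM hT σ
    have hq1 : ((q * q : ℤ) : ZMod p) = 1 := by
      push_cast
      exact TypeT.sq_eq_one_of_three hp3 hq0
    have h3 := hk _ (hqq e heT)
    rw [map_mul, map_inv, map_zpow, inv_mul_eq_one] at h3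
    rw [← h3]
    have h4 : χ₀ e ^ p = 1 := by
      have := pow_card_eq_one' (x := χ₀ e)
      rwa [Nat.card_congr Multiplicative.toAdd, Nat.card_zmod] at this
    obtain ⟨j, hj⟩ := (ZMod.intCast_zmod_eq_zero_iff_dvd (q * q - 1) p).1 (by
      rw [Int.cast_sub, hq1, Int.cast_one, sub_self])
    rw [show q * q = 1 + (p : ℤ) * j by omega, zpow_add, zpow_one, zpow_mul, zpow_natCast, h4,
      one_zpow, mul_one]
  exact ⟨χ, e, h1, h2⟩

end CfsgLib.OrderPFive
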