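import Mathlib
import Cfsg.Agent.Lib.Fusion.OrderPFive.CaseFour
import Cfsg.Agent.Lib.Fusion.OrderPFive.CaseCube
import Cfsg.Agent.Lib.Fusion.OrderPFive.MaxPearlTwo

/-!
A core-free saturated fusion system with full hyperfocal subgroup on a group of order `p ^ 5`
(`p` odd, `p ≠ 7`) needs an abelian subgroup of index `p`.
-/

set_option autoImplicit false
set_option linter.style.haveILetI false
set_option linter.unusedSectionVars false

namespace CfsgLib.OrderPFive

open Cfsg Cfsg.FusionSystem CfsgLib.Fusion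
open CfsgLib.Fusion.MaxClassCube (Cube)
open CfsgLib.MaxClassLayers (MC twoStep twoStep_index)

universe u

variable {Ω : Type u} [Group Ω] {S : Subgroup Ω} [Finite S] {F : FusionSystem S} {p : ℕ}
  [hp : Fact p.Prime]

/-- Elementary abelian of order `p ^ 2`, elementary abelian of order `p ^ 3`, nonabelian of order
`p ^ 3`, or of order `p ^ 4`. -/
theorem essential_shape (hS : IsPGroup p S) (hF : F.IsSaturated p)
    (hcard : Nat.card S = p ^ 5)
    (hno : ∀ K : Subgroup Ω, K ≤ S → IsMulCommutative K → (K.subgroupOf S).index ≠ p)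
    {E : Subgroup Ω} (hE : F.IsEssential p E) :
    (Nat.card E = p ^ 2 ∧ (∀ x : E, x ^ p = 1) ∧ IsMulCommutative E) ∨ Cube F p E ∨
      (Nat.card E = p ^ 3 ∧ ¬ ∀ a b : E, a * b = b * a) ∨ Nat.card E = p ^ 4 := by
  classical
  have hES : E ≤ S := hE.1.1
  haveI := finite_of_le hES
  obtain ⟨k, hk⟩ := IsPGroup.iff_card.1 (hS.to_le hES)
  have hk4 : k ≤ 4 := by
    have h1 : Nat.card E < Nat.card S := lt_of_le_of_ne (Subgroup.card_le_of_le hES) fun e =>
      ne_of_isEssential hS hF hE (Subgroup.eq_of_le_of_card_ge hES e.ge)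
    rw [hk, hcard] at h1
    have := (Nat.pow_lt_pow_iff_right hp.out.one_lt).1 h1
    omega
  by_cases hk' : k = 4
  · subst hk'; exact Or.inr (Or.inr (Or.inr hk))
  by_cases hab : ∀ a b : E, a * b = b * a
  · have hcm : IsMulCommutative E := ⟨⟨hab⟩⟩
    obtain ⟨m, H, iH, hm, ⟨e⟩⟩ := EssentialFlag.repeated_of_abelian hS hF hE hcm
    have hc := Nat.card_congr e.toEquiv
    rw [Nat.card_prod, Nat.card_prod, Nat.card_congr (Multiplicative.toAdd (α := ZMod (p ^ m))),
      Nat.card_zmod, hk] at hc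
    have hH0 : Nat.card H ≠ 0 := fun h0 => by
      rw [h0, mul_zero] at hc
      exact pow_ne_zero k hp.out.ne_zero hc
    have hle : p ^ (m + m) ≤ p ^ k := by
      rw [pow_add, hc]
      exact Nat.le_mul_of_pos_right _ (Nat.pos_of_ne_zero hH0)
    have hmk := (Nat.pow_le_pow_iff_right hp.out.one_lt).1 hle
    obtain rfl : m = 1 := by omega
    rw [← pow_add] at hc
    have hH : Nat.card H = p ^ (k - 2) := by
      refine Nat.eq_of_mul_eq_mul_left (pow_pos hp.out.pos (1 + 1)) ?_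
      rw [← hc, ← pow_add]
      congr 1
      omega
    have hexp : ∀ a : E, a ^ p = 1 := by
      intro a
      have h1 : ∀ v : Multiplicative (ZMod (p ^ 1)), v ^ p = 1 := fun v => by
        have := pow_card_eq_one' (x := v)
        rw [Nat.card_congr Multiplicative.toAdd, Nat.card_zmod] at this
        exact (congrArg (v ^ ·) (pow_one p)).symm.trans this
      have h2 : ∀ v : H, v ^ p = 1 := fun v => by
        have h := pow_card_eq_one' (x := v)
        rw [hH] at h
        rcases (show k - 2 = 0 ∨ k - 2 = 1 by omega) with e0 | e0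
        · rw [e0, pow_zero, pow_one] at h; rw [h, one_pow]
        · rwa [e0, pow_one] at h
      refine e.injective ?_
      rw [map_pow, map_one]
      exact Prod.ext (Prod.ext (h1 _) (h1 _)) (h2 _)
    rcases (show k = 2 ∨ k = 3 by omega) with rfl | rfl
    · exact Or.inl ⟨hk, hexp, hcm⟩
    · exact Or.inr (Or.inl ⟨hS, hF, hE, hk,
        fun a ha b hb => congrArg Subtype.val (hab ⟨a, ha⟩ ⟨b, hb⟩),
        fun a ha => congrArg Subtype.val (hexp ⟨a, ha⟩)⟩)
  · obtain ⟨i, hi1, hi2, -, -⟩ := EssentialShapes.center_bound (p := p) hab hk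
    obtain rfl : k = 3 := by omega
    exact Or.inr (Or.inr (Or.inl ⟨hk, hab⟩))

theorem abelian_of_reduced (hS : IsPGroup p S) (hF : F.IsSaturated p) (hp2 : p ≠ 2) (hp7 : p ≠ 7)
    (hcard : Nat.card S = p ^ 5) (hcore : F.core = ⊥) (hhyp : F.hyperfocalSubgroup p = S) :
    ∃ A : Subgroup Ω, A ≤ S ∧ IsMulCommutative ↥A ∧ (A.subgroupOf S).index = p := by
  classical
  by_contra hcon
  push Not at hcon
  have hno : ∀ K : Subgroup Ω, K ≤ S → IsMulCommutative K → (K.subgroupOf S).index ≠ p :=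
    fun K hK hc => hcon K hK hc
  -- a group of maximal class
  have hMC : ∀ E, F.IsEssential p E →
      ((Nat.card E = p ^ 2 ∧ (∀ x : E, x ^ p = 1) ∧ IsMulCommutative E) ∨
        (Nat.card E = p ^ 3 ∧ ¬ ∀ a b : E, a * b = b * a)) →
      MC S p 5 ∧ ¬ ∀ a ∈ twoStep S 1, ∀ b ∈ twoStep S 1, a * b = b * a := by
    intro E hE hsh
    obtain ⟨n, x, hset⟩ := Pearls.exists_setting hS hF hp2 hE (by
      rcases hsh with ⟨h1, h2, h3⟩ | ⟨h1, h2⟩
      · exact Or.inl ⟨h1, fun x hx => ⟨congrArg Subtype.val (h2 ⟨x, hx⟩), h3⟩⟩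
      · exact Or.inr ⟨h1, fun h => h2 h.is_comm.comm⟩)
    have hn : n = 5 := Nat.pow_right_injective hp.out.two_le (hset.card.symm.trans hcard)
    subst hn
    have hM : MC S p 5 := ⟨hset.card, UniserialPower.class_eq hset, hset.three_le⟩
    exact ⟨hM, fun h => noAb_of hno _ h (twoStep_index hM le_rfl (by omega))⟩
  have hshape : ∀ E, F.IsEssential p E →
      (Nat.card E = p ^ 2 ∧ (∀ x : E, x ^ p = 1) ∧ IsMulCommutative E) ∨ Cube F p E ∨
        Nat.card E = p ^ 4 := by
    intro E hE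
    rcases essential_shape hS hF hcard hno hE with h | h | ⟨h3, hna⟩ | h
    · exact Or.inl h
    · exact Or.inr (Or.inl h)
    · obtain ⟨hM, hT⟩ := hMC E hE (Or.inr ⟨h3, hna⟩)
      exact (false_of_pearl_three hS hF hM hp2 hT hE h3 hna).elim
    · exact Or.inr (Or.inr h)
  have hTT : ∀ E, F.IsEssential p E → (Cube F p E ∨ Nat.card E = p ^ 4) →
      p = 3 ∧ ∃ (M : Subgroup S) (A C : Subgroup S) (s y l : S), TypeT p M A C s y l := by
    rintro E hE (h | h)
    · exact (cube_facts h hp2 hcard hno).1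
    · obtain ⟨A, C, s, y, h4⟩ := exists_four_of_essential hS hF hp2 hcard hno hE h
      exact h4.essential_facts hE
  obtain ⟨E₀, hE₀⟩ := exists_essential hS hF hcore (fun e => by
    rw [e, Subgroup.card_bot] at hcard
    exact (Nat.one_lt_pow (by norm_num) hp.out.one_lt).ne hcard)
  suffices ∃ (χ : S →* Multiplicative (ZMod p)) (l : S), χ l ≠ 1 ∧
      (∀ σ ∈ F.autGroup S, ∀ x, χ (σ x) = χ x) ∧ ∀ P, F.IsEssential p P →
        ∀ α ∈ F.autGroup P, ∀ (x : P) (hx : (x : Ω) ∈ S) (hy : (α x : Ω) ∈ S),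
          χ ⟨α x, hy⟩ = χ ⟨x, hx⟩ by
    obtain ⟨χ, l, hl, hχ, hP⟩ := this
    refine false_of_functional hS hF hhyp χ hl ?_
    rintro P (rfl | hess) α hα x hx hy
    · exact hχ α hα x
    · exact hP P hess α hα x hx hy
  by_cases hpearl : ∃ E, F.IsEssential p E ∧ Nat.card E = p ^ 2 ∧ (∀ x : E, x ^ p = 1) ∧
      IsMulCommutative E
  · obtain ⟨E, hE, h2, hexp, hcm⟩ := hpearl
    obtain ⟨hM, hT⟩ := hMC E hE (Or.inl ⟨h2, hexp, hcm⟩)
    have hp3 := (pearl_two_facts hS hF hM hp2 hp7 hT hE h2 hexp).1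
    obtain ⟨χ, l, hχ, hl⟩ := exists_chi_max hS hF hM hp3 hT
    refine ⟨χ, l, hl, hχ, fun P hP => ?_⟩
    rcases hshape P hP with ⟨h2', hexp', -⟩ | hother
    · exact (pearl_two_facts hS hF hM hp2 hp7 hT hP h2' hexp').2 χ hχ
    · obtain ⟨-, M, A, C, s, y, l, hTy⟩ := hTT P hP hother
      exact absurd hM hTy.not_mc
  · have hother : ∀ P, F.IsEssential p P → Cube F p P ∨ Nat.card P = p ^ 4 := fun P hP =>
      (hshape P hP).resolve_left fun h => hpearl ⟨P, hP, h⟩
    obtain ⟨hp3, M, A, C, s, y, l, hTy⟩ := hTT E₀ hE₀ (hother E₀ hE₀)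
    obtain ⟨χ, hχ, hl⟩ := exists_chi hTy hp3 hS hF
    refine ⟨χ, l, hl, hχ, fun P hP α hα x hx hy => ?_⟩
    rcases hother P hP with h | h
    · exact (cube_facts h hp2 hcard hno).2 χ hχ α hα x hx hy
    · obtain ⟨A', C', s', y', h4⟩ := exists_four_of_essential hS hF hp2 hcard hno hP h
      exact h4.chi_invariant hp3 χ hχ α hα x

end CfsgLib.OrderPFive
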